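import Cfsg.Agent.H3.Lift

/-! # Derangements and orbit counting -/

namespace H3.Der
open MulAction Subgroup Finset
variable (G Ω : Type*) [Group G] [MulAction G Ω]

theorem burn [Fintype G] [Finite Ω] :
    ∑ g : G, Nat.card (fixedBy Ω g) = Nat.card (orbitRel.Quotient G Ω) * Nat.card G := by
  classical
  haveI := Fintype.ofFinite Ω
  have := sum_card_fixedBy_eq_card_orbits_mul_card_group G Ω
  simpa only [Nat.card_eq_fintype_card] using this

theorem orb_one [IsPretransitive G Ω] [Nonempty Ω] : Nat.card (orbitRel.Quotient G Ω) = 1 := by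
  haveI := (pretransitive_iff_subsingleton_quotient G Ω).1 ‹_›
  haveI : Nonempty (orbitRel.Quotient G Ω) := ⟨Quotient.mk'' (Classical.arbitrary Ω)⟩
  exact Nat.card_unique

theorem trans_of_le [Finite Ω] (h : Nat.card (orbitRel.Quotient G Ω) ≤ 1) : IsPretransitive G Ω :=
  (pretransitive_iff_subsingleton_quotient G Ω).2 (Finite.card_le_one_iff_subsingleton.1 h)

variable {G} in
theorem fix_prod (Ω' : Type*) [MulAction G Ω'] (g : G) :
    Nat.card (fixedBy (Ω × Ω') g) = Nat.card (fixedBy Ω g) * Nat.card (fixedBy Ω' g) := by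
  rw [← Nat.card_prod]
  exact Nat.card_congr ((Equiv.subtypeEquivRight fun _ => Prod.ext_iff).trans     (Equiv.subtypeProdEquivProd (p := fun x => g • x = x) (q := fun x => g • x = x)))

variable {G} in
theorem fix_one : Nat.card (fixedBy Ω (1 : G)) = Nat.card Ω := by simp

variable {G Ω} in
theorem fix_le [Finite Ω] (g : G) : Nat.card (fixedBy Ω g) ≤ Nat.card Ω := Finite.card_subtype_le _

variable {G Ω} in
theorem fix_zero [Finite Ω] {g : G} : Nat.card (fixedBy Ω g) = 0 ↔ ∀ ω : Ω, g • ω ≠ ω := by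
  rw [Finite.card_eq_zero_iff, isEmpty_subtype]; rfl

variable {G Ω} in
theorem fix_all [Finite Ω] {g : G} (h : Nat.card Ω ≤ Nat.card (fixedBy Ω g)) (ω : Ω) : g • ω = ω :=
  ((Set.eq_univ_iff_ncard (fixedBy Ω g)).2 (le_antisymm (fix_le g) h)).ge (Set.mem_univ ω)

/-- rank two means doubly transitive -/
theorem rank_two [Finite Ω] [Nontrivial Ω] : 2 ≤ Nat.card (orbitRel.Quotient G (Ω × Ω)) ∧
    (Nat.card (orbitRel.Quotient G (Ω × Ω)) = 2 → ∀ a b c d : Ω, a ≠ b → c ≠ d → ∃ g : G, g • a = c ∧ g • b = d) ∧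
    (IsPretransitive G Ω → (∀ a b c d : Ω, a ≠ b → c ≠ d → ∃ g : G, g • a = c ∧ g • b = d) →
      Nat.card (orbitRel.Quotient G (Ω × Ω)) = 2) := by
  have ne : ∀ a b : Ω, a ≠ b → (Quotient.mk'' (a, a) : orbitRel.Quotient G (Ω × Ω)) ≠ Quotient.mk'' (a, b) :=
    fun a b h e => by
      obtain ⟨g, e⟩ := Quotient.exact' e
      exact h (smul_left_cancel g ((congrArg Prod.fst e).trans (congrArg Prod.snd e).symm))
  have ne' : ∀ a c d : Ω, c ≠ d → (Quotient.mk'' (a, a) : orbitRel.Quotient G (Ω × Ω)) ≠ Quotient.mk'' (c, d) :=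
    fun a c d h e => by
      obtain ⟨g, e⟩ := Quotient.exact' e
      exact h (smul_left_cancel g ((congrArg Prod.fst e).trans (congrArg Prod.snd e).symm))
  obtain ⟨x, y, h⟩ := exists_pair_ne Ω
  refine ⟨Finite.one_lt_card_iff_nontrivial.2 ⟨_, _, ne x y h⟩, fun e a b c d h1 h2 => ?_, fun _ H => ?_⟩
  · obtain ⟨u, -, hu⟩ := (Nat.card_eq_two_iff' (Quotient.mk'' (a, a))).1 e
    obtain ⟨g, e⟩ := Quotient.exact' ((hu _ (ne' a c d h2).symm).trans (hu _ (ne a b h1).symm).symm)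
    exact ⟨g, congrArg Prod.fst e, congrArg Prod.snd e⟩
  · refine Nat.card_eq_two_iff.2 ⟨_, _, ne x y h, Set.eq_univ_of_forall fun q => ?_⟩
    obtain ⟨⟨a, b⟩, rfl⟩ := Quotient.exists_rep q
    by_cases e : a = b
    · obtain ⟨g, k⟩ := exists_smul_eq G x a
      exact .inl (Quotient.sound' ⟨g, Prod.ext k (k.trans e)⟩)
    · obtain ⟨g, k1, k2⟩ := H x y a b h e
      exact .inr (Quotient.sound' ⟨g, Prod.ext k1 k2⟩)

variable {G Ω} in
theorem der [Finite G] [Finite Ω] [IsPretransitive G Ω] [Nonempty Ω] (D : Subgroup G)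
    (h : ∀ g : G, (∀ ω : Ω, g • ω ≠ ω) → g ∈ D) :
    IsPretransitive D Ω ∧ ∀ g ∉ D, Nat.card (fixedBy Ω g) = 1 := by
  classical
  haveI := Fintype.ofFinite G
  have b1 := burn G Ω
  have b2 := burn D Ω
  rw [orb_one, one_mul, ← sum_filter_add_sum_filter_not univ (· ∈ D)] at b1
  replace b2 := (sum_subtype (univ.filter (· ∈ D)) (p := (· ∈ D)) (by simp) (fun g => Nat.card (fixedBy Ω g))).trans b2
  have c : #(univ.filter (· ∈ D)) + #(univ.filter (· ∉ D)) = Nat.card G := by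
    rw [card_filter_add_card_filter_not, card_univ, Nat.card_eq_fintype_card]
  have c1 : #(univ.filter (· ∈ D)) = Nat.card D := by rw [Nat.card_eq_fintype_card, Fintype.card_subtype]
  have l : ∀ g ∈ univ.filter (· ∉ D), 1 ≤ Nat.card (fixedBy Ω g) := fun g k =>
    Nat.pos_of_ne_zero fun z => (mem_filter.1 k).2 (h g (fix_zero.1 z))
  have s := sum_le_sum l
  rw [← card_eq_sum_ones] at s
  have p : 0 < Nat.card D := Nat.card_pos
  haveI : Nonempty (orbitRel.Quotient D Ω) := ⟨Quotient.mk'' (Classical.arbitrary Ω)⟩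
  have q : 0 < Nat.card (orbitRel.Quotient D Ω) := Nat.card_pos
  have : Nat.card (orbitRel.Quotient D Ω) ≤ 1 := by nlinarith
  refine ⟨trans_of_le _ _ this, fun g k => ?_⟩
  rw [le_antisymm this q, one_mul] at b2
  exact ((sum_eq_sum_iff_of_le l).1 (by rw [← card_eq_sum_ones]; omega) g (by simpa using k)).symm

variable {G Ω} in
theorem der_dvd [Finite G] [Finite Ω] [IsPretransitive G Ω] [Nonempty Ω] (D : Subgroup G) [D.Normal]
    (h : ∀ g : G, (∀ ω : Ω, g • ω ≠ ω) → g ∈ D) (a : Ω) :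
    D.index = D.relIndex (stabilizer G a) ∧ (∀ b ≠ a, stabilizer G a ⊓ stabilizer G b ≤ D) ∧ D.index ∣ Nat.card Ω - 1 := by
  obtain ⟨t, f⟩ := der D h
  have e : D.index = D.relIndex (stabilizer G a) := by
    rw [← relIndex_sup_left, ← relIndex_top_right]
    congr 1
    refine (eq_top_iff.2 fun g _ => ?_).symm
    obtain ⟨d, k⟩ := exists_smul_eq D a (g • a)
    rw [← mul_inv_cancel_left (d : G) g]
    exact mul_mem (mem_sup_left d.2) (mem_sup_right (show ((d : G)⁻¹ * g) • a = a by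
      rw [mul_smul, inv_smul_eq_iff]; exact k.symm))
  have l : ∀ b ≠ a, stabilizer G a ⊓ stabilizer G b ≤ D := fun b hb g k => by
    by_contra z
    haveI := (Nat.card_eq_one_iff_unique.1 (f g z)).1
    exact hb (congrArg Subtype.val (Subsingleton.elim (⟨b, k.2⟩ : fixedBy Ω g) ⟨a, k.1⟩))
  refine ⟨e, l, ?_⟩
  have := H3.dvd_card_of_forall_index (G := stabilizer G a) (X := SubMulAction.ofStabilizer G a) (d := D.index) fun x => by
    rw [e]
    exact index_dvd_of_le fun g k => l x x.2 ⟨g.2, congrArg Subtype.val k⟩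
  rwa [← SubMulAction.nat_card_ofStabilizer_add_one_eq G a, Nat.add_sub_cancel]

theorem normal : (Subgroup.closure {g : G | ∀ ω : Ω, g • ω ≠ ω}).Normal :=
  normalizer_eq_top_iff.1 (eq_top_iff.2 fun x _ => by
    have : ∀ x : G, ∀ g ∈ Subgroup.closure {g : G | ∀ ω : Ω, g • ω ≠ ω},
        x * g * x⁻¹ ∈ Subgroup.closure {g : G | ∀ ω : Ω, g • ω ≠ ω} := fun x g k => by
      refine (closure_le (K := (Subgroup.closure {g : G | ∀ ω : Ω, g • ω ≠ ω}).comap (MulAut.conj x).toMonoidHom)).2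
        (fun g (k : ∀ ω : Ω, g • ω ≠ ω) => Subgroup.subset_closure fun ω e => k (x⁻¹ • ω) ?_) k
      have e : (x * g * x⁻¹) • ω = ω := e
      rwa [mul_smul, mul_smul, smul_eq_iff_eq_inv_smul] at e
    exact fun g => ⟨this x g, fun k => by simpa [mul_assoc] using this x⁻¹ _ k⟩)

end H3.Der
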