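import Cfsg.Agent.H3.Grp
import Cfsg.Agent.H1.Top
import Cfsg.Agent.H1.Frob

/-! # Counting classes and characters -/

open Cfsg H7
open scoped ComplexConjugate commutatorElement
set_option maxSynthPendingDepth 3

namespace H3
open H3

noncomputable section
universe u
variable {G : Type*} [Group G] {A C E H K L M N P Q S : Subgroup G} {α β χ ψ ϑ φ : G → ℂ} {p q : ℕ}

theorem card_quot_eq {X Z : Type*} [MulAction G X] (r : Z → Z → Prop) (f : Z → X) (s : Function.Surjective f)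
    (h : ∀ a b, r a b ↔ ∃ g : G, g • f a = f b) : Nat.card (Quot r) = Nat.card (MulAction.orbitRel.Quotient G X) := by
  refine Nat.card_eq_of_bijective (Quot.lift (fun a => Quotient.mk _ (f a)) fun a b e => ?_) ⟨?_, ?_⟩
  · exact Quotient.sound' ((MulAction.orbitRel G X).symm ((h a b).1 e))
  · rintro ⟨a⟩ ⟨b⟩ e
    exact Quot.sound ((h a b).2 ((MulAction.orbitRel G X).symm (Quotient.exact e)))
  · rintro ⟨x⟩
    obtain ⟨a, rfl⟩ := s x
    exact ⟨Quot.mk _ a, rfl⟩

theorem card_orbits_eq [Finite G] {X Y : Type*} [MulAction G X] [MulAction G Y] [Finite X] [Finite Y]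
    (h : ∀ g : G, Nat.card (MulAction.fixedBy X g) = Nat.card (MulAction.fixedBy Y g)) :
    Nat.card (MulAction.orbitRel.Quotient G X) = Nat.card (MulAction.orbitRel.Quotient G Y) := by
  haveI := Fintype.ofFinite G
  have := inner_fixedBy_one (G := G) X
  simp only [h, inner_fixedBy_one] at this
  exact_mod_cast this.symm

theorem mk_eq_mk_sub {a b : H} : ConjClasses.mk a = ConjClasses.mk b ↔ ∃ x ∈ H, x * a * x⁻¹ = b := by
  simp [ConjClasses.mk_eq_mk_iff_isConj, Subtype.ext_iff]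

theorem isConj_sub {a b : H} : IsConj a b ↔ ∃ x ∈ H, x * a * x⁻¹ = b := by
  rw [← mk_eq_mk_sub, ConjClasses.mk_eq_mk_iff_isConj]

/-- real classes -/
def RealC (C : ConjClasses G) : Prop := ∀ k, ConjClasses.mk k = C → IsConj k k⁻¹

theorem realC_mk {g : G} : RealC (ConjClasses.mk g) ↔ IsConj g g⁻¹ :=
  ⟨fun h => h g rfl, fun h k e => by
    have := ConjClasses.mk_eq_mk_iff_isConj.1 e
    exact this.trans (h.trans (isConj_inv_iff.2 this.symm))⟩

variable [Finite G]

theorem real_iff (h : Ch G χ) : (∀ g, (χ g).im = 0) ↔ (fun g => χ g⁻¹) = χ := by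
  rw [← conj_eq_iff_im]; simp only [h.map_inv]

theorem card_real : Nat.card {χ : IrrCharacter G // ∀ g, (χ.1 g).im = 0} = Nat.card {C : ConjClasses G // RealC C} := by
  rw [← card_fixed_irr (fun g => g⁻¹) (fun χ h => h.comp_inv) _ fun g => realC_mk]
  exact Nat.card_congr (Equiv.subtypeEquivRight fun χ => real_iff χ.2.isCharacter)

theorem conj_in_cen (h : Cop S K) {c d x : G} (hc : c ∈ cen S) (hd : d ∈ cen S) (a : x ∈ K) (b : x * c * x⁻¹ = d) :
    ∃ y ∈ K ⊓ cen S, y * c * y⁻¹ = d := by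
  obtain ⟨y, f, i⟩ := H1.glauberman_conj h.norm h.cop h.solv (U := cen1 c) (le_cen1_iff.2 hc) a
    fun s u => mem_cen1.2 (by
      have := mem_cen.1 hd s u
      rw [← b] at this
      simpa [mul_assoc] using congrArg (fun z => x⁻¹ * z * x) this)
  refine ⟨y, f, Eq.trans ?_ b⟩
  rw [mul_inv_eq_iff_eq_mul, mul_assoc, mul_assoc, ← inv_mul_eq_iff_eq_mul, ← mul_assoc]
  exact (mem_cen1.1 i).trans (mul_assoc _ _ _).symm |>.trans (mul_assoc _ _ _)

theorem Gl.conj (h : Gl p C α β) : Gl p C (fun x => conj (α x)) fun x => conj (β x) := by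
  obtain ⟨ε, Δ, a, b, c⟩ := h
  refine ⟨ε, fun x => conj (Δ x), a, b.conj, funext fun x => ?_⟩
  have := congrFun c x
  simp only [Pi.add_apply, Pi.smul_apply, smul_eq_mul] at this ⊢
  rw [this]; simp

omit [Finite G] in
theorem card_add_compl {X : Type*} [Finite X] (R : X → Prop) : Nat.card {x // R x} + Nat.card {x // ¬ R x} = Nat.card X := by
  classical
  rw [← Nat.card_sum]; exact Nat.card_congr (Equiv.sumCompl R)

theorem prime_cod (a : Irr G χ) (f : ∀ g, χ g = χ 1 → g = 1) (hp : p.Prime) (e : Nat.card G = p * dg χ) :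
    ∃ P : Subgroup G, P.Normal ∧ ord P = p ∧ cen P ≤ P ∧ P.index = dg χ ∧ dg χ < p := by
  haveI := Fintype.ofFinite G
  haveI := Fact.mk hp
  have l : dg χ < p := by
    rcases eq_or_ne (dg χ) 1 with d | d
    · exact d ▸ hp.one_lt
    have := Finset.add_le_sum (s := Finset.univ) (f := fun ψ : IrrCharacter G => dg ψ.1 ^ 2) (fun _ _ => zero_le)
      (Finset.mem_univ ⟨χ, a⟩) (Finset.mem_univ ⟨_, isIrrCharacter_one⟩) fun h =>
        d (dg_eq (by rw [show χ = _ from congrArg Subtype.val h, Nat.cast_one]))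
    rw [sum_dg_sq, e, dg_eq (χ := fun _ : G => 1) Nat.cast_one.symm] at this
    nlinarith [a.dg_pos]
  obtain ⟨P⟩ : Nonempty (Sylow p G) := inferInstance
  have nd : ¬ p ∣ dg χ := Nat.not_dvd_of_pos_of_lt a.dg_pos l
  have o : ord (P : Subgroup G) = p := by
    rw [P.card_eq_multiplicity, e, Nat.factorization_mul hp.ne_zero a.dg_pos.ne', Finsupp.add_apply,
      Nat.factorization_eq_zero_of_not_dvd nd, hp.factorization_self, add_zero, pow_one]
  have i : (P : Subgroup G).index = dg χ := Nat.eq_of_mul_eq_mul_right hp.pos (by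
    rw [mul_comm (dg χ), ← e, ← (P : Subgroup G).index_mul_card, o])
  have u : Nat.card (Sylow p G) = 1 := (card_sylow_modEq_one p G).eq_of_lt_of_lt
    ((Nat.le_of_dvd a.dg_pos (i ▸ P.card_dvd_index)).trans_lt l) hp.one_lt
  haveI := (Nat.card_eq_one_iff_unique.1 u).1
  haveI := P.normal_of_subsingleton
  obtain ⟨θ, b, c⟩ := exists_irr_under P a
  have d := b.deg_eq_one_of_comm (isComm_of_cyc (cyc_of_card_p o)).is_comm.comm
  have k := b.isCharacter.ind.eq_of_inner_ne_zero a (by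
    rwa [inner_indFun_left _ _ a.isClassFunction, b.isCharacter.inner_comm (a.isCharacter.res _)])
    (by rw [indFun_one, d, i, a.deg, mul_one])
  refine ⟨P, inferInstance, o, le_trans (fun x hx => mem_inertia'.2 fun n => congrArg θ (Subtype.ext ?_))
    ((isIrr_indFun_iff b).1 (k ▸ a)), i, l⟩
  exact conj_eq_of_mem_cen hx n.2

/-- two distinct characters of degree divisible by `p` -/
theorem ne_of_unique (h : Nat.card {χ : IrrCharacter G // p ∣ dg χ.1} = 1) (a : Irr G χ) (b : Irr G ψ)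
    (c : p ∣ dg χ) (d : p ∣ dg ψ) : χ = ψ :=
  congrArg (·.1.1) ((Nat.card_eq_one_iff_unique.1 h).1.elim ⟨⟨χ, a⟩, c⟩ ⟨⟨ψ, b⟩, d⟩)

theorem sum_dg_sq_split (R : (G → ℂ) → Prop) [DecidablePred R] :
    ∑ χ : IrrCharacter G with R χ.1, dg χ.1 ^ 2 + ∑ χ : IrrCharacter G with ¬ R χ.1, dg χ.1 ^ 2 = Nat.card G := by
  rw [Finset.sum_filter_add_sum_filter_not, sum_dg_sq]

theorem sum_nonlin [DecidablePred fun χ : G → ℂ => χ 1 = 1] :
    (commutator G).index + ∑ χ : IrrCharacter G with ¬ χ.1 1 = 1, dg χ.1 ^ 2 = Nat.card G := by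
  rw [← sum_dg_sq_split fun χ => χ 1 = 1, ← card_irr_deg_one, Nat.card_eq_fintype_card, Fintype.card_subtype,
    Finset.card_eq_sum_ones]
  exact congrArg (· + _) (Finset.sum_congr rfl fun χ h => by
    rw [χ.2.isCharacter.dg_eq_one.2 (Finset.mem_filter.1 h).2, one_pow])

theorem dvd_dg_iff [hp : Fact p.Prime] (h : IsPGroup p G) (a : Irr G χ) : p ∣ dg χ ↔ ¬ χ 1 = 1 := by
  obtain ⟨n, e⟩ := h.exists_card_eq
  obtain ⟨k, -, f⟩ := (Nat.dvd_prime_pow hp.1).1 (e ▸ a.dg_dvd)
  rw [← a.isCharacter.dg_eq_one, f, Nat.pow_eq_one, or_iff_right hp.1.ne_one]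
  exact ⟨fun d e => hp.1.not_dvd_one (by simpa [e] using d), dvd_pow_self p⟩

end
end H3
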