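import Cfsg.Agent.H3.Det
import Cfsg.Agent.H4.Cls3
import Cfsg.Prelude.Def_ParabolicCharacters

/-! # The principal series of `GL₂(q)` -/

open Cfsg
open scoped ComplexConjugate MatrixGroups
set_option maxSynthPendingDepth 3

namespace H3
open H3

noncomputable section

section Reps
variable {G : Type*} [Group G] [Fintype G] {H : Subgroup G}

theorem indFun_reps {I : Type*} [Fintype I] {θ : H → ℂ} (hθ : IsClassFunction H θ) (r : I → G)
    (h : ∀ x, ∃! i, x * (r i)⁻¹ ∈ H) (g : G) :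
    indFun H θ g = ∑ i, extendByZero H θ (r i * g * (r i)⁻¹) := by
  classical
  have b : Function.Bijective fun p : H × I => (p.1 : G) * r p.2 := by
    refine ⟨fun p p' e => ?_, fun x => ?_⟩
    · have e : (p.1 : G) * r p.2 = p'.1 * r p'.2 := e
      have e2 : p.2 = p'.2 := (h (p.1 * r p.2)).unique (by simp) (by rw [e]; simp)
      rw [e2] at e
      exact Prod.ext (Subtype.ext (mul_right_cancel e)) e2
    · obtain ⟨i, k, -⟩ := h x
      exact ⟨(⟨_, k⟩, i), by simp⟩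
  rw [indFun_apply', ← b.sum_comp, Fintype.sum_prod_type,
    Finset.sum_congr rfl (g := fun _ => ∑ i, extendByZero H θ (r i * g * (r i)⁻¹)) fun x _ =>
      Finset.sum_congr rfl fun i _ => by rw [← ext0_conj_mem hθ x.2 (r i * g * (r i)⁻¹)]; congr 1; group]
  rw [Finset.sum_const, Finset.card_univ, ← Nat.card_eq_fintype_card, nsmul_eq_mul, ← mul_assoc,
    inv_mul_cancel₀ (card_ne_zero _), one_mul]

theorem indFun_comap_reps {Γ I : Type*} [Group Γ] [Fintype Γ] [Fintype I] (ι : Γ →* G) {θ : H → ℂ}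
    (hθ : IsClassFunction H θ) (r : I → Γ) (h : ∀ x, ∃! i, x * (ι (r i))⁻¹ ∈ H) (g : Γ) :
    indFun (H.comap ι) (fun b => θ ⟨ι b, b.2⟩) g = indFun H θ (ι g) := by
  rw [indFun_reps hθ _ h, indFun_reps (r := r)]
  · refine Finset.sum_congr rfl fun i _ => ?_
    by_cases c : r i * g * (r i)⁻¹ ∈ H.comap ι
    · have c' : ι (r i) * ι g * (ι (r i))⁻¹ ∈ H := by simpa using c
      rw [ext0_of_mem _ c, ext0_of_mem _ c']; congr 1; simp
    · rw [ext0_of_not_mem _ c, ext0_of_not_mem _ (by simpa using c)]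
  · intro a b
    exact Eq.trans (congrArg θ (Subtype.ext (by simp))) (hθ ⟨ι a, a.2⟩ ⟨ι b, b.2⟩)
  · intro x
    simpa using h (ι x)

theorem indFun_central (θ : H → ℂ) {z : G} (hz : ∀ x, x * z = z * x) (h : z ∈ H) :
    indFun H θ z = H.index * θ ⟨z, h⟩ := by
  rw [indFun_apply', Finset.sum_congr rfl (g := fun _ => θ ⟨z, h⟩) fun x _ => by
    rw [hz x, mul_inv_cancel_right, ext0_of_mem _ h], Finset.sum_const, Finset.card_univ,
    ← Nat.card_eq_fintype_card, nsmul_eq_mul, ← H.card_mul_index, Nat.cast_mul, ← mul_assoc, ← mul_assoc,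
    inv_mul_cancel₀ (card_ne_zero _), one_mul]

theorem Cfsg.IsCharacter.exists_two {f : G → ℂ} (hf : Ch G f) (h : ⟪f, f⟫ = 2) :
    ∃ a b, Irr G a ∧ Irr G b ∧ a ≠ b ∧ f = a + b := by
  obtain ⟨a, ha, n⟩ := hf.isClassFunction.exists_constituent (fun e => by simp [e, H3.inner_zero_left] at h)
  have c := hf.sub_of_inner_ne_zero ha n
  obtain ⟨m, hm⟩ := hf.inner_nat ha.isCharacter
  obtain ⟨k, hk⟩ := c.inner_nat c
  have e : ⟪f - a, f - a⟫ = 3 - 2 * m := by
    rw [H3.inner_sub_left, H3.inner_sub_right, H3.inner_sub_right, h, ha.inner_self, ha.isCharacter.inner_comm hf, hm]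
    ring
  have m1 : m = 1 := by
    have h1 : m ≠ 0 := fun z => n (by simp [hm, z])
    have h2 : k + 2 * m = 3 := by exact_mod_cast (by rw [← hk, e]; ring : (k : ℂ) + 2 * m = 3)
    omega
  refine ⟨a, f - a, ha, c.isIrr_of_inner_self (by rw [e, m1]; norm_num), fun z => ?_, by abel⟩
  have : ⟪f - a, a⟫ = 0 := by rw [H3.inner_sub_left, hm, m1, ha.inner_self]; simp
  rw [← z, ha.inner_self] at this
  exact one_ne_zero this

theorem Cfsg.IsIrrCharacter.eq_or_of_add {a b c : G → ℂ} (hc : Irr G c) (ha : Irr G a) (hb : Irr G b)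
    (h : ⟪a + b, c⟫ ≠ 0) : c = a ∨ c = b := by
  by_contra! n
  exact h (by rw [H3.inner_add_left, ha.inner_of_ne hc n.1.symm, hb.inner_of_ne hc n.2.symm, add_zero])

theorem inner_ne_of_supp {f χ : G → ℂ} (h : ∀ g, g ≠ 1 → f g = 0) (h1 : f 1 ≠ 0) (hχ : Irr G χ) : ⟪f, χ⟫ ≠ 0 := by
  unfold classInner
  rw [Finset.sum_eq_single 1 (fun g _ n => by rw [h g n, zero_mul]) (by simp)]
  exact mul_ne_zero (inv_ne_zero (card_ne_zero _)) (mul_ne_zero h1 (by simpa using hχ.deg_ne_zero))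

theorem exists_irr_comp {Γ : Type*} [Group Γ] [Fintype Γ] {f : Γ →* G} (hf : Function.Injective f) {ψ : Γ → ℂ}
    (h : Irr Γ ψ) : ∃ χ, Irr G χ ∧ ⟪fun x => χ (f x), ψ⟫ ≠ 0 := by
  have := inner_ne_of_supp (f := fun x => regChar G (f x)) (fun g n => regChar_of_ne (by simpa [map_eq_one_iff f hf] using n))
    (by simp [regChar_one]) h
  rw [show (fun x => regChar G (f x)) = ∑ χ : IrrCharacter G, χ.1 1 • fun x => χ.1 (f x) from
    funext fun x => by rw [regChar_eq_sum]; simp, inner_sum_left] at this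
  obtain ⟨χ, -, n⟩ := Finset.exists_ne_zero_of_sum_ne_zero this
  exact ⟨χ.1, χ.2, fun z => n (by rw [H3.inner_smul_left, z, mul_zero])⟩

/-- number of irreducible characters of a given degree -/
abbrev cnD (G : Type*) [Group G] (d : ℂ) : ℕ := Nat.card {χ : IrrCharacter G // (χ : G → ℂ) 1 = d}

omit [Fintype G] in
theorem sum_cnt [Finite G] (d c : ℂ) : ∑ χ : IrrCharacter G, (if χ.1 1 = d then c else 0) = cnD G d * c := by
  rw [← Finset.sum_filter, Finset.sum_const, nsmul_eq_mul, cnD, Nat.card_eq_fintype_card, Fintype.card_subtype]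

end Reps

namespace G2
variable {F : Type*} [Field F]

/-- an invertible matrix from its entries -/
def gm (a b c d : F) (h : a * d - b * c ≠ 0) : GL (Fin 2) F :=
  Matrix.GeneralLinearGroup.mkOfDetNeZero !![a, b; c, d] (by rwa [Matrix.det_fin_two_of])

@[simp] theorem gm00 (a b c d : F) (h) : (gm a b c d h).1 0 0 = a := rfl
@[simp] theorem gm01 (a b c d : F) (h) : (gm a b c d h).1 0 1 = b := rfl
@[simp] theorem gm10 (a b c d : F) (h) : (gm a b c d h).1 1 0 = c := rfl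
@[simp] theorem gm11 (a b c d : F) (h) : (gm a b c d h).1 1 1 = d := rfl

theorem gl_ext {g h : GL (Fin 2) F} (h0 : g.1 0 0 = h.1 0 0) (h1 : g.1 0 1 = h.1 0 1)
    (h2 : g.1 1 0 = h.1 1 0) (h3 : g.1 1 1 = h.1 1 1) : g = h := by
  apply Units.ext; ext i j; fin_cases i <;> fin_cases j <;> assumption

theorem gl_mul (g h : GL (Fin 2) F) (i j : Fin 2) : (g * h).1 i j = g.1 i 0 * h.1 0 j + g.1 i 1 * h.1 1 j := by
  simp [Matrix.mul_apply]

/-- determinant in terms of the entries -/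
def dv (g : GL (Fin 2) F) : F := g.1 0 0 * g.1 1 1 - g.1 0 1 * g.1 1 0

theorem dv_eq (g : GL (Fin 2) F) : dv g = (Matrix.GeneralLinearGroup.det g : F) := by
  simp [dv, Matrix.det_fin_two]

theorem dv_ne (g : GL (Fin 2) F) : dv g ≠ 0 := by rw [dv_eq]; exact Units.ne_zero _
theorem dv_mul (g h : GL (Fin 2) F) : dv (g * h) = dv g * dv h := by simp only [dv_eq, map_mul, Units.val_mul]
theorem dv_one : dv (1 : GL (Fin 2) F) = 1 := by simp [dv]
theorem dv_conj (x g : GL (Fin 2) F) : dv (x * g * x⁻¹) = dv g := by simp [dv_eq]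
theorem dv_inv (g : GL (Fin 2) F) : dv g⁻¹ = (dv g)⁻¹ := by simp [dv_eq]

theorem tr_conj (x g : GL (Fin 2) F) : (x * g * x⁻¹).1 0 0 + (x * g * x⁻¹).1 1 1 = g.1 0 0 + g.1 1 1 := by
  rw [← Matrix.trace_fin_two, ← Matrix.trace_fin_two, Units.val_mul, Units.val_mul, Matrix.trace_units_conj]

/-- inclusion of `SL₂` -/
abbrev tg : SL(2, F) →* GL (Fin 2) F := Matrix.SpecialLinearGroup.toGL

@[simp] theorem tg_val (s : SL(2, F)) : (tg s).1 = s.1 := rfl
theorem dv_tg (s : SL(2, F)) : dv (tg s) = 1 := H4.sl2_det s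
theorem tg_inj : Function.Injective (tg : SL(2, F) → _) := Matrix.SpecialLinearGroup.toGL_injective
theorem exists_tg {g : GL (Fin 2) F} (h : dv g = 1) : ∃ s, tg s = g :=
  ⟨⟨g.1, by rw [Matrix.det_fin_two]; exact h⟩, Units.ext rfl⟩

variable (F) in
/-- the Borel subgroup -/
abbrev Bo : Subgroup (GL (Fin 2) F) := upperTriangularGL 2 F

theorem mem_Bo {g : GL (Fin 2) F} : g ∈ Bo F ↔ g.1 1 0 = 0 := by
  refine ⟨fun h => h (show (0 : Fin 2) < 1 by decide), fun h i j k => ?_⟩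
  fin_cases i <;> fin_cases j <;> first | exact h | exact absurd k (by decide)

theorem Bo_ne {g : GL (Fin 2) F} (h : g.1 1 0 = 0) : g.1 0 0 ≠ 0 ∧ g.1 1 1 ≠ 0 := by
  have := dv_ne g
  rw [dv, h, mul_zero, sub_zero] at this
  exact mul_ne_zero_iff.1 this

/-- coset representatives of the Borel subgroup -/
def rep : Option F → SL(2, F)
  | none => 1
  | some t => H4.slm 0 (-1) 1 t (by simp)

theorem rep_inv (t : F) : (tg (rep (some t)))⁻¹ = gm t 1 (-1) 0 (by simp) := by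
  refine inv_eq_of_mul_eq_one_right (gl_ext ?_ ?_ ?_ ?_) <;> simp [gl_mul, rep, -Units.val_mul]

theorem rep_spec (x : GL (Fin 2) F) : ∃! i, x * (tg (rep i))⁻¹ ∈ Bo F := by
  have e : ∀ t, x * (tg (rep (some t)))⁻¹ ∈ Bo F ↔ x.1 1 0 * t = x.1 1 1 := fun t => by
    rw [rep_inv, mem_Bo, gl_mul]; simp [← sub_eq_add_neg, sub_eq_zero]
  have e0 : x * (tg (rep none))⁻¹ ∈ Bo F ↔ x.1 1 0 = 0 := by simp [rep, mem_Bo]
  by_cases c : x.1 1 0 = 0
  · refine ⟨none, e0.2 c, ?_⟩
    rintro (_ | t) h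
    · rfl
    · exact absurd (by simpa [c] using ((e t).1 h).symm) (Bo_ne c).2
  · refine ⟨some (x.1 1 1 / x.1 1 0), (e _).2 (by field_simp), ?_⟩
    rintro (_ | t) h
    · exact absurd (e0.1 h) c
    · rw [← (e t).1 h]; congr 1; field_simp

/-- the quadratic whose roots give the eigenlines -/
def qf (g : GL (Fin 2) F) (t : F) : F := g.1 1 0 * t ^ 2 + (g.1 0 0 - g.1 1 1) * t - g.1 0 1

theorem rep_conj (g : GL (Fin 2) F) (t : F) :
    (tg (rep (some t)) * g * (tg (rep (some t)))⁻¹).1 1 0 = qf g t ∧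
    (tg (rep (some t)) * g * (tg (rep (some t)))⁻¹).1 0 0 = g.1 1 1 - g.1 1 0 * t ∧
    (tg (rep (some t)) * g * (tg (rep (some t)))⁻¹).1 1 1 = g.1 0 0 + g.1 1 0 * t := by
  rw [rep_inv]
  refine ⟨?_, ?_, ?_⟩ <;> simp [gl_mul, rep, qf, -Units.val_mul] <;> ring

/-- elliptic elements -/
def Ell (g : GL (Fin 2) F) : Prop := ∀ x, x * g * x⁻¹ ∉ Bo F

theorem ell_iff {g : GL (Fin 2) F} : Ell g ↔ g.1 1 0 ≠ 0 ∧ ∀ t, qf g t ≠ 0 := by
  refine ⟨fun h => ⟨fun c => h 1 (by simpa [mem_Bo] using c), fun t c => h _ (mem_Bo.2 ((rep_conj g t).1.trans c))⟩,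
    fun h x k => ?_⟩
  obtain ⟨i, m, -⟩ := rep_spec x
  have := (Bo F).mul_mem ((Bo F).mul_mem ((Bo F).inv_mem m) k) m
  rw [show (x * (tg (rep i))⁻¹)⁻¹ * (x * g * x⁻¹) * (x * (tg (rep i))⁻¹) = tg (rep i) * g * (tg (rep i))⁻¹ by group,
    mem_Bo] at this
  rcases i with _ | t
  · exact h.1 (by simpa [rep] using this)
  · exact h.2 t ((rep_conj g t).1.symm.trans this)

theorem ell_of {g : GL (Fin 2) F} (h : ∀ (c : F) (v : Fin 2 → F), v ≠ 0 → g.1.mulVec v ≠ c • v) : Ell g := by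
  refine ell_iff.2 ⟨fun c => h (g.1 0 0) ![1, 0] (by simp) ?_, fun t c => h (g.1 1 1 - g.1 1 0 * t) ![t, -1] (by simp) ?_⟩
  · ext i; fin_cases i <;> simp [Matrix.mulVec, dotProduct, c]
  · unfold qf at c
    ext i; fin_cases i <;> simp [Matrix.mulVec, dotProduct]
    · linear_combination c
    · ring

theorem Ell.conj {g : GL (Fin 2) F} (h : Ell g) (y : GL (Fin 2) F) : Ell (y * g * y⁻¹) := fun x k =>
  h (x * y) (by simpa [mul_assoc] using k)

theorem Ell.not_mem {g : GL (Fin 2) F} (h : Ell g) : g.1 1 0 ≠ 0 := (ell_iff.1 h).1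

theorem cf_ext {f f' : GL (Fin 2) F → ℂ} (a : IsClassFunction _ f) (b : IsClassFunction _ f')
    (h1 : ∀ g, g.1 1 0 = 0 → f g = f' g) (h2 : ∀ g, Ell g → f g = f' g) : f = f' := by
  funext g
  by_cases c : Ell g
  · exact h2 g c
  · obtain ⟨x, k⟩ : ∃ x, x * g * x⁻¹ ∈ Bo F := by by_contra! n; exact c n
    rw [← a g x, ← b g x, h1 _ (mem_Bo.1 k)]

/-- scalar matrices -/
abbrev sc : Fˣ →* GL (Fin 2) F := Matrix.GeneralLinearGroup.scalar (Fin 2)

@[simp] theorem sc00 (a : Fˣ) : (sc a).1 0 0 = a := by simp [Matrix.GeneralLinearGroup.coe_scalar]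
@[simp] theorem sc01 (a : Fˣ) : (sc a).1 0 1 = 0 := by simp [Matrix.GeneralLinearGroup.coe_scalar]
@[simp] theorem sc10 (a : Fˣ) : (sc a).1 1 0 = 0 := by simp [Matrix.GeneralLinearGroup.coe_scalar]
@[simp] theorem sc11 (a : Fˣ) : (sc a).1 1 1 = a := by simp [Matrix.GeneralLinearGroup.coe_scalar]
theorem sc_comm (a : Fˣ) (x : GL (Fin 2) F) : x * sc a = sc a * x :=
  (Matrix.GeneralLinearGroup.scalar_commute a x).symm

theorem eq_sc {g : GL (Fin 2) F} (h0 : g.1 1 0 = 0) (h1 : g.1 0 0 = g.1 1 1) (h2 : g.1 0 1 = 0) :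
    g = sc (Units.mk0 _ (Bo_ne h0).1) := gl_ext (by simp) (by simp [h2]) (by simp [h0]) (by simp [h1])

/-- linear characters of the Borel subgroup -/
def bc (α β : MulChar F ℂ) : Bo F → ℂ := fun b => α (b.1.1 0 0) * β (b.1.1 1 1)

theorem bc_mul (α β : MulChar F ℂ) (a b : Bo F) : bc α β (a * b) = bc α β a * bc α β b := by
  simp only [bc, Subgroup.coe_mul, gl_mul, mem_Bo.1 a.2, mem_Bo.1 b.2, mul_zero, zero_mul, add_zero, zero_add, map_mul]
  ring

theorem ch_of_mul {G : Type*} [Group G] {f : G → ℂ} (h1 : f 1 = 1) (h : ∀ a b, f (a * b) = f a * f b) : Ch G f :=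
  isCharacter_lin (MonoidHom.toHomUnits ⟨⟨f, h1⟩, h⟩)

theorem bc_ch (α β : MulChar F ℂ) : Ch _ (bc α β) := ch_of_mul (by simp [bc]) (bc_mul α β)

/-- a multiplicative character composed with the determinant -/
def dl (α : MulChar F ℂ) : GL (Fin 2) F →* ℂˣ := α.toUnitHom.comp Matrix.GeneralLinearGroup.det

theorem dl_val (α : MulChar F ℂ) (g : GL (Fin 2) F) : (dl α g : ℂ) = α (dv g) := by simp [dl, dv_eq]

theorem dl_B (α : MulChar F ℂ) {g : GL (Fin 2) F} (h : g.1 1 0 = 0) : (dl α g : ℂ) = α (g.1 0 0) * α (g.1 1 1) := by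
  rw [dl_val, dv, h, mul_zero, sub_zero, map_mul]

theorem dl_res (α : MulChar F ℂ) : (lf (dl α))↾(Bo F) = bc α α := funext fun b => dl_B α (mem_Bo.1 b.2)

theorem dl_tg (α : MulChar F ℂ) (s : SL(2, F)) : (dl α (tg s) : ℂ) = 1 := by rw [dl_val, dv_tg, map_one]

theorem dl_inj : Function.Injective (dl : MulChar F ℂ → _) := fun α β h => MulChar.ext fun a => by
  have := congrArg (fun l : GL (Fin 2) F →* ℂˣ => (l (gm a 0 0 1 (by simp)) : ℂ)) h
  simpa [dl_val, dv] using this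

/-- upper triangular matrices from the entries -/
def bm (a d : Fˣ) (b : F) : Bo F := ⟨gm a b 0 d (by simp), mem_Bo.2 rfl⟩

@[simp] theorem bm00 (a d : Fˣ) (b : F) : (bm a d b).1.1 0 0 = a := rfl
@[simp] theorem bm01 (a d : Fˣ) (b : F) : (bm a d b).1.1 0 1 = b := rfl
@[simp] theorem bm10 (a d : Fˣ) (b : F) : (bm a d b).1.1 1 0 = 0 := rfl
@[simp] theorem bm11 (a d : Fˣ) (b : F) : (bm a d b).1.1 1 1 = d := rfl

/-- parametrisation of the Borel subgroup -/
def bEq : Fˣ × Fˣ × F ≃ Bo F where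
  toFun p := bm p.1 p.2.1 p.2.2
  invFun g := (Units.mk0 _ (Bo_ne (mem_Bo.1 g.2)).1, Units.mk0 _ (Bo_ne (mem_Bo.1 g.2)).2, g.1.1 0 1)
  left_inv _ := Prod.ext (Units.ext rfl) (Prod.ext (Units.ext rfl) rfl)
  right_inv g := Subtype.ext (gl_ext rfl rfl (mem_Bo.1 g.2).symm rfl)

variable [Fintype F] [DecidableEq F]

instance fintypeMulChar : Fintype (MulChar F ℂ) := Fintype.ofFinite _
instance fintypeBo : Fintype (Bo F) := Fintype.ofFinite _
instance decMulChar : DecidableEq (MulChar F ℂ) := Classical.decEq _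

local notation "q" => (Fintype.card F : ℂ)

omit [DecidableEq F] in
theorem q_ne : q ≠ 0 := Nat.cast_ne_zero.2 Fintype.card_ne_zero
omit [DecidableEq F] in
theorem q1_ne : q - 1 ≠ 0 := sub_ne_zero.2 (by exact_mod_cast Fintype.one_lt_card.ne')
omit [DecidableEq F] in
theorem q2_ne : q + 1 ≠ 0 := Nat.cast_add_one_ne_zero _

theorem card_units : (Fintype.card Fˣ : ℂ) = q - 1 := by
  rw [Fintype.card_units, Nat.cast_sub Fintype.card_pos, Nat.cast_one]

omit [DecidableEq F] in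
theorem card_mc : Nat.card (MulChar F ℂ) = Fintype.card F - 1 := by
  rw [Nat.card_congr MulChar.equivToUnitHom, card_lin_of_comm' mul_comm, Nat.card_units, Nat.card_eq_fintype_card]

theorem card_Bo : (Nat.card (Bo F) : ℂ) = (q - 1) * ((q - 1) * q) := by
  rw [← Nat.card_congr bEq, Nat.card_eq_fintype_card, Fintype.card_prod, Fintype.card_prod]
  push_cast; rw [card_units]

omit [DecidableEq F] in
theorem card_GL : (Nat.card (GL (Fin 2) F) : ℂ) = (q ^ 2 - 1) * (q ^ 2 - q) := by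
  have h : 1 ≤ Fintype.card F := Fintype.card_pos
  rw [Matrix.card_GL_field, Fin.prod_univ_two, Nat.cast_mul, Nat.cast_sub (Nat.pow_le_pow_right h (by simp)),
    Nat.cast_sub (Nat.pow_le_pow_right h (by simp))]
  simp

omit [DecidableEq F] in
theorem card_SL : (Nat.card SL(2, F) : ℂ) = q * (q - 1) * (q + 1) := by
  rw [H4.card_sl2, Nat.card_eq_fintype_card, Nat.cast_mul, Nat.cast_mul, Nat.cast_sub Fintype.card_pos]; simp

theorem inner_B (φ ψ : Bo F → ℂ) :
    ⟪φ, ψ⟫ = ((q - 1) * ((q - 1) * q))⁻¹ * ∑ a, ∑ d, ∑ b, φ (bm a d b) * conj (ψ (bm a d b)) := by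
  rw [classInner, card_Bo, ← bEq.sum_comp, Fintype.sum_prod_type]
  simp only [Fintype.sum_prod_type]; rfl

theorem sum_mc (α β : MulChar F ℂ) : ∑ a : Fˣ, α a * conj (β a) = if α = β then q - 1 else 0 := by
  have := card_mul_inner (lf α.toUnitHom) (lf β.toUnitHom)
  simp only [lf_apply, MulChar.coe_toUnitHom] at this
  rw [← this, inner_lf, Nat.card_eq_fintype_card, card_units]
  by_cases c : α = β
  · simp [c]
  · rw [if_neg (show α.toUnitHom ≠ β.toUnitHom from fun e => c (MulChar.equivToUnitHom.injective e)), if_neg c,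
      mul_zero]

omit [DecidableEq F] in
theorem sum_lin {A : Type*} [Group A] [Finite A] (hc : ∀ a b : A, a * b = b * a) (a : A) [Decidable (a = 1)] :
    ∑ l : A →* ℂˣ, (l a : ℂ) = if a = 1 then (Nat.card A : ℂ) else 0 := by
  split_ifs with c
  · simp [c, ← card_lin_of_comm' hc]
  · obtain ⟨ω, -, n⟩ := exists_triv_ne_one (commutator_le_of_comm hc ⊥) (g := a) (by simpa using c)
    have e := Equiv.sum_comp (Equiv.mulLeft ω) fun l : A →* ℂˣ => (l a : ℂ)
    simp only [Equiv.coe_mulLeft, MonoidHom.mul_apply, Units.val_mul, ← Finset.mul_sum] at e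
    exact (mul_left_eq_self₀.1 e).resolve_left (by simpa using n)

theorem sum_mc_dual (a : F) : ∑ γ : MulChar F ℂ, γ a = if a = 1 then q - 1 else 0 := by
  by_cases c : a = 0
  · simp [c, MulChar.map_zero]
  · have := sum_lin mul_comm (Units.mk0 a c)
    rw [← MulChar.equivToUnitHom.sum_comp, Nat.card_eq_fintype_card, card_units] at this
    simpa [Units.ext_iff] using this

omit [DecidableEq F] in
theorem conj_mc (α : MulChar F ℂ) (a : F) : conj (α a) = α⁻¹ a := by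
  by_cases c : a = 0
  · simp [c, MulChar.map_zero]
  · have := conj_lin α.toUnitHom (Units.mk0 a c)
    simpa [MulChar.inv_apply_eq_inv'] using this

/-- the principal series -/
def ps (α β : MulChar F ℂ) : GL (Fin 2) F → ℂ := indFun (Bo F) (bc α β)

theorem ps_ch (α β : MulChar F ℂ) : Ch _ (ps α β) := (bc_ch α β).ind
theorem ps_cf (α β : MulChar F ℂ) : IsClassFunction _ (ps α β) := isClassFunction_indFun _ _

theorem ps_ell (α β : MulChar F ℂ) {g : GL (Fin 2) F} (h : Ell g) : ps α β g = 0 := indFun_eq_zero_of_not_conj _ _ h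

/-- number of further fixed lines of an upper triangular matrix -/
def nn (x b : F) : ℂ := ∑ t : F, if x * t = b then 1 else 0

theorem sum_nn (x : F) : ∑ b, nn x b = q := by
  unfold nn; rw [Finset.sum_comm]; simp
theorem conj_nn (x b : F) : conj (nn x b) = nn x b := by simp [nn]
theorem nn_ne {x : F} (h : x ≠ 0) (b : F) : nn x b = 1 := by
  simp [nn, show ∀ t, x * t = b ↔ t = b / x from fun t => by field_simp]
theorem nn_zero (b : F) : nn 0 b = if b = 0 then q else 0 := by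
  by_cases c : b = 0
  · simp [nn, c]
  · simp [nn, c, Ne.symm c]

theorem ps_B (α β : MulChar F ℂ) {g : GL (Fin 2) F} (h : g.1 1 0 = 0) : ps α β g = α (g.1 0 0) * β (g.1 1 1) +
    nn (g.1 0 0 - g.1 1 1) (g.1 0 1) * (α (g.1 1 1) * β (g.1 0 0)) := by
  rw [ps, indFun_reps (bc_ch α β).isClassFunction _ rep_spec, Fintype.sum_option, nn, Finset.sum_mul]
  congr 1
  · rw [show tg (rep none) * g * (tg (rep none))⁻¹ = g by simp [rep], ext0_of_mem _ (mem_Bo.2 h)]; rfl
  · refine Finset.sum_congr rfl fun t _ => ?_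
    obtain ⟨a, b, c⟩ := rep_conj g t
    rw [qf, h, zero_mul, zero_add] at a
    split_ifs with k
    · rw [ext0_of_mem _ (mem_Bo.2 (a.trans (sub_eq_zero.2 k)))]
      simp only [bc, b, c, h, zero_mul, sub_zero, add_zero, one_mul]
    · rw [ext0_of_not_mem _ (fun m => k (sub_eq_zero.1 (a.symm.trans (mem_Bo.1 m)))), zero_mul]

theorem ps_split (α β : MulChar F ℂ) {g : GL (Fin 2) F} (h : g.1 1 0 = 0) (n : g.1 0 0 ≠ g.1 1 1) :
    ps α β g = α (g.1 0 0) * β (g.1 1 1) + α (g.1 1 1) * β (g.1 0 0) := by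
  rw [ps_B α β h, nn_ne (sub_ne_zero.2 n), one_mul]

theorem ps_unip (α β : MulChar F ℂ) {g : GL (Fin 2) F} (h : g.1 1 0 = 0) (e : g.1 0 0 = g.1 1 1) (n : g.1 0 1 ≠ 0) :
    ps α β g = α (g.1 0 0) * β (g.1 0 0) := by
  rw [ps_B α β h, ← e, sub_self, nn_zero, if_neg n, zero_mul, add_zero]

theorem ps_scal (α β : MulChar F ℂ) {g : GL (Fin 2) F} (h : g.1 1 0 = 0) (e : g.1 0 0 = g.1 1 1) (n : g.1 0 1 = 0) :
    ps α β g = (q + 1) * (α (g.1 0 0) * β (g.1 0 0)) := by
  rw [ps_B α β h, ← e, sub_self, nn_zero, if_pos n]; ring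

theorem ps_one (α β : MulChar F ℂ) : ps α β 1 = q + 1 := by
  rw [ps_scal α β] <;> simp

theorem inner_bc (α β α' β' : MulChar F ℂ) : ⟪bc α β, bc α' β'⟫ = if α = α' ∧ β = β' then 1 else 0 := by
  have e : ∀ a d : Fˣ, ∑ b, bc α β (bm a d b) * conj (bc α' β' (bm a d b)) =
      q * (α a * conj (α' a)) * (β d * conj (β' d)) := fun a d => by simp [bc]; ring
  simp only [inner_B, e, ← Finset.mul_sum, ← Finset.sum_mul, sum_mc]
  have := q_ne (F := F); have := q1_ne (F := F)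
  by_cases c : α = α' <;> by_cases c' : β = β' <;> simp [c, c']
  field_simp

theorem inner_ps (α β α' β' : MulChar F ℂ) :
    ⟪ps α β, ps α' β'⟫ = (if α = α' ∧ β = β' then 1 else 0) + if α = β' ∧ β = α' then 1 else 0 := by
  have e : ∀ a d : Fˣ, ∑ b, bc α β (bm a d b) * conj (ps α' β' (bm a d b)) =
      q * (α a * conj (α' a)) * (β d * conj (β' d)) + q * (α a * conj (β' a)) * (β d * conj (α' d)) := fun a d => by
    simp only [ps_B α' β' (bm10 a d _), bc, bm00, bm11, bm01, map_add, map_mul, conj_nn, mul_add,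
      Finset.sum_add_distrib, ← Finset.mul_sum, ← Finset.sum_mul, sum_nn]
    simp; ring
  rw [ps, inner_indFun_left _ _ (ps_cf _ _)]
  simp only [inner_B, e, Finset.sum_add_distrib, ← Finset.mul_sum, ← Finset.sum_mul, sum_mc]
  have := q_ne (F := F); have := q1_ne (F := F)
  rw [mul_add]; congr 1
  · by_cases c : α = α' <;> by_cases c' : β = β' <;> simp [c, c']
    field_simp
  · by_cases c : α = β' <;> by_cases c' : β = α' <;> simp [c, c']
    field_simp

theorem inner_ps_dl (α β γ : MulChar F ℂ) : ⟪ps α β, lf (dl γ)⟫ = if α = γ ∧ β = γ then 1 else 0 := by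
  rw [ps, inner_indFun_left _ _ (lf_ch _).isClassFunction, dl_res, inner_bc]

theorem inner_dl (α β : MulChar F ℂ) : ⟪lf (dl α), lf (dl β)⟫ = if α = β then 1 else 0 := by
  rw [inner_lf]; simp [dl_inj.eq_iff]

theorem ps_irr {α β : MulChar F ℂ} (h : α ≠ β) : Irr _ (ps α β) :=
  (ps_ch α β).isIrr_of_inner_self (by simp [inner_ps, h])

theorem ps_mul_dl (α β γ : MulChar F ℂ) : ps α β * lf (dl γ) = ps (α * γ) (β * γ) := by
  rw [ps, ← indFun_mul_res _ _ (lf_ch _).isClassFunction]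
  congr 1; funext b
  simp only [lf_apply, dl_B γ (mem_Bo.1 b.2), bc, MulChar.mul_apply]; ring

/-- the twisted Steinberg characters -/
def st (α : MulChar F ℂ) : GL (Fin 2) F → ℂ := ps α α - lf (dl α)

theorem st_ch (α : MulChar F ℂ) : Ch _ (st α) := (ps_ch α α).sub_of_inner_ne_zero (lf_irr _) (by simp [inner_ps_dl])

theorem inner_st (α β : MulChar F ℂ) : ⟪st α, st β⟫ = if α = β then 1 else 0 := by
  rw [st, st, H3.inner_sub_left, H3.inner_sub_right, H3.inner_sub_right, inner_ps, (lf_ch _).inner_comm (ps_ch _ _),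
    inner_ps_dl, inner_ps_dl, inner_dl]
  by_cases c : α = β <;> simp [c, Ne.symm]

theorem st_irr (α : MulChar F ℂ) : Irr _ (st α) := (st_ch α).isIrr_of_inner_self (by simp [inner_st])

theorem st_one (α : MulChar F ℂ) : st α 1 = q := by simp [st, ps_one]

theorem ps_eq_add (α : MulChar F ℂ) : ps α α = lf (dl α) + st α := by simp [st]

theorem st_ell (α : MulChar F ℂ) {g : GL (Fin 2) F} (h : Ell g) : st α g = -α (dv g) := by
  simp [st, ps_ell α α h, dl_val]

theorem st_split (α : MulChar F ℂ) {g : GL (Fin 2) F} (h : g.1 1 0 = 0) (n : g.1 0 0 ≠ g.1 1 1) :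
    st α g = α (dv g) := by
  rw [← dl_val]; simp only [st, Pi.sub_apply, ps_split α α h n, lf_apply, dl_B α h]; ring

theorem st_unip (α : MulChar F ℂ) {g : GL (Fin 2) F} (h : g.1 1 0 = 0) (e : g.1 0 0 = g.1 1 1) (n : g.1 0 1 ≠ 0) :
    st α g = 0 := by
  simp only [st, Pi.sub_apply, ps_unip α α h e n, lf_apply, dl_B α h, ← e, sub_self]

/-- restriction to `SL₂` -/
abbrev rs (χ : GL (Fin 2) F → ℂ) : SL(2, F) → ℂ := fun s => χ (tg s)

theorem ind_SL (α : MulChar F ℂ) :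
    indFun ((Bo F).comap tg) (fun b => α (b.1.1 0 0)) = rs (ps α 1) := by
  funext s
  rw [rs, ps, ← indFun_comap_reps tg (bc_ch α 1).isClassFunction rep rep_spec]
  congr 1; funext b
  have : (1 : MulChar F ℂ) (b.1.1 1 1) = 1 := MulChar.one_apply (Bo_ne (g := tg b.1) (mem_Bo.1 b.2)).2.isUnit
  simp [bc, this]

theorem inner_rs (χ ψ : GL (Fin 2) F → ℂ) : ⟪rs χ, rs ψ⟫ = ∑ γ, ⟪χ * lf (dl γ), ψ⟫ := by
  have e : ∀ g, ∑ γ : MulChar F ℂ, (χ * lf (dl γ)) g * conj (ψ g) =
      (q - 1) * if dv g = 1 then χ g * conj (ψ g) else 0 := fun g => by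
    simp only [Pi.mul_apply, lf_apply, dl_val, ← Finset.sum_mul, ← Finset.mul_sum, sum_mc_dual]
    split_ifs <;> ring
  simp only [classInner, ← Finset.mul_sum]
  rw [Finset.sum_comm]
  simp only [e, ← Finset.mul_sum]
  rw [← Finset.sum_filter, card_GL, card_SL, ← Finset.sum_bij (s := Finset.univ) (fun s _ => tg s) (by simp [dv_tg])
    (fun _ _ _ _ k => tg_inj k) (fun g k => by simpa using exists_tg (by simpa using k)) (fun _ _ => rfl)]
  have := q_ne (F := F); have := q1_ne (F := F); have := q2_ne (F := F)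
  rw [show q ^ 2 - 1 = (q - 1) * (q + 1) by ring, show q ^ 2 - q = q * (q - 1) by ring]
  field_simp

end G2
end
end H3
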