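import Cfsg.Agent.H3.GL2a

/-! # The nonsplit torus and the cuspidal characters of `GL₂(q)` -/

open Cfsg
open scoped ComplexConjugate MatrixGroups
set_option maxSynthPendingDepth 3

namespace H3
open H3

noncomputable section
namespace G2
variable {F : Type*} [Field F] {e s t g : GL (Fin 2) F}

/-- the centraliser of an (elliptic) element -/
abbrev To (e : GL (Fin 2) F) : Subgroup (GL (Fin 2) F) := Subgroup.centralizer {e}

theorem mem_To' : t ∈ To e ↔ t * e = e * t := Subgroup.mem_centralizer_singleton_iff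

theorem mem_To (he : e.1 1 0 ≠ 0) : t ∈ To e ↔ t.1 0 1 * e.1 1 0 = e.1 0 1 * t.1 1 0 ∧
    (t.1 0 0 - t.1 1 1) * e.1 1 0 = (e.1 0 0 - e.1 1 1) * t.1 1 0 := by
  rw [mem_To']
  refine ⟨fun h => ?_, fun h => gl_ext ?_ ?_ ?_ ?_⟩
  · have a := gl_mul t e 0 0
    have b := gl_mul t e 1 0
    rw [h, gl_mul] at a b
    exact ⟨by linear_combination -a, by linear_combination b⟩
  · simp only [gl_mul]; linear_combination h.1
  · simp only [gl_mul]
    exact mul_left_cancel₀ he (by linear_combination e.1 0 1 * h.2 - (e.1 0 0 - e.1 1 1) * h.1)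
  · simp only [gl_mul]; linear_combination -h.2
  · simp only [gl_mul]; linear_combination -h.1

theorem sc_mem (a : Fˣ) : sc a ∈ To e := mem_To'.2 (sc_comm a e).symm

theorem To_comm (he : e.1 1 0 ≠ 0) (hs : s ∈ To e) (ht : t ∈ To e) : s * t = t * s := by
  obtain ⟨a, b⟩ := (mem_To he).1 hs
  obtain ⟨c, d⟩ := (mem_To he).1 ht
  refine gl_ext ?_ ?_ ?_ ?_ <;> simp only [gl_mul]
  · exact mul_left_cancel₀ he (by linear_combination t.1 1 0 * a - s.1 1 0 * c)
  · exact mul_left_cancel₀ he (mul_left_cancel₀ he (by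
      linear_combination (e.1 1 0 * t.1 0 1) * b - (e.1 1 0 * s.1 0 1) * d +
        (e.1 0 0 - e.1 1 1) * s.1 1 0 * c - (e.1 0 0 - e.1 1 1) * t.1 1 0 * a))
  · exact mul_left_cancel₀ he (by linear_combination s.1 1 0 * d - t.1 1 0 * b)
  · exact mul_left_cancel₀ he (by linear_combination s.1 1 0 * c - t.1 1 0 * a)

theorem To_eq (he : e.1 1 0 ≠ 0) (ht : t ∈ To e) (n : t.1 1 0 ≠ 0) : To t = To e :=
  le_antisymm (fun _ h => mem_To'.2 (To_comm n h (mem_To'.2 (mem_To'.1 ht).symm)))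
    fun _ h => mem_To'.2 (To_comm he h ht)

theorem To_scal (he : e.1 1 0 ≠ 0) (ht : t ∈ To e) (n : t.1 1 0 = 0) : t.1 0 0 = t.1 1 1 ∧ t.1 0 1 = 0 := by
  obtain ⟨a, b⟩ := (mem_To he).1 ht
  rw [n, mul_zero] at a b
  exact ⟨sub_eq_zero.1 ((mul_eq_zero.1 b).resolve_right he), (mul_eq_zero.1 a).resolve_right he⟩

theorem To_ell (he : Ell e) (ht : t ∈ To e) (n : t.1 1 0 ≠ 0) : Ell t := by
  obtain ⟨a, b⟩ := (mem_To he.not_mem).1 ht
  refine ell_iff.2 ⟨n, fun x k => (ell_iff.1 he).2 x (mul_left_cancel₀ n ?_)⟩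
  unfold qf at *
  linear_combination e.1 1 0 * k - x * b + a

theorem not_conj_To (he : Ell e) (h : g.1 1 0 = 0) (n : ¬ (g.1 0 0 = g.1 1 1 ∧ g.1 0 1 = 0)) (x : GL (Fin 2) F) :
    x * g * x⁻¹ ∉ To e := fun k => by
  by_cases c : (x * g * x⁻¹).1 1 0 = 0
  · obtain ⟨a, b⟩ := To_scal he.not_mem k c
    obtain ⟨u, this⟩ : ∃ u, x * g * x⁻¹ = sc u := ⟨_, eq_sc c a b⟩
    rw [mul_inv_eq_iff_eq_mul, ← sc_comm, mul_left_cancel_iff] at this
    exact n (by simp [this])
  · exact To_ell he k c x⁻¹ (by simpa [mul_assoc, mem_Bo] using h)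

/-- parametrisation of the nonsplit torus -/
def toEq (he : Ell e) : To e ≃ {p : F × F // p ≠ 0} where
  toFun t := ⟨(t.1.1 1 1, t.1.1 1 0), fun h => dv_ne t.1 (by
    simp only [Prod.mk_eq_zero] at h; simp [dv, h.1, h.2])⟩
  invFun p := ⟨gm (p.1.1 + (e.1 0 0 - e.1 1 1) * p.1.2 / e.1 1 0) (e.1 0 1 * p.1.2 / e.1 1 0) p.1.2 p.1.1 (by
    obtain ⟨⟨x, y⟩, h⟩ := p
    have c := he.not_mem
    by_cases k : y = 0
    · simpa [k] using h
    · intro z
      apply (ell_iff.1 he).2 (x / y)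
      unfold qf; field_simp at z ⊢; linear_combination z), (mem_To he.not_mem).2 (by
    have c := he.not_mem
    constructor <;> simp <;> field_simp)⟩
  left_inv t := by
    have c := he.not_mem
    obtain ⟨a, b⟩ := (mem_To c).1 t.2
    refine Subtype.ext (gl_ext ?_ ?_ rfl rfl) <;> simp <;> field_simp
    · linear_combination -b
    · linear_combination -a
  right_inv _ := rfl

/-- the adjugate -/
def ad (g : GL (Fin 2) F) : GL (Fin 2) F :=
  gm (g.1 1 1) (-g.1 0 1) (-g.1 1 0) (g.1 0 0) (by have := dv_ne g; unfold dv at this; convert this using 1; ring)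

theorem mul_ad (g : GL (Fin 2) F) : g * ad g = sc (Matrix.GeneralLinearGroup.det g) := by
  refine gl_ext ?_ ?_ ?_ ?_ <;> simp only [gl_mul, ad, gm00, gm01, gm10, gm11, sc00, sc01, sc10, sc11, ← dv_eq, dv] <;> ring

theorem dv_ad (g : GL (Fin 2) F) : dv (ad g) = dv g := by simp [dv, ad]; ring

theorem ad_sc (a : Fˣ) : ad (sc a) = sc a := by refine gl_ext ?_ ?_ ?_ ?_ <;> simp [ad]

theorem ad_of_dv (h : dv g = 1) : ad g = g⁻¹ := by
  refine eq_inv_of_mul_eq_one_right ?_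
  rw [mul_ad, show Matrix.GeneralLinearGroup.det g = 1 from Units.ext (by rw [← dv_eq, h]; rfl), map_one]

theorem ad_mem (he : e.1 1 0 ≠ 0) (ht : t ∈ To e) : ad t ∈ To e := by
  obtain ⟨a, b⟩ := (mem_To he).1 ht
  refine (mem_To he).2 ⟨?_, ?_⟩ <;> simp only [ad, gm00, gm01, gm10, gm11]
  · linear_combination -a
  · linear_combination -b

/-- an element inducing the Galois conjugation on the torus -/
def sg (e : GL (Fin 2) F) (he : e.1 1 0 ≠ 0) : GL (Fin 2) F :=
  gm (e.1 1 0) (e.1 1 1 - e.1 0 0) 0 (-e.1 1 0) (by simpa using he)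

theorem sg_conj (he : e.1 1 0 ≠ 0) (ht : t ∈ To e) : sg e he * t * (sg e he)⁻¹ = ad t := by
  obtain ⟨a, b⟩ := (mem_To he).1 ht
  rw [mul_inv_eq_iff_eq_mul]
  refine gl_ext ?_ ?_ ?_ ?_ <;> simp only [gl_mul, ad, sg, gm00, gm01, gm10, gm11]
  · linear_combination b
  · ring
  · ring
  · linear_combination b

theorem tr_sg (he : e.1 1 0 ≠ 0) (ht : t ∈ To e) : (sg e he * t).1 0 0 + (sg e he * t).1 1 1 = 0 := by
  simp only [gl_mul, sg, gm00, gm01, gm10, gm11]
  linear_combination ((mem_To he).1 ht).2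

local notation "ι" => algebraMap F (H4.Kb F)

theorem exists_root (he : Ell e) : ∃ μ : H4.Kb F,
    ι (e.1 1 0) * μ ^ 2 + ι (e.1 0 0 - e.1 1 1) * μ - ι (e.1 0 1) = 0 ∧ μ ∉ Set.range ι := by
  have c : ι (e.1 1 0) ≠ 0 := by simpa using he.not_mem
  obtain ⟨μ, h⟩ := IsAlgClosed.exists_root (Polynomial.C (ι (e.1 1 0)) * Polynomial.X ^ 2 +
    Polynomial.C (ι (e.1 0 0 - e.1 1 1)) * Polynomial.X + Polynomial.C (-ι (e.1 0 1)))
    (by rw [Polynomial.degree_quadratic c]; decide)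
  have h' : ι (e.1 1 0) * μ ^ 2 + ι (e.1 0 0 - e.1 1 1) * μ - ι (e.1 0 1) = 0 := by
    simpa [sub_eq_add_neg] using h
  refine ⟨μ, h', ?_⟩
  rintro ⟨x, rfl⟩
  exact (ell_iff.1 he).2 x ((algebraMap F (H4.Kb F)).injective (by simpa [qf] using h'))

/-- the eigenvalue embedding of the torus -/
theorem exists_emb [Finite F] (he : Ell e) : ∃ φ : To e →* H4.Kb F, Function.Injective φ ∧
    (∀ t : To e, φ ⟨ad t, ad_mem he.not_mem t.2⟩ = φ t ^ Nat.card F) ∧
    (∀ t : To e, φ ⟨ad t, ad_mem he.not_mem t.2⟩ = ι (t.1.1 0 0 + t.1.1 1 1) - φ t) ∧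
    (∀ t : To e, φ t * (ι (t.1.1 0 0 + t.1.1 1 1) - φ t) = ι (dv t.1)) ∧
    ∀ t : To e, t.1.1 1 0 ≠ 0 → φ t ∉ Set.range ι := by
  obtain ⟨μ, h, n⟩ := exists_root he
  have c := he.not_mem
  have c' : ι (e.1 1 0) ≠ 0 := by simpa using c
  have k : ∀ t : To e, ι (t.1.1 1 0) * μ ^ 2 + (ι (t.1.1 0 0) - ι (t.1.1 1 1)) * μ - ι (t.1.1 0 1) = 0 := fun t => by
    obtain ⟨a, b⟩ := (mem_To c).1 t.2
    have a := congrArg ι a
    have b := congrArg ι b
    simp only [map_mul, map_sub] at a b h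
    exact mul_left_cancel₀ c' (by linear_combination ι (t.1.1 1 0) * h + μ * b - a)
  have r : ∀ x y : F, y ≠ 0 → ι x - μ * ι y ∉ Set.range ι := by
    rintro x y z ⟨w, v⟩
    have : ι y ≠ 0 := by simpa using z
    exact n ⟨(x - w) / y, by rw [map_div₀, map_sub, v]; field_simp; ring⟩
  have f : ι (e.1 1 0) * (μ ^ Nat.card F + μ) + ι (e.1 0 0 - e.1 1 1) = 0 := by
    have h2 := congrArg (H4.frobK F) h
    simp only [map_sub (H4.frobK F), map_add (H4.frobK F), map_mul (H4.frobK F), map_pow (H4.frobK F),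
      H4.frobK_algebraMap, map_zero, H4.frobK_apply μ] at h2
    have : μ ^ Nat.card F - μ ≠ 0 := fun z => n (H4.mem_range_of_pow_card _ (sub_eq_zero.1 z))
    exact mul_left_cancel₀ this (by linear_combination h2 - h)
  refine ⟨⟨⟨fun t => ι (t.1.1 1 1) - μ * ι (t.1.1 1 0), by simp⟩, fun s t => ?_⟩, fun s t z => ?_, fun t => ?_,
    fun t => ?_, fun t => ?_, fun t z => r _ _ z⟩
  · simp only [Subgroup.coe_mul, gl_mul, map_add, map_mul]
    linear_combination -ι (s.1.1 1 0) * k t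
  · have z : ι (s.1.1 1 1) - μ * ι (s.1.1 1 0) = ι (t.1.1 1 1) - μ * ι (t.1.1 1 0) := z
    have a : s.1.1 1 0 = t.1.1 1 0 := by
      by_contra a
      exact r (s.1.1 1 1 - t.1.1 1 1) _ (sub_ne_zero.2 a) ⟨0, by simp only [map_sub, map_zero]; linear_combination -z⟩
    rw [a, sub_left_inj] at z
    exact (toEq he).injective (Subtype.ext (Prod.ext ((algebraMap F _).injective z) a))
  · have b := congrArg ι ((mem_To c).1 t.2).2
    show ι (t.1.1 0 0) - μ * ι (-t.1.1 1 0) = (ι (t.1.1 1 1) - μ * ι (t.1.1 1 0)) ^ Nat.card F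
    rw [← H4.frobK_apply, map_sub, map_mul, H4.frobK_algebraMap, H4.frobK_algebraMap, H4.frobK_apply]
    simp only [map_mul, map_sub, map_neg] at b f ⊢
    exact mul_left_cancel₀ c' (by linear_combination b + ι (t.1.1 1 0) * f)
  · show ι (t.1.1 0 0) - μ * ι (-t.1.1 1 0) = ι (t.1.1 0 0 + t.1.1 1 1) - (ι (t.1.1 1 1) - μ * ι (t.1.1 1 0))
    simp only [map_add, map_neg]; ring
  · show (ι (t.1.1 1 1) - μ * ι (t.1.1 1 0)) * (ι (t.1.1 0 0 + t.1.1 1 1) - (ι (t.1.1 1 1) - μ * ι (t.1.1 1 0))) = _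
    simp only [map_add, dv, map_sub, map_mul]
    linear_combination -ι (t.1.1 1 0) * k t

theorem To_cyclic [Finite F] (he : Ell e) : IsCyclic (To e) := by
  obtain ⟨φ, h, -⟩ := exists_emb he
  exact isCyclic_of_injective_ringHom φ h

theorem To_pow [Finite F] (he : Ell e) (ht : t ∈ To e) : t ^ Nat.card F = ad t := by
  obtain ⟨φ, h, a, -⟩ := exists_emb he
  exact congrArg Subtype.val (h ((map_pow φ ⟨t, ht⟩ _).trans (a ⟨t, ht⟩).symm))

theorem ad_ne [Finite F] (he : Ell e) (ht : t ∈ To e) (n : t.1 1 0 ≠ 0) : ad t ≠ t := fun z => by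
  obtain ⟨φ, -, a, -, -, b⟩ := exists_emb he
  exact b ⟨t, ht⟩ n (H4.mem_range_of_pow_card _ ((a ⟨t, ht⟩).symm.trans (congrArg φ (Subtype.ext z))))

theorem eq_or_ad [Finite F] (he : Ell e) (hs : s ∈ To e) (ht : t ∈ To e)
    (h1 : s.1 0 0 + s.1 1 1 = t.1 0 0 + t.1 1 1) (h2 : dv s = dv t) : s = t ∨ s = ad t := by
  obtain ⟨φ, h, -, a, b, -⟩ := exists_emb he
  have b1 := b ⟨s, hs⟩
  have b2 := b ⟨t, ht⟩
  simp only [h1, h2] at b1 b2
  have : (φ ⟨s, hs⟩ - φ ⟨t, ht⟩) * (φ ⟨s, hs⟩ - φ ⟨ad t, ad_mem he.not_mem ht⟩) = 0 := by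
    rw [a ⟨t, ht⟩]; linear_combination b2 - b1
  exact (mul_eq_zero.1 this).imp (fun z => congrArg Subtype.val (h (sub_eq_zero.1 z)))
    fun z => congrArg Subtype.val (h (sub_eq_zero.1 z))

theorem conj_mem_To [Finite F] (he : Ell e) (ht : t ∈ To e) (n : t.1 1 0 ≠ 0) {x : GL (Fin 2) F}
    (h : x * t * x⁻¹ ∈ To e) : x ∈ To e ∨ (sg e he.not_mem)⁻¹ * x ∈ To e := by
  rw [← To_eq he.not_mem ht n, mem_To', mem_To']
  refine (eq_or_ad he h ht (tr_conj _ _) (dv_conj _ _)).imp (fun z => mul_inv_eq_iff_eq_mul.1 z) fun z => ?_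
  rw [← sg_conj he.not_mem ht] at z
  rw [mul_assoc, mul_inv_eq_iff_eq_mul.1 z]; group

theorem sg_not_mem [Finite F] (he : Ell e) : sg e he.not_mem ∉ To e := fun h =>
  ad_ne he (mem_To'.2 rfl) he.not_mem (by rw [← sg_conj he.not_mem (mem_To'.2 rfl), mem_To'.1 h, mul_inv_cancel_right])

theorem exists_ell [Finite F] : ∃ e : GL (Fin 2) F, Ell e := by
  have : ¬ Function.Surjective fun t : F => t ^ 2 + t := fun h =>
    one_ne_zero (neg_eq_zero.1 (Finite.injective_iff_surjective.2 h (a₁ := -1) (a₂ := 0) (by simp)))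
  obtain ⟨b, h⟩ := not_forall.1 this
  refine ⟨gm 1 b 1 0 (by simpa using fun z => h ⟨0, by simp [z]⟩), ell_iff.2 ⟨by simp, fun t k => h ⟨t, ?_⟩⟩⟩
  simpa [qf, sub_eq_zero] using k

/-- scalars inside the torus -/
def scT (e : GL (Fin 2) F) : Fˣ →* To e := sc.codRestrict _ sc_mem

/-- the central character -/
def om (θ : To e →* ℂˣ) : MulChar F ℂ := MulChar.ofUnitHom (θ.comp (scT e))

theorem om_val (θ : To e →* ℂˣ) (a : Fˣ) : om θ a = θ (scT e a) := MulChar.ofUnitHom_coe _ _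

theorem om_of (he : e.1 1 0 ≠ 0) (θ : To e →* ℂˣ) (t : To e) (h : t.1.1 1 0 = 0) : om θ (t.1.1 0 0) = θ t := by
  obtain ⟨a, b⟩ := To_scal he t.2 h
  exact (om_val θ (Units.mk0 _ (Bo_ne h).1)).trans (by congr 2; exact Subtype.ext (eq_sc h a b).symm)

/-- determinant characters on the torus -/
def dT (e : GL (Fin 2) F) (γ : MulChar F ℂ) : To e →* ℂˣ := (dl γ).comp (To e).subtype

theorem om_mul_dT (θ : To e →* ℂˣ) (γ : MulChar F ℂ) : om (θ * dT e γ) = om θ * γ * γ := MulChar.ext fun a => by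
  simp only [om_val, MulChar.mul_apply, MonoidHom.mul_apply, Units.val_mul]
  exact (congrArg _ (dl_B γ (sc10 a))).trans (by simp [mul_assoc])

variable [Fintype F]

local notation "q" => (Fintype.card F : ℂ)

theorem card_To (he : Ell e) : Nat.card (To e) = Fintype.card F ^ 2 - 1 := by
  classical
  rw [Nat.card_congr (toEq he), Nat.card_eq_fintype_card, Fintype.card_subtype_compl, Fintype.card_prod, sq]
  simp

theorem card_To' (he : Ell e) : (Nat.card (To e) : ℂ) = q ^ 2 - 1 := by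
  rw [card_To he, Nat.cast_sub (Nat.one_le_pow _ _ Fintype.card_pos)]; simp

theorem q3_ne : q ^ 2 - 1 ≠ 0 := by
  rw [show q ^ 2 - 1 = (q - 1) * (q + 1) by ring]; exact mul_ne_zero q1_ne q2_ne

theorem index_To (he : Ell e) : ((To e).index : ℂ) = q ^ 2 - q := by
  have := congrArg (Nat.cast : ℕ → ℂ) (To e).card_mul_index
  rw [Nat.cast_mul, card_To' he, card_GL] at this
  exact mul_left_cancel₀ q3_ne this

theorem pow_card_val (he : Ell e) (θ : To e →* ℂˣ) (t : To e) :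
    (θ ^ Fintype.card F) t = θ ⟨ad t, ad_mem he.not_mem t.2⟩ := by
  rw [MonoidHom.pow_apply, ← map_pow]; congr 1
  exact Subtype.ext ((by rw [Nat.card_eq_fintype_card]; rfl : _ = t.1 ^ Nat.card F).trans (To_pow he t.2))

theorem om_pow (he : Ell e) (θ : To e →* ℂˣ) : om (θ ^ Fintype.card F) = om θ := MulChar.ext fun a => by
  rw [om_val, om_val, pow_card_val he]; congr 2; exact Subtype.ext (ad_sc a)

theorem dT_pow (he : Ell e) (γ : MulChar F ℂ) : dT e γ ^ Fintype.card F = dT e γ := by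
  ext t; rw [pow_card_val he]; exact (dl_val γ _).trans ((congrArg γ (dv_ad _)).trans (dl_val γ _).symm)

theorem q_split : ∃ n, Fintype.card F = n + 1 ∧ Fintype.card F ^ 2 - 1 = n * (n + 2) :=
  ⟨Fintype.card F - 1, (Nat.sub_add_cancel Fintype.card_pos).symm, by
    obtain ⟨n, h⟩ := Nat.exists_eq_add_of_le' (Fintype.card_pos (α := F))
    rw [h, Nat.add_sub_cancel, show (n + 1) ^ 2 = n * (n + 2) + 1 by ring, Nat.add_sub_cancel]⟩

/-- the determinant on the torus -/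
def detT (e : GL (Fin 2) F) : To e →* Fˣ := Matrix.GeneralLinearGroup.det.comp (To e).subtype

omit [Fintype F] in
theorem mem_ker_detT {t : To e} : t ∈ (detT e).ker ↔ dv t.1 = 1 := by
  rw [MonoidHom.mem_ker, dv_eq, Units.ext_iff]; rfl

theorem pow_succ_eq_one (he : Ell e) (t : To e) : t ^ (Fintype.card F + 1) = 1 ↔ dv t.1 = 1 := by
  rw [Subtype.ext_iff, Subgroup.coe_pow, pow_succ', ← Nat.card_eq_fintype_card, To_pow he t.2, mul_ad, dv_eq]
  refine ⟨fun h => ?_, fun h => by rw [Units.val_eq_one.1 h, map_one]; rfl⟩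
  have := congrArg (fun g : GL (Fin 2) F => g.1 0 0) h
  simpa using this

theorem torus_facts (he : Ell e) : Nat.card (detT e).ker = Fintype.card F + 1 ∧ Function.Surjective (detT e) ∧
    ∀ t ∈ (detT e).ker, ∃ s : To e, s ^ (Fintype.card F - 1) = t := by
  have := To_cyclic he
  letI : CommGroup (To e) := IsCyclic.commGroup
  obtain ⟨n, h1, h2⟩ := q_split (F := F)
  have n0 : 0 < n := by have := Fintype.one_lt_card (α := F); omega
  have k : (detT e).ker = (powMonoidHom (Fintype.card F + 1)).ker := Subgroup.ext fun t => by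
    rw [mem_ker_detT, ← pow_succ_eq_one he]; rfl
  have c : Nat.card (detT e).ker = Fintype.card F + 1 := by
    rw [k, IsCyclic.card_powMonoidHom_ker, card_To he, h2, h1]; simp
  refine ⟨c, ?_, fun t h => ?_⟩
  · rw [← MonoidHom.range_eq_top, ← Subgroup.card_eq_iff_eq_top, ← Subgroup.index_ker, Nat.card_units,
      Nat.card_eq_fintype_card, h1, Nat.add_sub_cancel]
    have := (detT e).ker.card_mul_index
    rw [c, card_To he, h2, h1, mul_comm n] at this
    exact Nat.eq_of_mul_eq_mul_left (by omega) this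
  · have : (powMonoidHom (Fintype.card F - 1) : To e →* To e).range = (detT e).ker := by
      refine Subgroup.eq_of_le_of_card_ge ?_ ?_
      · rintro _ ⟨s, rfl⟩
        rw [k, MonoidHom.mem_ker, powMonoidHom_apply, powMonoidHom_apply, ← pow_mul, h1, Nat.add_sub_cancel, ← h2,
          ← card_To he, pow_card_eq_one']
      · rw [c, IsCyclic.card_powMonoidHom_range, card_To he, h2, h1]; simp [n0]
    exact this.ge h

/-- agreement on the norm one subgroup -/
def EqC (θ θ' : To e →* ℂˣ) : Prop := ∀ t : To e, dv t.1 = 1 → θ t = θ' t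

omit [Fintype F] in
theorem eqC_dT (θ : To e →* ℂˣ) (γ : MulChar F ℂ) : EqC (θ * dT e γ) θ := fun t h => by
  have : dT e γ t = 1 := Units.ext ((dl_val γ _).trans (by rw [show dv ((To e).subtype t) = 1 from h, map_one]; rfl))
  simp [this]

theorem dT_inj (he : Ell e) : Function.Injective (dT e) := fun α β h => MulChar.ext fun a => by
  obtain ⟨t, rfl⟩ := (torus_facts he).2.1 a
  have := congrArg (fun l : To e →* ℂˣ => (l t : ℂ)) h
  simpa [dT, dl, detT] using this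

theorem EqC.exists (he : Ell e) {θ θ' : To e →* ℂˣ} (h : EqC θ θ') : ∃ γ, θ = θ' * dT e γ := by
  let l := (detT e).liftOfSurjective (torus_facts he).2.1 ⟨θ'⁻¹ * θ, fun t k => by
    simp [MonoidHom.mem_ker, h t (mem_ker_detT.1 k)]⟩
  refine ⟨MulChar.ofUnitHom l, MonoidHom.ext fun t => ?_⟩
  have : l (detT e t) = (θ'⁻¹ * θ) t := MonoidHom.liftOfRightInverse_comp_apply ..
  rw [MonoidHom.mul_apply, show dT e (MulChar.ofUnitHom l) t = l (detT e t) from Units.ext (by simp [dT, dl, detT]), this]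
  simp

theorem eqC_pow (he : Ell e) (θ : To e →* ℂˣ) : EqC (θ ^ Fintype.card F) θ⁻¹ := fun t h => by
  rw [pow_card_val he, MonoidHom.inv_apply, ← map_inv]; congr 1; exact Subtype.ext (ad_of_dv h)

theorem exists_dT (he : Ell e) {θ : To e →* ℂˣ} (h : θ ^ Fintype.card F = θ) : ∃ γ, θ = dT e γ := by
  have : EqC θ 1 := fun t k => by
    obtain ⟨s, rfl⟩ := (torus_facts he).2.2 t (mem_ker_detT.2 k)
    have := DFunLike.congr_fun h s
    rw [MonoidHom.pow_apply, ← Nat.sub_add_cancel (Fintype.card_pos (α := F)), pow_succ] at this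
    rw [map_pow]; simpa using this
  simpa using this.exists he

variable [DecidableEq F]

instance fintypeTo : Fintype (To e) := Fintype.ofFinite _
instance decTo : DecidableEq (To e →* ℂˣ) := Classical.decEq _
instance decEqC (θ θ' : To e →* ℂˣ) : Decidable (EqC θ θ') := Classical.dec _

theorem ind_To (he : Ell e) (θ : To e →* ℂˣ) (t : To e) (n : t.1.1 1 0 ≠ 0) :
    indFun (To e) (lf θ) t = θ t + (θ ^ Fintype.card F) t := by
  classical
  have c := he.not_mem
  have k : ∀ x, extendByZero (To e) (lf θ) (x * t * x⁻¹) = (if x ∈ To e then (θ t : ℂ) else 0) +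
      if (sg e c)⁻¹ * x ∈ To e then ((θ ^ Fintype.card F) t : ℂ) else 0 := fun x => by
    by_cases a : x ∈ To e
    · rw [if_pos a, if_neg (fun b => sg_not_mem he (by simpa using (To e).mul_mem a ((To e).inv_mem b))), add_zero,
        To_comm c a t.2, mul_inv_cancel_right, ext0_coe, lf_apply]
    · by_cases b : (sg e c)⁻¹ * x ∈ To e
      · have : x * t.1 * x⁻¹ = ad t.1 := by
          rw [← sg_conj c t.2, show x * t.1 * x⁻¹ = sg e c * ((sg e c)⁻¹ * x * t.1 * ((sg e c)⁻¹ * x)⁻¹) * (sg e c)⁻¹ by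
            group, To_comm c b t.2, mul_inv_cancel_right]
        rw [if_neg a, if_pos b, zero_add, this, ext0_of_mem _ (ad_mem c t.2), pow_card_val he, lf_apply]
      · rw [if_neg a, if_neg b, add_zero, ext0_of_not_mem _ fun m => (conj_mem_To he t.2 n m).elim a b]
  have s : ∀ z : ℂ, ∑ x : GL (Fin 2) F, (if x ∈ To e then z else 0) = Nat.card (To e) * z := fun z => by
    rw [← Finset.sum_filter, Finset.sum_const, nsmul_eq_mul, Nat.card_eq_fintype_card, Fintype.card_subtype]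
  simp only [indFun_apply', k, Finset.sum_add_distrib]
  rw [Fintype.sum_equiv (Equiv.mulLeft (sg e c)⁻¹) (fun x => if (sg e c)⁻¹ * x ∈ To e then ((θ ^ Fintype.card F) t : ℂ)
    else 0) (fun x => if x ∈ To e then ((θ ^ Fintype.card F) t : ℂ) else 0) fun _ => rfl, s, s,
    ← mul_add, ← mul_assoc, inv_mul_cancel₀ (card_ne_zero _), one_mul]

/-- the cuspidal (virtual) characters -/
def rho (θ : To e →* ℂˣ) : GL (Fin 2) F → ℂ :=
  ps (om θ) 1 * ps 1 1 - ps (om θ) 1 - ps (om θ) 1 - indFun (To e) (lf θ)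

theorem rho_gen (θ : To e →* ℂˣ) : IsGeneralizedCharacter _ (rho θ) :=
  ((((ps_ch _ _).mul (ps_ch _ _)).isGen.sub (ps_ch _ _).isGen).sub (ps_ch _ _).isGen).sub (lf_ch θ).ind.isGen

theorem rho_cf (θ : To e →* ℂˣ) : IsClassFunction _ (rho θ) := (rho_gen θ).isClassFunction

theorem rho_ell (θ : To e →* ℂˣ) (h : Ell g) : rho θ g = -indFun (To e) (lf θ) g := by simp [rho, ps_ell _ _ h]

theorem rho_To (he : Ell e) (θ : To e →* ℂˣ) (t : To e) (n : t.1.1 1 0 ≠ 0) :
    rho θ t = -(θ t + (θ ^ Fintype.card F) t) := by rw [rho_ell θ (To_ell he t.2 n), ind_To he θ t n]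

/-- the shape of a cuspidal character on the Borel subgroup -/
def cB (g : GL (Fin 2) F) : ℂ := if g.1 0 0 = g.1 1 1 then if g.1 0 1 = 0 then q - 1 else -1 else 0

theorem rho_B (he : Ell e) (θ : To e →* ℂˣ) (h : g.1 1 0 = 0) : rho θ g = cB g * om θ (g.1 0 0) := by
  have a := MulChar.one_apply (R' := ℂ) (Bo_ne h).1.isUnit
  have d := MulChar.one_apply (R' := ℂ) (Bo_ne h).2.isUnit
  simp only [rho, cB, Pi.sub_apply, Pi.mul_apply]
  split_ifs with c c'
  · have m : g ∈ To e := by rw [eq_sc h c c']; exact sc_mem _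
    rw [ps_scal _ _ h c c', ps_scal _ _ h c c', indFun_central _ (by rw [eq_sc h c c']; exact sc_comm _) m, index_To he,
      a, lf_apply, ← om_of he.not_mem θ ⟨g, m⟩ h]
    ring
  · rw [ps_unip _ _ h c c', ps_unip _ _ h c c', indFun_eq_zero_of_not_conj _ _ (not_conj_To he h (by tauto)), a]; ring
  · rw [ps_split _ _ h c, ps_split _ _ h c, indFun_eq_zero_of_not_conj _ _ (not_conj_To he h (by tauto)), a, d]; ring

theorem rho_one (he : Ell e) (θ : To e →* ℂˣ) : rho θ 1 = q - 1 := by simp [rho_B he θ, cB]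

theorem inner_B_rho (he : Ell e) (θ : To e →* ℂˣ) (φ : Bo F → ℂ) (x y : Fˣ → ℂ) (hx : ∀ a, φ (bm a a 0) = x a)
    (hy : ∀ a b, b ≠ 0 → φ (bm a a b) = y a) :
    ⟪φ, (rho θ)↾(Bo F)⟫ = ((q - 1) * q)⁻¹ * ∑ a : Fˣ, (x a - y a) * conj (om θ a) := by
  have k : ∀ a, ∑ d, ∑ b, φ (bm a d b) * conj (rho θ (bm a d b)) = (q - 1) * ((x a - y a) * conj (om θ a)) := fun a => by
    rw [Finset.sum_eq_single a (fun d _ n => Finset.sum_eq_zero fun b _ => by
      simp [rho_B he θ (bm10 a d b), cB, Units.ext_iff.not.1 n.symm]) (by simp),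
      ← Finset.add_sum_erase _ _ (Finset.mem_univ 0), Finset.sum_congr rfl (g := fun _ => -(y a * conj (om θ a)))
      fun b m => by simp [rho_B he θ (bm10 a a b), cB, hy a b (by simpa using m), (by simpa using m : b ≠ 0)],
      Finset.sum_const, Finset.card_erase_of_mem (Finset.mem_univ _), Finset.card_univ, nsmul_eq_mul,
      Nat.cast_sub Fintype.card_pos, hx]
    simp [rho_B he θ (bm10 a a 0), cB]; ring
  have := q1_ne (F := F)
  simp only [inner_B, k, ← Finset.mul_sum]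
  rw [mul_inv, mul_assoc, mul_left_comm, inv_mul_cancel_left₀ this]

theorem inner_ps_rho (he : Ell e) (α β : MulChar F ℂ) (θ : To e →* ℂˣ) : ⟪ps α β, rho θ⟫ = 0 := by
  rw [ps, inner_indFun_left _ _ (rho_cf θ), inner_B_rho he θ _ (fun a => α a * β a) (fun a => α a * β a)
    (fun _ => rfl) fun _ _ _ => rfl]
  simp

theorem inner_rho_left (θ : To e →* ℂˣ) {ψ : GL (Fin 2) F → ℂ} (h : IsClassFunction _ ψ) : ⟪rho θ, ψ⟫ =
    ⟪(ps (om θ) 1)↾(Bo F), ψ↾(Bo F)⟫ - 2 * ⟪ps (om θ) 1, ψ⟫ - ⟪lf θ, ψ↾(To e)⟫ := by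
  have : ps (om θ) 1 * ps 1 1 = indFun (Bo F) (ps (om θ) 1)↾(Bo F) := by
    rw [indFun_res _ (ps_cf _ _), mul_comm, ps, ps]; congr 2; funext b
    simp [bc, MulChar.one_apply (Bo_ne (mem_Bo.1 b.2)).1.isUnit, MulChar.one_apply (Bo_ne (mem_Bo.1 b.2)).2.isUnit]
  rw [rho, this, H3.inner_sub_left, H3.inner_sub_left, H3.inner_sub_left, inner_indFun_left _ _ h,
    inner_indFun_left (To e) _ h]
  ring

theorem inner_rho_dl (θ : To e →* ℂˣ) (γ : MulChar F ℂ) : ⟪rho θ, lf (dl γ)⟫ = -if θ = dT e γ then 1 else 0 := by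
  rw [inner_rho_left θ (lf_ch _).isClassFunction, dl_res, ← inner_indFun_right _ _ (ps_cf _ _), ← ps, inner_ps,
    inner_ps_dl, show (lf (dl γ))↾(To e) = lf (dT e γ) from rfl, inner_lf]
  split_ifs <;> ring

theorem sum_To_scal (he : Ell e) (f : To e → ℂ) : ∑ t, (if t.1.1 1 0 = 0 then f t else 0) = ∑ a, f (scT e a) := by
  rw [← Finset.sum_filter]
  refine (Finset.sum_bij (fun a _ => scT e a) (fun a _ => Finset.mem_filter.2 ⟨Finset.mem_univ _, sc10 a⟩) (fun a _ b _ k => Units.ext ?_)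
    (fun t k => ?_) fun _ _ => rfl).symm
  · simpa [scT] using congrArg (fun t : To e => t.1.1 0 0) k
  · have k : t.1.1 1 0 = 0 := by simpa using k
    obtain ⟨a, b⟩ := To_scal he.not_mem t.2 k
    exact ⟨_, Finset.mem_univ _, Subtype.ext (eq_sc k a b).symm⟩

theorem inner_rho (he : Ell e) (θ θ' : To e →* ℂˣ) :
    ⟪rho θ, rho θ'⟫ = (if θ = θ' then 1 else 0) + if θ = θ' ^ Fintype.card F then 1 else 0 := by
  have k : (rho θ')↾(To e) = (fun t => if t.1.1 1 0 = 0 then (q + 1) * (θ' t : ℂ) else 0) - lf θ' -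
      lf (θ' ^ Fintype.card F) := funext fun t => by
    simp only [Pi.sub_apply, lf_apply]
    split_ifs with c
    · obtain ⟨a, b⟩ := To_scal he.not_mem t.2 c
      rw [rho_B he θ' c, ← om_of he.not_mem _ t c, ← om_of he.not_mem _ t c, om_pow he, cB, if_pos a, if_pos b]; ring
    · rw [rho_To he θ' t c]; ring
  have k2 : ⟪lf θ, fun t : To e => if t.1.1 1 0 = 0 then (q + 1) * (θ' t : ℂ) else 0⟫ =
      if om θ = om θ' then 1 else 0 := by
    have : ∀ t : To e, lf θ t * conj (if t.1.1 1 0 = 0 then (q + 1) * (θ' t : ℂ) else 0) =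
        if t.1.1 1 0 = 0 then (q + 1) * (θ t * conj (θ' t : ℂ)) else 0 := fun t => by
      split_ifs <;> simp; ring
    simp only [classInner, this, sum_To_scal he, ← om_val, ← Finset.mul_sum, sum_mc, card_To' he]
    have := q3_ne (F := F)
    split_ifs
    · field_simp; ring
    · simp
  rw [inner_rho_left θ (rho_cf θ'), inner_ps_rho he, k, H3.inner_sub_right, H3.inner_sub_right, k2, inner_lf, inner_lf,
    inner_B_rho he θ' _ (fun a => (q + 1) * om θ a) (fun a => om θ a) (fun a => by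
      simp [ps_scal _ _ (bm10 a a 0) rfl rfl]) fun a b n => by simp [ps_unip _ _ (bm10 a a b) rfl n]]
  simp only [show ∀ z : ℂ, (q + 1) * z - z = q * z from fun z => by ring, mul_assoc, ← Finset.mul_sum, sum_mc]
  have := q_ne (F := F); have := q1_ne (F := F)
  have : ((q - 1) * q)⁻¹ * (q * if om θ = om θ' then q - 1 else 0) = if om θ = om θ' then 1 else 0 := by
    split_ifs <;> simp
    field_simp
  rw [this]
  convert (fun _ _ _ => by ring : ∀ a b c : ℂ, a - 2 * 0 - (a - b - c) = b + c) _ _ _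

theorem rho_irr (he : Ell e) {θ : To e →* ℂˣ} (h : θ ≠ θ ^ Fintype.card F) : Irr _ (rho θ) :=
  (rho_gen θ).isIrr_of_re_nonneg (by simp [inner_rho he, h]) (by
    simpa [rho_one he] using Nat.succ_le_of_lt Fintype.card_pos)

theorem rho_dT (he : Ell e) (γ : MulChar F ℂ) : rho (dT e γ) = st γ - lf (dl γ) := by
  have a := (rho_gen (dT e γ)).inner_comm (ps_ch γ γ).isGen
  have b := (lf_ch (dl γ)).isGen.inner_comm (rho_gen (dT e γ))
  have c := (lf_ch (dl γ)).inner_comm (ps_ch γ γ)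
  rw [← sub_eq_zero, ← inner_self_eq_zero, st]
  simp only [H3.inner_sub_left, H3.inner_sub_right, a, b, c, inner_ps_rho he, inner_rho he, inner_ps, inner_ps_dl,
    inner_dl, inner_rho_dl, dT_pow he, and_self, if_true]
  ring

theorem rho_mul_dl (he : Ell e) (θ : To e →* ℂˣ) (γ : MulChar F ℂ) : rho θ * lf (dl γ) = rho (θ * dT e γ) := by
  refine cf_ext ((rho_cf θ).mul (lf_ch _).isClassFunction) (rho_cf _) (fun g h => ?_) fun g h => ?_
  · rw [Pi.mul_apply, rho_B he _ h, rho_B he _ h, om_mul_dT, lf_apply, dl_B γ h, cB]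
    by_cases c : g.1 0 0 = g.1 1 1
    · simp [← c, mul_assoc]
    · simp [c]
  · rw [Pi.mul_apply, rho_ell _ h, rho_ell _ h, neg_mul, ← Pi.mul_apply, ← indFun_mul_res _ _ (lf_ch _).isClassFunction,
      lf_mul]; rfl

theorem conj_into_To (he : Ell e) (h : Ell g) : ∃ x, x * g * x⁻¹ ∈ To e := by
  by_contra! n
  have := congrFun (rho_dT he 1) g
  rw [rho_ell _ h, indFun_eq_zero_of_not_conj _ _ n, Pi.sub_apply, st_ell _ h, lf_apply, dl_val,
    MulChar.one_apply (dv_ne g).isUnit] at this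
  norm_num at this

theorem complete (he : Ell e) {χ : GL (Fin 2) F → ℂ} (h : Irr _ χ) :
    (∃ α β, ⟪ps α β, χ⟫ ≠ 0) ∨ ∃ θ : To e →* ℂˣ, ⟪rho θ, χ⟫ ≠ 0 := by
  classical
  by_contra! n
  have hc : ∀ a b : To e, a * b = b * a := fun a b => Subtype.ext (To_comm he.not_mem a.2 b.2)
  have k : ∀ g : GL (Fin 2) F, g.1 1 0 = 0 →
      ((q + 1) • ∑ α, ∑ β, ps α β + (q - 1) • ∑ θ : To e →* ℂˣ, rho θ : GL (Fin 2) F → ℂ) g =
      (q - 1) ^ 2 * (q + 1) * if g.1 0 0 = 1 ∧ g.1 1 1 = 1 then if g.1 0 1 = 0 then 2 * q else 0 else 0 := fun g c => by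
    have s : ∑ θ : To e →* ℂˣ, om θ (g.1 0 0) = if g.1 0 0 = 1 then q ^ 2 - 1 else 0 := by
      have := sum_lin hc (scT e (Units.mk0 _ (Bo_ne c).1))
      simp only [← om_val, card_To' he, Units.val_mk0] at this
      rw [this]; congr 1
      exact propext ⟨fun z => by simpa [scT] using congrArg (fun t : To e => t.1.1 0 0) z,
        fun z => by rw [show Units.mk0 _ (Bo_ne c).1 = 1 from Units.ext z, map_one]⟩
    simp only [Pi.add_apply, Pi.smul_apply, Finset.sum_apply, ps_B _ _ c, rho_B he _ c, Finset.sum_add_distrib,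
      ← Finset.mul_sum, ← Finset.sum_mul, sum_mc_dual, s, cB, smul_eq_mul]
    by_cases a : g.1 0 0 = 1 <;> by_cases d : g.1 1 1 = 1 <;> simp [a, d, nn_zero, eq_comm (a := (1 : F))]
    split_ifs <;> ring
  have cf : IsClassFunction _ ((q + 1) • ∑ α, ∑ β, ps α β + (q - 1) • ∑ θ : To e →* ℂˣ, rho θ) :=
    ((isClassFunction_sum _ _ fun _ _ => isClassFunction_sum _ _ fun _ _ => ps_cf _ _).smul _).add
      ((isClassFunction_sum _ _ fun _ _ => rho_cf _).smul _)
  refine inner_ne_of_supp (fun g c => ?_) ?_ h (by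
    simp only [H3.inner_add_left, H3.inner_smul_left, inner_sum_left, n.1, n.2, Finset.sum_const_zero, mul_zero, add_zero] :
      ⟪(q + 1) • ∑ α, ∑ β, ps α β + (q - 1) • ∑ θ : To e →* ℂˣ, rho θ, χ⟫ = 0)
  · by_cases l : Ell g
    · have : ∑ θ : To e →* ℂˣ, indFun (To e) (lf θ) g = 0 := by
        rw [← Finset.sum_apply, ← indFun_sum]
        refine indFun_eq_zero_of_support _ _ fun x m => ?_
        rw [Finset.sum_apply]
        exact (sum_lin hc _).trans (if_neg fun z => c (by simpa [mul_inv_eq_one] using congrArg Subtype.val z))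
      simp [Finset.sum_apply, ps_ell _ _ l, rho_ell _ l, this]
    · obtain ⟨x, m⟩ : ∃ x, x * g * x⁻¹ ∈ Bo F := by by_contra! n; exact l n
      rw [← cf g x, k _ (mem_Bo.1 m)]
      split_ifs with a b
      · exact absurd (by simpa [mul_inv_eq_one] using (gl_ext a.1 b (mem_Bo.1 m) a.2 : x * g * x⁻¹ = 1)) c
      · simp
      · simp
  · rw [k 1 rfl]; simp [q1_ne, q2_ne]

/-- the irreducible characters of `GL₂(q)` -/
theorem gl_irr (he : Ell e) {χ : GL (Fin 2) F → ℂ} (h : Irr _ χ) : (∃ α, χ = lf (dl α)) ∨ (∃ α, χ = st α) ∨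
    (∃ α β, α ≠ β ∧ χ = ps α β) ∨ ∃ θ : To e →* ℂˣ, θ ≠ θ ^ Fintype.card F ∧ χ = rho θ := by
  rcases complete he h with ⟨α, β, k⟩ | ⟨θ, k⟩
  · by_cases c : α = β
    · rw [← c, ps_eq_add] at k
      exact (h.eq_or_of_add (lf_irr _) (st_irr _) k).elim (fun z => .inl ⟨_, z⟩) fun z => .inr (.inl ⟨_, z⟩)
    · exact .inr (.inr (.inl ⟨α, β, c, ((ps_irr c).eq_of_inner_ne_zero h k).symm⟩))
  · by_cases c : θ = θ ^ Fintype.card F
    · obtain ⟨γ, rfl⟩ := exists_dT he c.symm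
      by_contra! n
      exact k (by rw [rho_dT he, H3.inner_sub_left, (st_irr _).inner_of_ne h (n.2.1 _).symm,
        (lf_irr _).inner_of_ne h (n.1 _).symm, sub_zero])
    · exact .inr (.inr (.inr ⟨θ, c, ((rho_irr he c).eq_of_inner_ne_zero h k).symm⟩))

end G2
end
end H3
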