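import Cfsg.Agent.H3.GL2b

/-! # The irreducible characters of `SL₂(q)` -/

open Cfsg
open H4 (slConj toGL_slConj ub slm)
open scoped ComplexConjugate MatrixGroups
set_option maxSynthPendingDepth 3

namespace H3
open H3

noncomputable section

theorem sum_fib {G ι : Type*} [Group G] [Finite G] (f : IrrCharacter G → ι) (s : Finset ι) (h : ∀ χ, f χ ∈ s)
    (Φ : ι → ℂ) : ∑ χ, Φ (f χ) = ∑ v ∈ s, (Nat.card {χ // f χ = v} : ℂ) * Φ v := by
  classical
  rw [← Finset.sum_fiberwise_of_maps_to (fun χ _ => h χ)]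
  refine Finset.sum_congr rfl fun v _ => ?_
  rw [Finset.sum_congr rfl (g := fun _ => Φ v) fun χ m => by rw [(Finset.mem_filter.1 m).2], Finset.sum_const,
    nsmul_eq_mul, Nat.card_eq_fintype_card, Fintype.card_subtype]

theorem card_eq_of_range {G ι : Type*} [Group G] (P : IrrCharacter G → Prop) (f : ι → G → ℂ) (i : Function.Injective f)
    (a : ∀ x, Irr G (f x)) (h : ∀ χ, P χ ↔ ∃ x, χ.1 = f x) : Nat.card {χ // P χ} = Nat.card ι :=
  (Nat.card_eq_of_bijective (fun x => ⟨⟨f x, a x⟩, (h _).2 ⟨x, rfl⟩⟩)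
    ⟨fun _ _ e => i (congrArg (fun χ : {χ // P χ} => χ.1.1) e),
      fun χ => ((h _).1 χ.2).imp fun _ e => Subtype.ext (Subtype.ext e.symm)⟩).symm

theorem Cfsg.IsIrrCharacter.cent_mul {G : Type*} [Group G] [Finite G] {χ : G → ℂ} (h : Irr G χ) {z : G}
    (hz : ∀ x, x * z = z * x) {c : ℂ} (e : χ z = c * χ 1) (x : G) : χ (z * x) = c * χ x := by
  obtain ⟨d, -, k⟩ := mem_charCenter.1 (h.center_le_charCenter (Subgroup.mem_center_iff.2 hz))
  have := k 1
  rw [mul_one, e] at this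
  rw [k, mul_right_cancel₀ h.deg_ne_zero this]

theorem Cfsg.IsIrrCharacter.cent_sign {G : Type*} [Group G] [Finite G] {χ : G → ℂ} (h : Irr G χ) {z : G}
    (hz : ∀ x, x * z = z * x) (h2 : z * z = 1) : χ z = χ 1 ∨ χ z = -χ 1 := by
  obtain ⟨d, -, k⟩ := mem_charCenter.1 (h.center_le_charCenter (Subgroup.mem_center_iff.2 hz))
  have a := k 1
  have b := k z
  rw [mul_one] at a
  rw [h2, a, ← mul_assoc] at b
  rcases mul_self_eq_one_iff.1 (mul_right_cancel₀ h.deg_ne_zero (b.symm.trans (one_mul _).symm)) with c | c <;> simp [a, c]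

namespace G2
variable {F : Type*} [Field F] {e g y : GL (Fin 2) F} {s : SL(2, F)} {χ : GL (Fin 2) F → ℂ} {ψ ψ' : SL(2, F) → ℂ}

theorem slConj_mul (x y : GL (Fin 2) F) (s : SL(2, F)) : slConj (x * y) s = slConj x (slConj y s) :=
  tg_inj (by simp only [toGL_slConj]; group)

theorem slConj_tg (w s : SL(2, F)) : slConj (tg w) s = w * s * w⁻¹ := tg_inj (by simp only [toGL_slConj, map_mul, map_inv])

theorem fix_sq (h : IsClassFunction _ ψ) (hy : IsSquare (dv y)) (s : SL(2, F)) : ψ (slConj y s) = ψ s := by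
  obtain ⟨r, k⟩ := hy
  have r0 : r ≠ 0 := fun z => dv_ne y (by simp [k, z])
  obtain ⟨w, hw⟩ := exists_tg (g := y * sc (Units.mk0 r r0)⁻¹) (by
    rw [dv_mul, k, dv, sc00, sc01, sc10, sc11]; simp; field_simp)
  rw [← h s w, ← slConj_tg, hw]; congr 1
  exact tg_inj (by rw [toGL_slConj, toGL_slConj, mul_assoc y (sc _), ← sc_comm]; group)

/-- diagonal matrices -/
def dm (a d : Fˣ) : GL (Fin 2) F := gm a 0 0 d (by simp)

theorem dv_dm (a d : Fˣ) : dv (dm a d) = a * d := by simp [dv, dm]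

theorem slConj_ub (a : Fˣ) (b : F) : slConj (dm a 1) (ub b) = ub (a * b) := tg_inj (by
  rw [toGL_slConj, mul_inv_eq_iff_eq_mul]
  refine gl_ext ?_ ?_ ?_ ?_ <;> simp [gl_mul, dm, ub, -Units.val_mul])

theorem tr_slConj (y : GL (Fin 2) F) (s : SL(2, F)) : (slConj y s).1.trace = s.1.trace := by
  have := tr_conj y (tg s)
  rwa [← toGL_slConj, tg_val, tg_val, ← Matrix.trace_fin_two, ← Matrix.trace_fin_two] at this

theorem slConj_neg (y : GL (Fin 2) F) (s : SL(2, F)) : slConj y (-s) = -slConj y s := by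
  apply Subtype.ext
  have a := congrArg Units.val (toGL_slConj y (-s))
  have b := congrArg Units.val (toGL_slConj y s)
  simp only [tg_val, Units.val_mul, Matrix.SpecialLinearGroup.coe_neg] at a b ⊢
  rw [a, b]; simp

theorem neg_eq_mul (s : SL(2, F)) : -s = -1 * s := by simp

theorem exists_pm_ub (h : s.1.trace ^ 2 = 4) (h1 : s ≠ 1) (h2 : s ≠ -1) :
    ∃ b ≠ 0, IsConj (ub b) s ∨ IsConj (-ub b) s := by
  rcases sq_eq_sq_iff_eq_or_eq_neg.1 (show s.1.trace ^ 2 = 2 ^ 2 by rw [h]; norm_num) with k | k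
  · exact (H4.exists_conj_ub k h1).imp fun b m => ⟨m.1, .inl m.2⟩
  · obtain ⟨b, n, m⟩ := H4.exists_conj_ub (g := -s) (by simp [k]) (fun z => h2 (neg_eq_iff_eq_neg.1 z))
    obtain ⟨x, m⟩ := isConj_iff.1 m
    exact ⟨b, n, .inr (isConj_iff.2 ⟨x, by rw [mul_neg, neg_mul, m, neg_neg]⟩)⟩

theorem tr_split (h : s.1 1 0 = 0) (n : s.1 0 0 ^ 2 ≠ 1) : s.1.trace ^ 2 ≠ 4 := fun z => by
  have d := H4.sl2_det s
  rw [h, mul_zero, sub_zero] at d
  rw [Matrix.trace_fin_two] at z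
  have : (s.1 0 0 - s.1 1 1) ^ 2 = 0 := by linear_combination z - 4 * d
  exact n (by linear_combination d + s.1 0 0 * (pow_eq_zero_iff two_ne_zero).1 this)

theorem ne_of_split (h : s.1 1 0 = 0) (n : s.1 0 0 ^ 2 ≠ 1) : s.1 0 0 ≠ s.1 1 1 := fun z => by
  have d := H4.sl2_det s
  exact n (by rw [h, mul_zero, sub_zero, ← z] at d; rw [sq, d])

theorem tr_ell (h2 : (2 : F) ≠ 0) (h : Ell (tg s)) : s.1.trace ^ 2 ≠ 4 := fun z => by
  have d := H4.sl2_det s
  have c : s.1 1 0 ≠ 0 := h.not_mem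
  rw [Matrix.trace_fin_two] at z
  refine (ell_iff.1 h).2 ((s.1 1 1 - s.1 0 0) / (2 * s.1 1 0)) ?_
  simp only [qf, tg_val]; field_simp; linear_combination 4 * d - z

theorem scal_of_sq (h2 : (2 : F) ≠ 0) (h : s * s = 1) : s = 1 ∨ s = -1 := by
  have k := ad_of_dv (dv_tg s)
  rw [← map_inv, inv_eq_of_mul_eq_one_right h] at k
  have a : s.1 1 1 = s.1 0 0 := congrArg (fun g : GL (Fin 2) F => g.1 0 0) k
  have b : -s.1 0 1 = s.1 0 1 := congrArg (fun g : GL (Fin 2) F => g.1 0 1) k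
  have c : -s.1 1 0 = s.1 1 0 := congrArg (fun g : GL (Fin 2) F => g.1 1 0) k
  have b : s.1 0 1 = 0 := mul_left_cancel₀ h2 (by linear_combination -b)
  have c : s.1 1 0 = 0 := mul_left_cancel₀ h2 (by linear_combination -c)
  have d := H4.sl2_det s
  rw [a, b, zero_mul, sub_zero] at d
  exact (mul_self_eq_one_iff.1 d).imp (fun z => H4.sl2_ext (by simp [z]) (by simp [b]) (by simp [c]) (by simp [a, z]))
    fun z => H4.sl2_ext (by simp [z]) (by simp [b]) (by simp [c]) (by simp [a, z])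

theorem scal_of_B (h : s.1 1 0 = 0) (a : s.1 0 0 = s.1 1 1) (b : s.1 0 1 = 0) : s = 1 ∨ s = -1 := by
  have d := H4.sl2_det s
  rw [← a, b, zero_mul, sub_zero] at d
  exact (mul_self_eq_one_iff.1 d).imp (fun z => H4.sl2_ext (by simp [z]) (by simp [b]) (by simp [h]) (by simp [← a, z]))
    fun z => H4.sl2_ext (by simp [z]) (by simp [b]) (by simp [h]) (by simp [← a, z])

theorem ub_of_B (h : s.1 1 0 = 0) (a : s.1 0 0 = s.1 1 1) : s = ub (s.1 0 1) ∨ s = -ub (-s.1 0 1) := by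
  have d := H4.sl2_det s
  rw [← a, h, mul_zero, sub_zero] at d
  exact (mul_self_eq_one_iff.1 d).imp (fun z => H4.eq_ub z (a ▸ z) h)
    fun z => H4.sl2_ext (by simp [z, ub]) (by simp [ub]) (by simp [h, ub]) (by simp [← a, z, ub])

variable (F) in
/-- the Borel subgroup of `SL₂` -/
abbrev BS : Subgroup SL(2, F) := (Bo F).comap tg

theorem mem_BS : s ∈ BS F ↔ s.1 1 0 = 0 := mem_Bo

/-- upper triangular matrices of determinant one -/
def sm (a : Fˣ) (b : F) : BS F := ⟨slm a b 0 (a⁻¹ : Fˣ) (by simp), mem_BS.2 rfl⟩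

/-- parametrisation of the Borel subgroup of `SL₂` -/
def sEq : Fˣ × F ≃ BS F where
  toFun p := sm p.1 p.2
  invFun g := (Units.mk0 _ (Bo_ne (g := tg g.1) (mem_BS.1 g.2)).1, g.1.1 0 1)
  left_inv _ := Prod.ext (Units.ext rfl) rfl
  right_inv g := Subtype.ext (H4.sl2_ext rfl rfl (mem_BS.1 g.2).symm (by
    have := H4.sl2_det g.1
    rw [mem_BS.1 g.2, mul_zero, sub_zero] at this
    simpa [sm] using inv_eq_of_mul_eq_one_right this))

/-- a pair of conjugate irreducible constituents -/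
structure Half (χ : GL (Fin 2) F → ℂ) (ψ ψ' : SL(2, F) → ℂ) : Prop where
  cf : IsClassFunction _ χ
  irr : Irr _ ψ
  irr' : Irr _ ψ'
  ne : ψ ≠ ψ'
  add : rs χ = ψ + ψ'
  swap : ∀ y, ¬ IsSquare (dv y) → ∀ s, ψ (slConj y s) = ψ' s
  ex : ∃ a : Fˣ, ¬ IsSquare (a : F)

theorem rs_conj (h : IsClassFunction _ χ) (y : GL (Fin 2) F) (s : SL(2, F)) : rs χ (slConj y s) = rs χ s := by
  rw [rs, toGL_slConj, h]

theorem Half.symm (h : Half χ ψ ψ') : Half χ ψ' ψ :=
  ⟨h.cf, h.irr', h.irr, h.ne.symm, h.add.trans (add_comm _ _), fun y n s => by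
    have := rs_conj h.cf y s
    rw [h.add, Pi.add_apply, Pi.add_apply, h.swap y n] at this
    linear_combination this, h.ex⟩

theorem Half.two (h : Half χ ψ ψ') (k : ∀ y, IsConj s (slConj y s)) : 2 * ψ s = χ (tg s) := by
  obtain ⟨a, n⟩ := h.ex
  have := h.swap (dm a 1) (by simpa [dv_dm] using n) s
  rw [← h.irr.isClassFunction.of_isConj (k _)] at this
  have e : χ (tg s) = ψ s + ψ' s := congrFun h.add s
  linear_combination this - e

theorem Half.two_one (h : Half χ ψ ψ') : 2 * ψ 1 = χ 1 := by simpa using h.two (s := 1) fun y => by simp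

theorem Half.two_neg (h : Half χ ψ ψ') : 2 * ψ (-1) = χ (tg (-1)) := h.two fun y => by simp [slConj_neg]

theorem Half.two_ss [Finite F] (h : Half χ ψ ψ') (k : s.1.trace ^ 2 ≠ 4) : 2 * ψ s = χ (tg s) :=
  h.two fun y => H4.isConj_sl_of_trace (tr_slConj y s).symm k

theorem Half.two_ne (h : Half χ ψ ψ') [Finite F] : (2 : F) ≠ 0 := fun z => by
  obtain ⟨a, n⟩ := h.ex
  haveI := CharTwo.of_one_ne_zero_of_two_eq_zero (one_ne_zero (α := F)) z
  exact n (FiniteField.isSquare_of_char_two (ringChar.eq F 2) _)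

theorem Half.uniq (h : Half χ ψ ψ') [Fintype SL(2, F)] {η η' : SL(2, F) → ℂ} {χ' : GL (Fin 2) F → ℂ} (k : Half χ' η η')
    (e : rs χ' = rs χ) : η = ψ ∨ η = ψ' := k.irr.eq_or_of_add h.irr h.irr' (by
  rw [← h.add, ← e, k.add, H3.inner_add_left, k.irr.inner_self, k.irr'.inner_of_ne k.irr k.ne.symm]; simp)

theorem sq_mul_of_not [Finite F] {a b : F} (ha : ¬ IsSquare a) (hb : ¬ IsSquare b) : IsSquare (a * b) := by
  classical
  have := Fintype.ofFinite F
  have ha0 : a ≠ 0 := by rintro rfl; exact ha IsSquare.zero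
  have hb0 : b ≠ 0 := by rintro rfl; exact hb IsSquare.zero
  rw [← quadraticChar_neg_one_iff_not_isSquare] at ha hb
  rw [← quadraticChar_one_iff_isSquare (mul_ne_zero ha0 hb0), map_mul, ha, hb]; norm_num

theorem quad_val [Finite F] {γ : MulChar F ℂ} (h : γ ^ 2 = 1) (n : γ ≠ 1) {a : F} (h0 : a ≠ 0) :
    (IsSquare a → γ a = 1) ∧ (¬ IsSquare a → γ a = -1) := by
  have k : ∀ x : F, x ≠ 0 → γ x * γ x = 1 := fun x z => by
    rw [← MulChar.mul_apply, ← sq, h, MulChar.one_apply z.isUnit]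
  have k2 : ∀ x : F, x ≠ 0 → IsSquare x → γ x = 1 := by
    rintro _ z ⟨r, rfl⟩; rw [map_mul, k r (left_ne_zero_of_mul z)]
  refine ⟨k2 a h0, fun m => ?_⟩
  obtain ⟨b, c⟩ := MulChar.ne_one_iff.1 n
  have := k2 _ (mul_ne_zero h0 b.ne_zero) (sq_mul_of_not m fun z => c (k2 _ b.ne_zero z))
  rw [map_mul, (mul_self_eq_one_iff.1 (k _ b.ne_zero)).resolve_left c] at this
  linear_combination -this

theorem quad_uniq [Finite F] {γ δ : MulChar F ℂ} (h : γ ^ 2 = 1) (n : γ ≠ 1) (h' : δ ^ 2 = 1) (n' : δ ≠ 1) : γ = δ :=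
  MulChar.ext fun a => by
    by_cases c : IsSquare (a : F)
    · rw [(quad_val h n a.ne_zero).1 c, (quad_val h' n' a.ne_zero).1 c]
    · rw [(quad_val h n a.ne_zero).2 c, (quad_val h' n' a.ne_zero).2 c]

variable [Fintype F] [DecidableEq F]

local notation "q" => (Fintype.card F : ℂ)

instance fintypeBS : Fintype (BS F) := Fintype.ofFinite _

theorem exists_half (h : Irr _ χ) (k : ⟪rs χ, rs χ⟫ = 2) : ∃ ψ ψ', Half χ ψ ψ' := by
  obtain ⟨a, b, ha, hb, n, e⟩ := (h.isCharacter.comp tg).exists_two k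
  have : (tg : SL(2, F) →* _).range.Normal := ⟨by rintro _ ⟨s, rfl⟩ g; exact ⟨slConj g s, toGL_slConj g s⟩⟩
  let i := MonoidHom.ofInjective (tg_inj (F := F))
  have := Fintype.ofFinite (tg : SL(2, F) →* _).range
  have k : ∀ η, ⟪χ↾(tg : SL(2, F) →* _).range, fun x => η (i.symm x)⟫ = ⟪a + b, η⟫ := fun η => by
    rw [← inner_comp_equiv i.toEquiv, ← e]; congr 1; funext x; exact congrArg η (i.symm_apply_apply x)
  obtain ⟨x, m⟩ := exists_conjF_of_under h (ha.comp_equiv i.symm) (hb.comp_equiv i.symm)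
    (by rw [k, H3.inner_add_left, ha.inner_self, hb.inner_of_ne ha n.symm]; simp)
    (by rw [k, H3.inner_add_left, hb.inner_self, ha.inner_of_ne hb n]; simp)
  have m : ∀ s, a (slConj x s) = b s := fun s => by
    have := congrFun m (i s)
    rw [conjF_apply, i.symm_apply_apply] at this
    rw [this]; congr 1
    exact (i.eq_symm_apply).2 (Subtype.ext (toGL_slConj x s))
  have c : ¬ IsSquare (dv x) := fun z => n (funext fun s => (fix_sq ha.isClassFunction z s).symm.trans (m s))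
  refine ⟨a, b, h.isClassFunction, ha, hb, n, e, fun y z s => ?_, Units.mk0 _ (dv_ne x), c⟩
  rw [← m, ← inv_mul_cancel_right y x, mul_assoc, ← mul_assoc y, slConj_mul, fix_sq ha.isClassFunction]
  obtain ⟨r, v⟩ := sq_mul_of_not z c
  have := dv_ne x
  exact ⟨r / dv x, by rw [dv_mul, dv_inv]; field_simp; linear_combination v⟩

theorem card_BS : (Nat.card (BS F) : ℂ) = (q - 1) * q := by
  rw [← Nat.card_congr sEq, Nat.card_eq_fintype_card, Fintype.card_prod]
  push_cast; rw [card_units]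

theorem sum_ne_zero (x y : ℂ) : ∑ b : F, (if b = 0 then x else y) = x + (q - 1) * y := by
  rw [← Finset.add_sum_erase _ _ (Finset.mem_univ 0), Finset.sum_congr rfl (g := fun _ => y)
    fun b m => if_neg (by simpa using m), Finset.sum_const, Finset.card_erase_of_mem (Finset.mem_univ _),
    Finset.card_univ, nsmul_eq_mul, Nat.cast_sub Fintype.card_pos]
  simp

theorem ps_ub (α β : MulChar F ℂ) {b : F} (h : b ≠ 0) : ps α β (tg (ub b)) = 1 := by
  rw [ps_unip α β rfl rfl h]; simp [ub]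

theorem rho_ub (he : Ell e) (θ : To e →* ℂˣ) {b : F} (h : b ≠ 0) : rho θ (tg (ub b)) = -1 := by
  rw [rho_B he θ rfl]; simp [cB, ub, h]

omit [Fintype F] [DecidableEq F] in
theorem ub_zero : ub (0 : F) = 1 := H4.sl2_ext rfl rfl rfl rfl

omit [DecidableEq F] in
theorem Half.sum_ub (h : Half χ ψ ψ') : 2 * ∑ b, ψ (ub b) = ∑ b, χ (tg (ub b)) := by
  obtain ⟨a, n⟩ := h.ex
  have : ∑ b, ψ' (ub b) = ∑ b, ψ (ub b) := Fintype.sum_equiv (Equiv.mulLeft₀ (a : F) a.ne_zero) _ _ fun b => by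
    rw [← h.swap (dm a 1) (by simpa [dv_dm] using n), slConj_ub]; rfl
  rw [two_mul]; nth_rw 2 [← this]
  rw [← Finset.sum_add_distrib]
  exact Finset.sum_congr rfl fun b _ => (congrFun h.add _).symm

theorem Half.normSq (h : Half χ ψ ψ') : (ψ - ψ') (ub 1) * conj ((ψ - ψ') (ub 1)) = q := by
  have h2 := h.two_ne
  generalize hD : (ψ - ψ') (ub 1) * conj ((ψ - ψ') (ub 1)) = D
  let f : SL(2, F) → ℂ := fun s => (ψ - ψ') s * conj ((ψ - ψ') s)
  have cf : IsClassFunction _ f := (h.irr.isGen.sub h.irr'.isGen).isClassFunction.map fun z => z * conj z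
  have f1 : ∀ b ≠ 0, f (ub b) = D := fun b n => by
    have : ub b = slConj (dm (Units.mk0 b n) 1) (ub 1) := by rw [slConj_ub]; simp
    rw [← hD, this]
    by_cases c : IsSquare (dv (dm (Units.mk0 b n) 1))
    · simp only [f, Pi.sub_apply, fix_sq h.irr.isClassFunction c, fix_sq h.irr'.isClassFunction c]
    · simp only [f, Pi.sub_apply, h.swap _ c, h.symm.swap _ c, map_sub]; ring
  have f2 : ∀ s, f (-s) = f s := fun s => by
    have a := h.two_one; have a' := h.symm.two_one; have b := h.two_neg; have b' := h.symm.two_neg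
    have z : ∀ x : SL(2, F), x * -1 = -1 * x := by simp
    rcases h.irr.cent_sign z (by simp) with c | c
    · simp only [f, Pi.sub_apply, neg_eq_mul s, h.irr.cent_mul z (c := 1) (by simpa using c),
        h.irr'.cent_mul z (c := 1) (by linear_combination (b' - b - a' + a) / 2 + c), one_mul]
    · simp only [f, Pi.sub_apply, neg_eq_mul s, h.irr.cent_mul z (c := -1) (by simpa using c),
        h.irr'.cent_mul z (c := -1) (by linear_combination (b' - b + a' - a) / 2 + c), map_sub, map_mul]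
      simp; ring
  have f0 : ∀ s, 2 * ψ s = χ (tg s) → 2 * ψ' s = χ (tg s) → f s = 0 := fun s a b => by
    simp only [f, Pi.sub_apply, show ψ s - ψ' s = 0 by linear_combination (a - b) / 2, zero_mul]
  have f3 := f0 1 (by simpa using h.two_one) (by simpa using h.symm.two_one)
  have k1 : ⟪f, fun _ => 1⟫ = 2 := by
    rw [show ⟪f, fun _ => 1⟫ = ⟪ψ - ψ', ψ - ψ'⟫ by simp [classInner, f], H3.inner_sub_left, H3.inner_sub_right,
      H3.inner_sub_right, h.irr.inner_self, h.irr'.inner_self, h.irr.inner_of_ne h.irr' h.ne,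
      h.irr'.inner_of_ne h.irr h.ne.symm]; norm_num
  have k2 : ⟪f, fun _ => 1⟫ = ⟪f, rs (ps 1 1)⟫ := by
    unfold classInner; congr 1
    refine Finset.sum_congr rfl fun s _ => ?_
    by_cases c : f s = 0
    · simp [c]
    obtain ⟨b, n, m⟩ := exists_pm_ub (s := s) (by by_contra z; exact c (f0 s (h.two_ss z) (h.symm.two_ss z)))
      (fun z => c (z ▸ f3)) (fun z => c (z ▸ (f2 1).trans f3))
    have cp := (ps_cf (1 : MulChar F ℂ) 1).comp tg
    rcases m with m | m <;> rw [rs, ← cp.of_isConj m]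
    · rw [ps_ub _ _ n]
    · rw [ps_unip _ _ (by simp [ub]) (by simp [ub]) (by simpa [ub] using n)]
      simp [ub, MulChar.one_apply (isUnit_one (M := F)).neg]
  have k3 : ∀ a : Fˣ, ∑ b, f (sm a b) = if (a : F) ^ 2 = 1 then (q - 1) * D else 0 := fun a => by
    split_ifs with c
    · rw [← zero_add (_ * D), ← sum_ne_zero]
      refine Finset.sum_congr rfl fun b _ => ?_
      have z : ((sm a b).1.1 0 0) = (sm a b).1.1 1 1 := by
        simpa [sm] using eq_inv_of_mul_eq_one_left ((sq _).symm.trans c)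
      rcases ub_of_B (s := (sm a b).1) rfl z with m | m <;> rw [m] <;> split_ifs with v
      · simpa [sm, v, ub_zero] using f3
      · exact f1 _ v
      · simpa [sm, v, ub_zero, f2] using f3
      · exact (f2 _).trans (f1 _ (neg_ne_zero.2 v))
    · exact Finset.sum_eq_zero fun b _ => f0 _ (h.two_ss (tr_split rfl c)) (h.symm.two_ss (tr_split rfl c))
  rw [k2, ← ind_SL, inner_indFun_right _ _ cf, classInner, card_BS, ← sEq.sum_comp, Fintype.sum_prod_type] at k1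
  have k4 : ∀ a b, (1 : MulChar F ℂ) ((sEq (a, b)).1.1 0 0) = 1 := fun a b => MulChar.one_apply a.isUnit
  simp only [k4, map_one, mul_one, show ∀ (a : Fˣ) (b : F), f (sEq (a, b)).1 = f (sm a b).1 from fun _ _ => rfl,
    k3] at k1
  rw [Finset.sum_eq_add_of_mem 1 (-1) (by simp) (by simp) (by
    simpa [Units.ext_iff, eq_neg_iff_add_eq_zero, one_add_one_eq_two] using h2) fun a _ m => if_neg fun z => by
      exact (sq_eq_one_iff.1 z).elim (fun v => m.1 (Units.ext v)) fun v => m.2 (Units.ext v)] at k1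
  have := q_ne (F := F); have := q1_ne (F := F)
  simp at k1; field_simp at k1; linear_combination k1 / 2

theorem Half.sq (h : Half χ ψ ψ') : (2 * ψ (ub 1) - χ (tg (ub 1))) ^ 2 = (-1) ^ ((Fintype.card F - 1) / 2) * q := by
  have o : Fintype.card F % 2 = 1 := by
    rw [← Nat.odd_iff, ← Nat.card_eq_fintype_card]; exact H4.two_ne_zero_iff_odd.1 h.two_ne
  have k := h.normSq

  have i : (ub (1 : F))⁻¹ = slConj (dm (-1) 1) (ub 1) := by
    rw [slConj_ub]; exact inv_eq_of_mul_eq_one_right (H4.sl2_ext (by simp [ub, H4.sl2_mul_apply])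
      (by simp [ub, H4.sl2_mul_apply]) (by simp [ub, H4.sl2_mul_apply]) (by simp [ub, H4.sl2_mul_apply]))
  rw [← (h.irr.isGen.sub h.irr'.isGen).map_inv, i] at k
  rw [show χ (tg (ub 1)) = ψ (ub 1) + ψ' (ub 1) from congrFun h.add _]
  by_cases c : IsSquare (dv (dm (-1 : Fˣ) 1))
  · simp only [Pi.sub_apply, fix_sq h.irr.isClassFunction c, fix_sq h.irr'.isClassFunction c] at k
    have : Fintype.card F % 4 ≠ 3 := FiniteField.isSquare_neg_one_iff.1 (by simpa [dv_dm] using c)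
    rw [Even.neg_one_pow ⟨(Fintype.card F - 1) / 4, by omega⟩]
    linear_combination k
  · simp only [Pi.sub_apply, h.swap _ c, h.symm.swap _ c] at k
    have : ¬ Fintype.card F % 4 ≠ 3 := FiniteField.isSquare_neg_one_iff.not.1 (by simpa [dv_dm] using c)
    rw [Odd.neg_one_pow ⟨(Fintype.card F - 1) / 4, by omega⟩]
    linear_combination -k

omit [Fintype F] [DecidableEq F] in
theorem rs_mul_dl (χ : GL (Fin 2) F → ℂ) (γ : MulChar F ℂ) : rs (χ * lf (dl γ)) = rs χ :=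
  funext fun s => by simp [dl_tg]

theorem inner_rs_ps (α β : MulChar F ℂ) :
    ⟪rs (ps α 1), rs (ps β 1)⟫ = (if α = β then 1 else 0) + if α = β⁻¹ then 1 else 0 := by
  simp only [inner_rs, ps_mul_dl, inner_ps, Finset.sum_add_distrib, one_mul]
  rw [Finset.sum_eq_single 1 (fun γ _ n => if_neg fun z => n z.2) (by simp),
    Finset.sum_eq_single β (fun γ _ n => if_neg fun z => n z.2) (by simp)]
  simp [mul_eq_one_iff_eq_inv]

theorem rs_ps (α β : MulChar F ℂ) : rs (ps α β) = rs (ps (α * β⁻¹) 1) := by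
  rw [← rs_mul_dl (ps (α * β⁻¹) 1) β, ps_mul_dl]; simp

theorem rs_st (α : MulChar F ℂ) : rs (st α) = rs (ps 1 1) - 1 := by
  funext s
  have := congrFun (rs_ps α α) s
  simp only [mul_inv_cancel] at this
  simp [st, dl_tg, this]

theorem rs_st_irr : Irr _ (rs (st (1 : MulChar F ℂ))) := by
  refine ((st_ch 1).comp tg).isIrr_of_inner_self ?_
  have k : ⟪rs (ps (1 : MulChar F ℂ) 1), 1⟫ = 1 := by
    rw [← ind_SL, inner_indFun_left _ _ isClassFunction_one, ← inner_one_one (G := BS F)]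
    congr 1; funext b; exact MulChar.one_apply (Bo_ne (g := tg b.1) (mem_BS.1 b.2)).1.isUnit
  show ⟪rs (st 1), rs (st 1)⟫ = 1
  rw [rs_st, H3.inner_sub_left, H3.inner_sub_right, H3.inner_sub_right, inner_rs_ps,
    isCharacter_one'.inner_comm ((ps_ch 1 1).comp tg), k, isIrrCharacter_one'.inner_self]
  norm_num

theorem rs_ps_irr_iff (α : MulChar F ℂ) : Irr _ (rs (ps α 1)) ↔ α ^ 2 ≠ 1 := by
  rw [isIrrCharacter_iff, inner_rs_ps, sq, Ne, mul_eq_one_iff_eq_inv]
  simpa using fun _ => (ps_ch α 1).comp tg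

theorem half_ps {α : MulChar F ℂ} (h : α ^ 2 = 1) (n : α ≠ 1) : ∃ ψ ψ', Half (ps α 1) ψ ψ' :=
  exists_half (ps_irr n) (by rw [inner_rs_ps, if_pos rfl, if_pos (by rwa [← mul_eq_one_iff_eq_inv, ← sq])]; norm_num)

theorem sum_dT (he : Ell e) (θ θ' : To e →* ℂˣ) :
    ∑ γ, (if θ * dT e γ = θ' then (1 : ℂ) else 0) = if EqC θ θ' then 1 else 0 := by
  split_ifs with c
  · obtain ⟨γ, rfl⟩ := EqC.exists he (fun t h => (c t h).symm : EqC θ' θ)
    simp [(dT_inj he).eq_iff]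
  · exact Finset.sum_eq_zero fun γ _ => if_neg fun z => c fun t h => by rw [← z, eqC_dT θ γ t h]

theorem inner_rs_rho (he : Ell e) (θ θ' : To e →* ℂˣ) :
    ⟪rs (rho θ), rs (rho θ')⟫ = (if EqC θ θ' then 1 else 0) + if EqC θ θ'⁻¹ then 1 else 0 := by
  simp only [inner_rs, rho_mul_dl he, inner_rho he, Finset.sum_add_distrib, sum_dT he]
  congr 2
  exact propext (forall_congr' fun t => forall_congr' fun h => by rw [eqC_pow he θ' t h])

theorem rs_rho_eq (he : Ell e) {θ θ' : To e →* ℂˣ} (h : EqC θ θ') : rs (rho θ) = rs (rho θ') := by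
  obtain ⟨γ, rfl⟩ := h.exists he
  rw [← rho_mul_dl he, rs_mul_dl]

omit [DecidableEq F] in
theorem ne_pow_iff (he : Ell e) {θ : To e →* ℂˣ} : θ ≠ θ ^ Fintype.card F ↔ ¬ EqC θ 1 := by
  refine not_congr ⟨fun h => ?_, fun h => ?_⟩
  · obtain ⟨γ, rfl⟩ := exists_dT he h.symm
    simpa using eqC_dT 1 γ
  · obtain ⟨γ, rfl⟩ := h.exists he
    rw [one_mul, dT_pow he]

theorem rs_rho_irr (he : Ell e) {θ : To e →* ℂˣ} (h : ¬ EqC θ θ⁻¹) : Irr _ (rs (rho θ)) :=
  ((rho_gen θ).comp tg).isIrr_of_re_nonneg ((inner_rs_rho he θ θ).trans (by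
    rw [if_pos (show EqC θ θ from fun _ _ => rfl), if_neg h, add_zero]))
    (by simpa [rho_one he] using Nat.succ_le_of_lt Fintype.card_pos)

theorem half_rho (he : Ell e) {θ : To e →* ℂˣ} (h : EqC θ θ⁻¹) (n : ¬ EqC θ 1) : ∃ ψ ψ', Half (rho θ) ψ ψ' :=
  exists_half (rho_irr he ((ne_pow_iff he).2 n)) (by
    rw [inner_rs_rho he, if_pos (show EqC θ θ from fun _ _ => rfl), if_pos h]; norm_num)

omit [Fintype F] [DecidableEq F] in
theorem Half.of_inner [Fintype SL(2, F)] (h : ∃ ψ ψ', Half χ ψ ψ') (a : Irr _ ψ) (k : ⟪rs χ, ψ⟫ ≠ 0) :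
    ∃ ψ', Half χ ψ ψ' := by
  obtain ⟨η, η', h⟩ := h
  rw [h.add] at k
  rcases a.eq_or_of_add h.irr h.irr' k with rfl | rfl
  exacts [⟨_, h⟩, ⟨_, h.symm⟩]

/-- the irreducible characters of `SL₂(q)` -/
theorem sl_irr (he : Ell e) (h : Irr _ ψ) : ψ = 1 ∨ ψ = rs (st 1) ∨ (∃ γ, γ ^ 2 ≠ 1 ∧ ψ = rs (ps γ 1)) ∨
    (∃ θ : To e →* ℂˣ, ¬ EqC θ θ⁻¹ ∧ ψ = rs (rho θ)) ∨ (∃ γ ψ', γ ^ 2 = 1 ∧ γ ≠ 1 ∧ Half (ps γ 1) ψ ψ') ∨
    ∃ (θ : To e →* ℂˣ) (ψ' : SL(2, F) → ℂ), EqC θ θ⁻¹ ∧ ¬ EqC θ 1 ∧ Half (rho θ) ψ ψ' := by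
  obtain ⟨χ, a, k⟩ := exists_irr_comp tg_inj h
  change ⟪rs χ, ψ⟫ ≠ 0 at k
  rcases gl_irr he a with ⟨α, rfl⟩ | ⟨α, rfl⟩ | ⟨α, β, n, rfl⟩ | ⟨θ, n, rfl⟩
  · rw [show rs (lf (dl α)) = 1 from funext (dl_tg α)] at k
    exact .inl (isIrrCharacter_one'.eq_of_inner_ne_zero h k).symm
  · rw [rs_st, ← rs_st 1] at k
    exact .inr (.inl (rs_st_irr.eq_of_inner_ne_zero h k).symm)
  · rw [rs_ps] at k
    by_cases c : (α * β⁻¹) ^ 2 = 1
    · obtain ⟨ψ', m⟩ := Half.of_inner (half_ps c (by simpa [mul_inv_eq_one] using n)) h k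
      exact .inr (.inr (.inr (.inr (.inl ⟨_, _, c, by simpa [mul_inv_eq_one] using n, m⟩))))
    · exact .inr (.inr (.inl ⟨_, c, (((rs_ps_irr_iff _).2 c).eq_of_inner_ne_zero h k).symm⟩))
  · by_cases c : EqC θ θ⁻¹
    · obtain ⟨ψ', m⟩ := Half.of_inner (half_rho he c ((ne_pow_iff he).1 n)) h k
      exact .inr (.inr (.inr (.inr (.inr ⟨_, _, c, (ne_pow_iff he).1 n, m⟩))))
    · exact .inr (.inr (.inr (.inl ⟨_, c, ((rs_rho_irr he c).eq_of_inner_ne_zero h k).symm⟩)))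

end G2
end
end H3
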