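import Cfsg.Agent.H3.GL2c
import Cfsg.Agent.H3.Deg

/-! # Degrees and numbers of the irreducible characters of `GL₂(q)` and `SL₂(q)` -/

open Cfsg
open H4 (slConj toGL_slConj ub slm)
open scoped ComplexConjugate MatrixGroups
set_option maxSynthPendingDepth 3

namespace H3
open H3

noncomputable section

theorem cyc_quad {K : Type*} [Group K] [Finite K] [IsCyclic K] {m : ℕ} (hm : Nat.card K = 2 * m) {l : K →* ℂˣ}
    (h2 : ∀ c, l c ^ 2 = 1) (hn : ∃ c, l c ≠ 1) (c : K) : (c ^ m = 1 → (l c : ℂ) = 1) ∧ (c ^ m ≠ 1 → (l c : ℂ) = -1) := by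
  obtain ⟨k, g⟩ := IsCyclic.exists_monoid_generator (α := K)
  have o : orderOf k = 2 * m := by
    rw [← hm]; exact orderOf_eq_card_of_forall_mem_zpowers fun x => mem_powers_iff_mem_zpowers.1 (g x)
  have v : (l k : ℂ) = -1 := by
    refine (sq_eq_one_iff.1 (by rw [← Units.val_pow_eq_pow_val, h2 k, Units.val_one])).resolve_left fun z => ?_
    obtain ⟨c, n⟩ := hn
    obtain ⟨i, rfl⟩ := g c
    exact n (by simp [Units.val_eq_one.1 z])
  obtain ⟨i, rfl⟩ := g c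
  have m0 : 0 < m := by have := Nat.card_pos (α := K); omega
  rw [← pow_mul, ne_eq, ← orderOf_dvd_iff_pow_eq_one, o, Nat.mul_dvd_mul_iff_right m0, map_pow,
    Units.val_pow_eq_pow_val, v]
  exact ⟨fun z => (even_iff_two_dvd.2 z).neg_one_pow, fun z => (Nat.not_even_iff_odd.1 (even_iff_two_dvd.not.2 z)).neg_one_pow⟩

theorem exists_lin_ext_inj {A B : Type*} [Group A] [Group B] [Finite B] (hc : ∀ a b : B, a * b = b * a) {f : A →* B}
    (hf : Function.Injective f) (l : A →* ℂˣ) : ∃ L : B →* ℂˣ, ∀ a, L (f a) = l a := by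
  letI : CommGroup B := { (inferInstance : Group B) with mul_comm := hc }
  obtain ⟨L, h⟩ := exists_lin_extend f.range (l.comp (MonoidHom.ofInjective hf).symm.toMonoidHom)
  exact ⟨L, fun a => (h ⟨f a, a, rfl⟩).trans (congrArg l ((MonoidHom.ofInjective hf).symm_apply_eq.2 rfl))⟩

theorem exists_lin_order_two {A : Type*} [Group A] [Finite A] (hc : ∀ a b : A, a * b = b * a) (h : 2 ∣ Nat.card A) :
    ∃ l : A →* ℂˣ, (∀ c, l c ^ 2 = 1) ∧ ∃ c, l c ≠ 1 := by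
  obtain ⟨l, o⟩ := exists_prime_orderOf_dvd_card' (G := A →* ℂˣ) 2 (by rwa [card_lin_of_comm' hc])
  refine ⟨l, fun c => by rw [← MonoidHom.pow_apply, ← o, pow_orderOf_eq_one]; rfl, ?_⟩
  by_contra! n
  rw [show l = 1 from MonoidHom.ext n] at o
  simp at o

theorem exists_lin_pow_ne {A : Type*} [Group A] [Finite A] [IsCyclic A] {n : ℕ} (h : ¬ Nat.card A ∣ n) :
    ∃ (l : A →* ℂˣ) (c : A), l c ^ n ≠ 1 := by
  obtain ⟨k, o⟩ := IsCyclic.exists_ofOrder_eq_natCard (α := A)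
  obtain ⟨l, -, e⟩ := exists_triv_ne_one (commutator_le_of_comm (fun a b => IsCyclic.commutative.is_comm.comm a b) ⊥)
    (g := k ^ n) (by rwa [Subgroup.mem_bot, ← orderOf_dvd_iff_pow_eq_one, o])
  exact ⟨l, k, by rwa [← map_pow]⟩

theorem card_classes_dic {N : Type*} [Group N] [Finite N] {A : Subgroup N} (i : A.index = 2)
    (c : ∀ a ∈ A, ∀ b ∈ A, a * b = b * a) (w : ∀ x ∉ A, ∀ a ∈ A, x * a * x⁻¹ = a⁻¹) {z : N} (hz : z ∈ A) (z1 : z ≠ 1)
    (h : ∀ a ∈ A, a * a = 1 ↔ a = 1 ∨ a = z) : 2 * Nat.card (ConjClasses N) = Nat.card A + 6 := by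
  classical
  have := Fintype.ofFinite N
  have k : ∀ x : N, Nat.card (Subgroup.centralizer ({x} : Set N)) + (if x ∈ A then 4 else Nat.card A) =
      (if x = 1 ∨ x = z then Nat.card A else 0) + (Nat.card A + 4) := fun x => by
    by_cases a : x ∈ A
    · rw [if_pos a]
      split_ifs with b
      · rw [Subgroup.centralizer_eq_top_iff_subset.2 (by
          intro y hy
          rw [Set.mem_singleton_iff.1 hy, SetLike.mem_coe, Subgroup.mem_center_iff]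
          intro g
          by_cases d : g ∈ A
          · exact c g d x a
          · rw [← mul_inv_eq_iff_eq_mul, w g d x a, inv_eq_of_mul_eq_one_right ((h x a).2 b)]), Subgroup.card_top,
          ← A.card_mul_index, i]; ring
      · rw [show Subgroup.centralizer ({x} : Set N) = A from Subgroup.ext fun y => ?_, zero_add]
        rw [Subgroup.mem_centralizer_singleton_iff]
        refine ⟨fun d => by_contra fun f => b ((h x a).1 ?_), fun d => c y d x a⟩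
        rw [← mul_inv_eq_iff_eq_mul, w y f x a] at d
        exact inv_eq_iff_mul_eq_one.1 d
    · rw [if_neg a, if_neg (by rintro (rfl | rfl); exacts [a A.one_mem, a hz]), zero_add, add_comm]
      congr 1
      have e : (A.subgroupOf (Subgroup.centralizer ({x} : Set N))).index = 2 := by
        have : A.Normal := Subgroup.normal_of_index_eq_two i
        refine (Nat.dvd_prime Nat.prime_two).1 (i ▸ A.relIndex_dvd_index_of_normal _) |>.resolve_left fun f => a ?_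
        exact Subgroup.relIndex_eq_one.1 f (Subgroup.mem_centralizer_singleton_iff.2 rfl)
      have f : ∀ y ∈ A, y ∈ Subgroup.centralizer ({x} : Set N) ↔ y = 1 ∨ y = z := fun y m => by
        rw [← h y m, Subgroup.mem_centralizer_singleton_iff, eq_comm, ← mul_inv_eq_iff_eq_mul, w x a y m,
          inv_eq_iff_mul_eq_one]
      rw [← (A.subgroupOf (Subgroup.centralizer ({x} : Set N))).card_mul_index, e, Nat.card_eq_two_iff.2
        ⟨1, ⟨⟨z, (f z hz).2 (.inr rfl)⟩, hz⟩, fun v => z1 (congrArg (fun t => t.1.1) v).symm, Set.eq_univ_of_forall fun y =>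
          ((f _ y.2).1 y.1.2).imp (fun v => Subtype.ext (Subtype.ext v)) fun v => Subtype.ext (Subtype.ext v)⟩]
  have s := Finset.sum_congr rfl fun x (_ : x ∈ Finset.univ) => k x
  have t := sum_ite_card_centralizer (G := N) fun _ => True
  simp only [if_true, Nat.card_congr (Equiv.subtypeUnivEquiv fun _ => trivial)] at t
  have t : ∑ x : N, Nat.card (Subgroup.centralizer ({x} : Set N)) = Nat.card N * Nat.card (ConjClasses N) := by
    exact_mod_cast t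
  have c1 : (Finset.univ.filter (· ∈ A)).card = Nat.card A := by rw [Nat.card_eq_fintype_card, Fintype.card_subtype]
  have c2 := Finset.card_filter_add_card_filter_not (s := Finset.univ) (· ∈ A)
  have c3 : (Finset.univ.filter fun x => x = 1 ∨ x = z).card = 2 := by
    rw [← Finset.card_pair z1.symm]; congr 1; ext; simp
  have c4 := A.card_mul_index
  rw [Finset.card_univ, c1, ← Nat.card_eq_fintype_card, ← c4, i] at c2
  rw [Finset.sum_add_distrib, Finset.sum_add_distrib, t, Finset.sum_ite, Finset.sum_ite] at s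
  simp only [Finset.sum_const, smul_eq_mul, c1, c3, mul_zero, add_zero, Finset.card_univ, ← Nat.card_eq_fintype_card,
    ← c4, i, show (Finset.univ.filter fun x => ¬ x ∈ A).card = Nat.card A by omega] at s
  exact Nat.eq_of_mul_eq_mul_left (Nat.card_pos (α := A)) (by linarith)

namespace G2
variable {F : Type*} [Field F] {e g y : GL (Fin 2) F} {s : SL(2, F)} {χ : GL (Fin 2) F → ℂ} {ψ ψ' : SL(2, F) → ℂ}

theorem rs_one : rs χ 1 = χ 1 := congrArg χ (map_one _)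

/-- the nonsplit torus of `SL₂` -/
abbrev CS (e : GL (Fin 2) F) : Subgroup SL(2, F) := (To e).comap tg

/-- its inclusion in the torus of `GL₂` -/
def jC (e : GL (Fin 2) F) : CS e →* To e := (tg.comp (CS e).subtype).codRestrict _ fun c => c.2

theorem jC_inj : Function.Injective (jC e) := fun _ _ h => Subtype.ext (tg_inj (congrArg Subtype.val h))

theorem eqC_iff {θ θ' : To e →* ℂˣ} : EqC θ θ' ↔ ∀ c, θ (jC e c) = θ' (jC e c) := by
  refine ⟨fun h c => h _ (dv_tg _), fun h t k => ?_⟩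
  obtain ⟨s, m⟩ := exists_tg k
  have := h ⟨s, show tg s ∈ To e from m ▸ t.2⟩
  rwa [show jC e ⟨s, show tg s ∈ To e from m ▸ t.2⟩ = t from Subtype.ext m] at this

theorem eqC_inv_iff {θ : To e →* ℂˣ} : EqC θ θ⁻¹ ↔ ∀ c, θ (jC e c) ^ 2 = 1 := by
  simp only [eqC_iff, MonoidHom.inv_apply, sq, mul_eq_one_iff_eq_inv]

theorem neg_one_mem : (-1 : SL(2, F)) ∈ CS e := mem_To'.2 (Units.ext (by simp))

theorem CS_nonscal (he : e.1 1 0 ≠ 0) (h : s ∈ CS e) (h1 : s ≠ 1) (h2 : s ≠ -1) : s.1 1 0 ≠ 0 := fun z => by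
  obtain ⟨a, b⟩ := To_scal he h z
  exact (scal_of_B z a b).elim h1 h2

theorem Ell.ne_pm (h : Ell (tg s)) : s ≠ 1 ∧ s ≠ -1 := by
  constructor <;> rintro rfl <;> simpa using h.not_mem

variable [Fintype F]

local notation "q" => (Fintype.card F : ℂ)
local notation "qn" => Fintype.card F

theorem card_CS (he : Ell e) : Nat.card (CS e) = qn + 1 := by
  rw [← (torus_facts he).1]
  refine Nat.card_eq_of_bijective (fun c => ⟨jC e c, mem_ker_detT.2 (dv_tg _)⟩)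
    ⟨fun _ _ h => jC_inj (congrArg Subtype.val h), fun t => ?_⟩
  obtain ⟨s, m⟩ := exists_tg (mem_ker_detT.1 t.2)
  exact ⟨⟨s, show tg s ∈ To e from m ▸ t.1.2⟩, Subtype.ext (Subtype.ext m)⟩

theorem CS_cyclic (he : Ell e) : IsCyclic (CS e) := by
  have := To_cyclic he
  exact isCyclic_of_injective _ jC_inj

theorem exists_ext_C (he : Ell e) (l : CS e →* ℂˣ) : ∃ θ : To e →* ℂˣ, ∀ c, θ (jC e c) = l c :=
  exists_lin_ext_inj (fun a b => Subtype.ext (To_comm he.not_mem a.2 b.2)) jC_inj l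

theorem two_ne (h : Odd qn) : (2 : F) ≠ 0 := H4.two_ne_zero_iff_odd.2 (by rwa [Nat.card_eq_fintype_card])

theorem odd_of_two (h : (2 : F) ≠ 0) : Odd qn := by
  rw [← Nat.card_eq_fintype_card]; exact H4.two_ne_zero_iff_odd.1 h

theorem quadC (he : Ell e) (o : Odd qn) {θ : To e →* ℂˣ} (h : EqC θ θ⁻¹) (n : ¬ EqC θ 1) (c : CS e) :
    (c ^ ((qn + 1) / 2) = 1 → (θ (jC e c) : ℂ) = 1) ∧ (c ^ ((qn + 1) / 2) ≠ 1 → (θ (jC e c) : ℂ) = -1) := by
  have := CS_cyclic he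
  exact cyc_quad (l := θ.comp (jC e)) (by rw [card_CS he]; obtain ⟨m, k⟩ := o; omega) (eqC_inv_iff.1 h)
    (by simpa [eqC_iff] using n) c

theorem quadC_uniq (he : Ell e) (o : Odd qn) {θ θ' : To e →* ℂˣ} (h : EqC θ θ⁻¹) (n : ¬ EqC θ 1) (h' : EqC θ' θ'⁻¹)
    (n' : ¬ EqC θ' 1) : EqC θ θ' := eqC_iff.2 fun c => Units.ext (by
  by_cases k : c ^ ((qn + 1) / 2) = 1
  · rw [(quadC he o h n c).1 k, (quadC he o h' n' c).1 k]
  · rw [(quadC he o h n c).2 k, (quadC he o h' n' c).2 k])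

theorem exists_quadC (he : Ell e) (o : Odd qn) : ∃ θ : To e →* ℂˣ, EqC θ θ⁻¹ ∧ ¬ EqC θ 1 := by
  have := CS_cyclic he
  obtain ⟨l, a, c, b⟩ := exists_lin_order_two (A := CS e) (fun a b => IsCyclic.commutative.is_comm.comm a b)
    (by rw [card_CS he]; exact o.add_one.two_dvd)
  obtain ⟨θ, k⟩ := exists_ext_C he l
  exact ⟨θ, eqC_inv_iff.2 fun c => by rw [k, a], fun z => b ((k c).symm.trans (eqC_iff.1 z c))⟩

theorem exists_quad (o : Odd qn) : ∃ γ : MulChar F ℂ, γ ^ 2 = 1 ∧ γ ≠ 1 := by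
  obtain ⟨l, k⟩ := exists_prime_orderOf_dvd_card' (G := MulChar F ℂ) 2
    (by rw [card_mc]; exact (Nat.Odd.sub_odd o odd_one).two_dvd)
  exact ⟨l, k ▸ pow_orderOf_eq_one l, fun z => by simp [z] at k⟩

theorem cast_half_add (o : Odd qn) : 2 * (((qn + 1) / 2 : ℕ) : ℂ) = q + 1 := by
  obtain ⟨m, k⟩ := o
  rw [k, show (2 * m + 1 + 1) / 2 = m + 1 by omega]; push_cast; ring

theorem cast_half_sub (o : Odd qn) : 2 * (((qn - 1) / 2 : ℕ) : ℂ) = q - 1 := by
  obtain ⟨m, k⟩ := o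
  rw [k, show (2 * m + 1 - 1) / 2 = m by omega]; push_cast; ring

theorem dg_add {G : Type*} [Group G] {χ : G → ℂ} (h : χ 1 = q + 1) : dg χ = qn + 1 := dg_eq (by simpa using h)
theorem dg_sub {G : Type*} [Group G] {χ : G → ℂ} (h : χ 1 = q - 1) : dg χ + 1 = qn := by
  rw [dg_eq (n := qn - 1) (by rw [h, Nat.cast_sub Fintype.card_pos, Nat.cast_one]), Nat.sub_add_cancel Fintype.card_pos]
omit [Field F] [Fintype F] in
theorem dg_one' {G : Type*} [Group G] {χ : G → ℂ} (h : χ 1 = 1) : dg χ = 1 := dg_eq (by simpa using h)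

theorem no_split (h : s.1 1 0 = 0) (n : s.1 0 0 ^ 2 ≠ 1) : 4 ≤ qn := by
  by_contra! c
  have a := FiniteField.pow_card_sub_one_eq_one _ (Bo_ne (g := tg s) h).1
  have := Fintype.one_lt_card (α := F)
  obtain k | k : qn = 2 ∨ qn = 3 := by omega
  · rw [k] at a; exact n (by rw [show s.1 0 0 = 1 by simpa using a, one_pow])
  · rw [k] at a; exact n a

theorem no_split' (h : g.1 1 0 = 0) (n : g.1 0 0 ≠ g.1 1 1) : 3 ≤ qn := by
  by_contra! c
  have := Fintype.one_lt_card (α := F)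
  have a := FiniteField.pow_card_sub_one_eq_one _ (Bo_ne h).1
  have b := FiniteField.pow_card_sub_one_eq_one _ (Bo_ne h).2
  rw [show qn = 2 by omega] at a b
  exact n (by simpa using a.trans b.symm)

variable [DecidableEq F]

theorem gl_irr' (he : Ell e) (h : Irr _ χ) : (∃ α, χ = lf (dl α) ∧ dg χ = 1) ∨ (∃ α, χ = st α ∧ dg χ = qn) ∨
    (∃ α β, α ≠ β ∧ χ = ps α β ∧ dg χ = qn + 1) ∨
    ∃ θ : To e →* ℂˣ, θ ≠ θ ^ qn ∧ χ = rho θ ∧ dg χ + 1 = qn := by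
  rcases gl_irr he h with ⟨α, rfl⟩ | ⟨α, rfl⟩ | ⟨α, β, n, rfl⟩ | ⟨θ, n, rfl⟩
  · exact .inl ⟨_, rfl, dg_lf _⟩
  · exact .inr (.inl ⟨_, rfl, dg_eq (st_one α)⟩)
  · exact .inr (.inr (.inl ⟨_, _, n, rfl, dg_add (ps_one _ _)⟩))
  · exact .inr (.inr (.inr ⟨_, n, rfl, dg_sub (rho_one he _)⟩))

theorem sl_irr' (he : Ell e) (h : Irr _ ψ) : (ψ = 1 ∧ dg ψ = 1) ∨ (ψ = rs (st 1) ∧ dg ψ = qn) ∨
    (∃ γ, γ ^ 2 ≠ 1 ∧ ψ = rs (ps γ 1) ∧ dg ψ = qn + 1) ∨
    (∃ θ : To e →* ℂˣ, ¬ EqC θ θ⁻¹ ∧ ψ = rs (rho θ) ∧ dg ψ + 1 = qn) ∨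
    (∃ γ ψ', γ ^ 2 = 1 ∧ γ ≠ 1 ∧ Half (ps γ 1) ψ ψ' ∧ 2 * dg ψ = qn + 1) ∨
    ∃ (θ : To e →* ℂˣ) (ψ' : SL(2, F) → ℂ), EqC θ θ⁻¹ ∧ ¬ EqC θ 1 ∧ Half (rho θ) ψ ψ' ∧ 2 * dg ψ + 1 = qn := by
  rcases sl_irr he h with rfl | rfl | ⟨α, n, rfl⟩ | ⟨θ, n, rfl⟩ | ⟨α, η, a, b, c⟩ | ⟨θ, η, a, b, c⟩
  · exact .inl ⟨rfl, dg_one' rfl⟩
  · exact .inr (.inl ⟨rfl, dg_eq (rs_one.trans (st_one _))⟩)
  · exact .inr (.inr (.inl ⟨_, n, rfl, dg_add (rs_one.trans (ps_one _ _))⟩))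
  · exact .inr (.inr (.inr (.inl ⟨_, n, rfl, dg_sub (rs_one.trans (rho_one he _))⟩)))
  · have := c.two_one
    rw [ps_one, h.isCharacter.deg] at this
    exact .inr (.inr (.inr (.inr (.inl ⟨_, _, a, b, c, by exact_mod_cast this⟩))))
  · have := c.two_one
    rw [rho_one he, h.isCharacter.deg, eq_sub_iff_add_eq] at this
    exact .inr (.inr (.inr (.inr (.inr ⟨_, _, a, b, c, by exact_mod_cast this⟩))))

theorem st_ub (α : MulChar F ℂ) {b : F} (h : b ≠ 0) : st α (tg (ub b)) = 0 := st_unip α rfl rfl h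

theorem st_inj : Function.Injective (st : MulChar F ℂ → _) := fun α β h => by
  have := inner_st α β
  rw [h, inner_st, if_pos rfl] at this
  by_contra n
  simp [n] at this

/-- degree and value at a transvection -/
def vv (χ : IrrCharacter (GL (Fin 2) F)) : ℂ × ℂ := (χ.1 1, χ.1 (tg (ub 1)))

theorem vv_cases (χ : IrrCharacter (GL (Fin 2) F)) : ((∃ α, χ.1 = lf (dl α)) ∧ vv χ = (1, 1)) ∨
    ((∃ α, χ.1 = st α) ∧ vv χ = (q, 0)) ∨ vv χ = (q + 1, 1) ∨ vv χ = (q - 1, -1) := by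
  obtain ⟨e, he⟩ := exists_ell (F := F)
  rcases gl_irr he χ.2 with ⟨α, k⟩ | ⟨α, k⟩ | ⟨α, β, -, k⟩ | ⟨θ, -, k⟩
  · exact .inl ⟨⟨_, k⟩, by simp [vv, k, dl_tg]⟩
  · exact .inr (.inl ⟨⟨_, k⟩, by simp [vv, k, st_one, st_ub]⟩)
  · exact .inr (.inr (.inl (by simp [vv, k, ps_one, ps_ub])))
  · exact .inr (.inr (.inr (by simp [vv, k, rho_one he, rho_ub he])))

theorem gl_counts : Nat.card {χ // vv (F := F) χ = (1, 1)} = qn - 1 ∧ Nat.card {χ // vv (F := F) χ = (q, 0)} = qn - 1 ∧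
    Nat.card {χ // vv (F := F) χ = (q + 1, 1)} = (qn - 1) * (qn - 2) / 2 ∧
    Nat.card {χ // vv (F := F) χ = (q - 1, -1)} = qn * (qn - 1) / 2 ∧
    Nat.card (IrrCharacter (GL (Fin 2) F)) = qn ^ 2 - 1 := by
  classical
  have q0 := q_ne (F := F)
  have m1 : (1 : ℂ) ≠ -1 := by norm_num
  have n1 : Nat.card {χ // vv (F := F) χ = (1, 1)} = qn - 1 := by
    rw [← card_mc]
    refine card_eq_of_range _ (fun α => lf (dl α)) (lf_injective.comp dl_inj) (fun _ => lf_irr _) fun χ => ?_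
    refine ⟨fun h => ?_, fun ⟨α, h⟩ => by simp [vv, h, dl_tg]⟩
    rcases vv_cases χ with k | k | k | k
    · exact k.1
    all_goals simp [h, q0, m1] at k
  have n2 : Nat.card {χ // vv (F := F) χ = (q, 0)} = qn - 1 := by
    rw [← card_mc]
    refine card_eq_of_range _ st st_inj st_irr fun χ => ⟨fun h => ?_, fun ⟨α, h⟩ => by simp [vv, h, st_one, st_ub]⟩
    rcases vv_cases χ with k | k | k | k
    · simp [h] at k
    · exact k.1
    all_goals simp [h] at k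
  have S := sum_fib (vv (F := F)) {(1, 1), (q, 0), (q + 1, 1), (q - 1, -1)} fun χ => by
    rcases vv_cases χ with k | k | k | k <;> simp [k]
  have a := S fun v => v.1 ^ 2
  have b := S fun v => v.1 * v.2
  have c := S fun _ => 1
  rw [Finset.sum_insert (by simp [q0, m1]), Finset.sum_insert (by simp), Finset.sum_pair (by simp [m1]), n1, n2] at a b c
  rw [show ∑ χ, (vv (F := F) χ).1 ^ 2 = _ from sum_deg_sq, card_GL] at a
  rw [show ∑ χ, (vv (F := F) χ).1 * (vv χ).2 = _ from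
    sum_deg_mul_eq_zero fun z => H4.ub_ne_one one_ne_zero (tg_inj (z.trans (map_one _).symm))] at b
  rw [Finset.sum_const, Finset.card_univ, ← Nat.card_eq_fintype_card] at c
  generalize Nat.card {χ // vv (F := F) χ = (q + 1, 1)} = A at *
  generalize Nat.card {χ // vv (F := F) χ = (q - 1, -1)} = B at *
  have q2 := q2_ne (F := F)
  have q1 := q1_ne (F := F)
  obtain ⟨m, k⟩ := Nat.exists_eq_add_of_le' (Fintype.one_lt_card (α := F))
  rw [k] at a b c q0 q1 q2 ⊢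
  simp only [Nat.succ_eq_add_one, Nat.add_sub_cancel, show m + (1 + 1) - 1 = m + 1 by omega,
    show m + (1 + 1) = m + 2 from rfl] at a b c q0 q1 q2 ⊢
  push_cast at a b c q0 q1 q2
  have hA : 2 * (A : ℂ) = (m + 1) * m := mul_left_cancel₀ q0 (mul_left_cancel₀ q2 (by
    linear_combination (-1 : ℂ) * a - ((m : ℂ) + 1) * b))
  have hB : 2 * (B : ℂ) = (m + 2) * (m + 1) := mul_left_cancel₀ q1 (by linear_combination 2 * b + (m + 3) * hA)
  have hC : (Nat.card (IrrCharacter (GL (Fin 2) F)) : ℂ) + 1 = (m + 2) ^ 2 := by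
    simp only [nsmul_eq_mul] at c; linear_combination c + hA / 2 + hB / 2
  have hA : 2 * A = (m + 1) * m := by exact_mod_cast hA
  have hB : 2 * B = (m + 2) * (m + 1) := by exact_mod_cast hB
  have hC : Nat.card (IrrCharacter (GL (Fin 2) F)) + 1 = (m + 2) ^ 2 := by exact_mod_cast hC
  refine ⟨by simpa [k] using n1, by simpa [k] using n2, by omega, by omega, by omega⟩

theorem vv_iff (h : 3 ≤ qn) (χ : IrrCharacter (GL (Fin 2) F)) : (χ.1 1 = 1 ↔ vv χ = (1, 1)) ∧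
    (χ.1 1 = q ↔ vv χ = (q, 0)) ∧ (χ.1 1 = q + 1 ↔ vv χ = (q + 1, 1)) ∧ (χ.1 1 = q - 1 ↔ vv χ = (q - 1, -1)) := by
  have k : dg χ.1 = 1 ∧ vv χ = (1, 1) ∨ dg χ.1 = qn ∧ vv χ = (q, 0) ∨ dg χ.1 = qn + 1 ∧ vv χ = (q + 1, 1) ∨
      dg χ.1 + 1 = qn ∧ vv χ = (q - 1, -1) := by
    rcases vv_cases χ with k | k | k | k
    · exact .inl ⟨dg_one' (congrArg Prod.fst k.2), k.2⟩
    · exact .inr (.inl ⟨dg_eq (congrArg Prod.fst k.2), k.2⟩)
    · exact .inr (.inr (.inl ⟨dg_add (congrArg Prod.fst k), k⟩))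
    · exact .inr (.inr (.inr ⟨dg_sub (congrArg Prod.fst k), k⟩))
  refine ⟨⟨fun z => ?_, congrArg Prod.fst⟩, ⟨fun z => ?_, congrArg Prod.fst⟩, ⟨fun z => ?_, congrArg Prod.fst⟩,
    ⟨fun z => ?_, congrArg Prod.fst⟩⟩
  · have := dg_one' z; rcases k with k | k | k | k <;> first | exact k.2 | omega
  · have := dg_eq z; rcases k with k | k | k | k <;> first | exact k.2 | omega
  · have := dg_add z; rcases k with k | k | k | k <;> first | exact k.2 | omega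
  · have := dg_sub z; rcases k with k | k | k | k <;> first | exact k.2 | omega

theorem sum_ub_eq {f : SL(2, F) → ℂ} {x y : ℂ} (a : f 1 = x) (b : ∀ b ≠ 0, f (ub b) = y) :
    ∑ b, f (ub b) = x + (q - 1) * y := by
  rw [← sum_ne_zero]
  exact Finset.sum_congr rfl fun c _ => by split_ifs with z; exacts [by rw [z, ub_zero, a], b c z]

theorem sum_ub (h : Irr _ ψ) (h4 : 4 ≤ qn) : ∑ b, ψ (ub b) =
    if dg ψ = qn + 1 then 2 * q else if dg ψ + 1 = qn ∨ 2 * dg ψ + 1 = qn then 0 else q := by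
  obtain ⟨e, he⟩ := exists_ell (F := F)
  have a : ∀ γ : MulChar F ℂ, ∑ b, ps γ 1 (tg (ub b)) = 2 * q := fun γ =>
    (sum_ub_eq (f := rs (ps γ 1)) (rs_one.trans (ps_one _ _)) fun b => ps_ub γ 1).trans (by ring)
  have b : ∀ θ : To e →* ℂˣ, ∑ b, rho θ (tg (ub b)) = 0 := fun θ =>
    (sum_ub_eq (f := rs (rho θ)) (rs_one.trans (rho_one he _)) fun b => rho_ub he θ).trans (by ring)
  rcases sl_irr' he h with ⟨k, d⟩ | ⟨k, d⟩ | ⟨α, -, k, d⟩ | ⟨θ, -, k, d⟩ | ⟨α, η, -, -, k, d⟩ | ⟨θ, η, -, -, k, d⟩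
  · rw [if_neg (by omega), if_neg (by omega), k]; simp
  · rw [if_neg (by omega), if_neg (by omega), k]
    exact (sum_ub_eq (rs_one.trans (st_one _)) fun b => st_ub 1).trans (by ring)
  · rw [if_pos d, k, a]
  · rw [if_neg (by omega), if_pos (.inl d), k, b]
  · rw [if_neg (by omega), if_neg (by omega)]; linear_combination (k.sum_ub.trans (a α)) / 2
  · rw [if_neg (by omega), if_pos (.inr d)]; linear_combination (k.sum_ub.trans (b θ)) / 2

/-- number of irreducible characters of `SL₂` of a given degree -/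
abbrev cs (F : Type*) [Field F] (d : ℕ) : ℕ := Nat.card {χ : IrrCharacter SL(2, F) // dg χ.1 = d}

theorem cs_one (h4 : 4 ≤ qn) : cs F 1 = 1 := by
  obtain ⟨e, he⟩ := exists_ell (F := F)
  refine (card_eq_of_range _ (fun _ : Unit => 1) (fun _ _ _ => rfl) (fun _ => isIrrCharacter_one') fun χ =>
    ⟨fun h => ⟨(), ?_⟩, fun ⟨_, h⟩ => by rw [h]; exact dg_one' rfl⟩).trans Nat.card_unique
  rcases sl_irr' he χ.2 with ⟨k, d⟩ | ⟨k, d⟩ | ⟨α, -, k, d⟩ | ⟨θ, -, k, d⟩ | ⟨α, η, -, -, k, d⟩ | ⟨θ, η, -, -, k, d⟩ <;>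
    first | omega | exact k

theorem eq_st (h : Irr _ ψ) (d : dg ψ = qn) : ψ = rs (st 1) := by
  obtain ⟨e, he⟩ := exists_ell (F := F)
  have := Fintype.one_lt_card (α := F)
  rcases sl_irr' he h with ⟨k, d⟩ | ⟨k, d⟩ | ⟨α, -, k, d⟩ | ⟨θ, -, k, d⟩ | ⟨α, η, -, -, k, d⟩ | ⟨θ, η, -, -, k, d⟩ <;>
    first | omega | exact k

theorem cs_q : cs F qn = 1 :=
  (card_eq_of_range _ (fun _ : Unit => rs (st 1)) (fun _ _ _ => rfl) (fun _ => rs_st_irr) fun χ =>
    ⟨fun h => ⟨(), eq_st χ.2 h⟩, fun ⟨_, h⟩ => by rw [h]; exact dg_eq (rs_one.trans (st_one _))⟩).trans Nat.card_unique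

theorem half_add (h4 : 4 ≤ qn) (h : Irr _ ψ) (d : 2 * dg ψ = qn + 1) :
    ∃ γ ψ', γ ^ 2 = 1 ∧ γ ≠ 1 ∧ Half (ps γ 1) ψ ψ' := by
  obtain ⟨e, he⟩ := exists_ell (F := F)
  rcases sl_irr' he h with ⟨k, d⟩ | ⟨k, d⟩ | ⟨α, -, k, d⟩ | ⟨θ, -, k, d⟩ | ⟨α, η, a, b, k, d⟩ | ⟨θ, η, -, -, k, d⟩ <;>
    first | omega | exact ⟨_, _, a, b, k⟩

theorem half_sub (he : Ell e) (h4 : 4 ≤ qn) (h : Irr _ ψ) (d : 2 * dg ψ + 1 = qn) :
    ∃ (θ : To e →* ℂˣ) (ψ' : SL(2, F) → ℂ), EqC θ θ⁻¹ ∧ ¬ EqC θ 1 ∧ Half (rho θ) ψ ψ' := by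
  rcases sl_irr' he h with ⟨k, d⟩ | ⟨k, d⟩ | ⟨α, -, k, d⟩ | ⟨θ, -, k, d⟩ | ⟨α, η, -, -, k, d⟩ | ⟨θ, η, a, b, k, d⟩ <;>
    first | omega | exact ⟨_, _, a, b, k⟩

omit [Fintype F] [DecidableEq F] in
theorem Half.cs (h : Half χ ψ ψ') (k : ∀ η, Irr _ η → dg η = dg ψ → η = ψ ∨ η = ψ') : cs F (dg ψ) = 2 :=
  Nat.card_eq_two_iff.2 ⟨⟨⟨ψ, h.irr⟩, rfl⟩, ⟨⟨ψ', h.irr'⟩, dg_congr (by
    linear_combination (h.symm.two_one - h.two_one) / 2)⟩, fun z => h.ne (congrArg (fun t => t.1.1) z),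
    Set.eq_univ_of_forall fun η => (k _ η.1.2 η.2).imp (fun v => Subtype.ext (Subtype.ext v))
      fun v => Subtype.ext (Subtype.ext v)⟩

theorem cs_add (h4 : 4 ≤ qn) (o : Odd qn) : cs F ((qn + 1) / 2) = 2 := by
  obtain ⟨γ, a, b⟩ := exists_quad o
  obtain ⟨ψ, ψ', h⟩ := half_ps a b
  have d : 2 * dg ψ = qn + 1 := by
    have := h.two_one
    rw [ps_one, h.irr.isCharacter.deg] at this
    exact_mod_cast this
  rw [show (qn + 1) / 2 = dg ψ by omega]
  refine h.cs fun η c f => ?_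
  obtain ⟨δ, η', a', b', k⟩ := half_add h4 c (by omega)
  exact h.uniq k (by rw [quad_uniq a b a' b'])

theorem cs_sub (h4 : 4 ≤ qn) (o : Odd qn) : cs F ((qn - 1) / 2) = 2 := by
  obtain ⟨e, he⟩ := exists_ell (F := F)
  obtain ⟨γ, a, b⟩ := exists_quadC he o
  obtain ⟨ψ, ψ', h⟩ := half_rho he a b
  have d : 2 * dg ψ + 1 = qn := by
    have := h.two_one
    rw [rho_one he, h.irr.isCharacter.deg, eq_sub_iff_add_eq] at this
    exact_mod_cast this
  rw [show (qn - 1) / 2 = dg ψ by omega]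
  refine h.cs fun η c f => ?_
  obtain ⟨δ, η', a', b', k⟩ := half_sub he h4 c (by omega)
  exact h.uniq k (rs_rho_eq he (quadC_uniq he o a' b' a b))

theorem sl_rel (h4 : 4 ≤ qn) (S : Finset ℕ) (h : ∀ χ : IrrCharacter SL(2, F), dg χ.1 ∈ S) :
    ∑ d ∈ S, (cs F d : ℂ) * (d : ℂ) ^ 2 = q * (q - 1) * (q + 1) ∧ ∑ d ∈ S, (cs F d : ℂ) * (d *
      if d = qn + 1 then 2 * q else if d + 1 = qn ∨ 2 * d + 1 = qn then 0 else q) = q * (q - 1) * (q + 1) := by
  have k : ∑ χ : IrrCharacter SL(2, F), χ.1 1 ^ 2 = q * (q - 1) * (q + 1) := sum_deg_sq.trans card_SL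
  refine ⟨(sum_fib _ S h fun d => (d : ℂ) ^ 2).symm.trans ?_, (sum_fib _ S h fun d => d *
    if d = qn + 1 then 2 * q else if d + 1 = qn ∨ 2 * d + 1 = qn then 0 else q).symm.trans ?_⟩
  · rw [← k]; exact Finset.sum_congr rfl fun χ _ => by rw [χ.2.isCharacter.deg]
  · rw [Finset.sum_congr rfl fun χ _ => by rw [← sum_ub χ.2 h4, ← χ.2.isCharacter.deg, Finset.mul_sum], Finset.sum_comm,
      Finset.sum_eq_single 0 (fun b _ n => sum_deg_mul_eq_zero (H4.ub_ne_one n)) (by simp), ← k]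
    simp [ub_zero, sq]

theorem sl_dg_odd (h : Irr _ ψ) : dg ψ ∈ ({1, qn, qn + 1, qn - 1, (qn + 1) / 2, (qn - 1) / 2} : Finset ℕ) := by
  obtain ⟨e, he⟩ := exists_ell (F := F)
  simp only [Finset.mem_insert, Finset.mem_singleton]
  rcases sl_irr' he h with ⟨k, d⟩ | ⟨k, d⟩ | ⟨α, -, k, d⟩ | ⟨θ, -, k, d⟩ | ⟨α, η, -, -, k, d⟩ | ⟨θ, η, -, -, k, d⟩ <;> omega

theorem sl_dg_even (h2 : (2 : F) = 0) (h : Irr _ ψ) : dg ψ ∈ ({1, qn, qn + 1, qn - 1} : Finset ℕ) := by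
  obtain ⟨e, he⟩ := exists_ell (F := F)
  simp only [Finset.mem_insert, Finset.mem_singleton]
  rcases sl_irr' he h with ⟨k, d⟩ | ⟨k, d⟩ | ⟨α, -, k, d⟩ | ⟨θ, -, k, d⟩ | ⟨α, η, -, -, k, d⟩ | ⟨θ, η, -, -, k, d⟩ <;>
    first | exact absurd h2 k.two_ne | omega

theorem cs_odd (h4 : 4 ≤ qn) (o : Odd qn) : cs F (qn + 1) = (qn - 3) / 2 ∧ cs F (qn - 1) = (qn - 1) / 2 := by
  obtain ⟨a, b⟩ := sl_rel h4 _ fun χ => sl_dg_odd χ.2
  have c1 := cs_one h4; have c2 := cs_q (F := F); have c3 := cs_add h4 o; have c4 := cs_sub h4 o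
  obtain ⟨m, k⟩ : ∃ m, qn = 2 * m + 5 := by obtain ⟨m, k⟩ := o; exact ⟨m - 2, by omega⟩
  simp only [k, show (2 * m + 5 + 1) / 2 = m + 3 by omega, show (2 * m + 4) / 2 = m + 2 by omega,
    show 2 * m + 5 - 1 = 2 * m + 4 by omega] at a b c2 c3 c4 ⊢
  rw [Finset.sum_insert (by simp <;> omega), Finset.sum_insert (by simp <;> omega), Finset.sum_insert (by simp <;> omega),
    Finset.sum_insert (by simp <;> omega), Finset.sum_pair (by omega), c1, c2, c3, c4] at a b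
  rw [if_neg (by omega), if_neg (by omega), if_neg (by omega), if_neg (by omega), if_pos rfl, if_neg (by omega),
    if_pos (by omega), if_neg (by omega), if_neg (by omega), if_neg (by omega), if_pos (by omega)] at b
  push_cast at a b
  have n1 : (2 * m + 5 : ℂ) ≠ 0 := by exact_mod_cast (by omega : 2 * m + 5 ≠ 0)
  have n2 : (m + 3 : ℂ) ≠ 0 := by exact_mod_cast (by omega : m + 3 ≠ 0)
  have n3 : (m + 2 : ℂ) ≠ 0 := by exact_mod_cast (by omega : m + 2 ≠ 0)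
  have hA : (cs F (2 * m + 5 + 1) : ℂ) = m + 1 := mul_left_cancel₀ n1 (mul_left_cancel₀ n2 (by linear_combination b / 4))
  have hB : (cs F (2 * m + 4) : ℂ) = m + 2 := mul_left_cancel₀ n3 (mul_left_cancel₀ n3 (by
    linear_combination a / 4 - (m + 3) ^ 2 * hA))
  exact ⟨(by exact_mod_cast hA : _ = m + 1).trans (by omega), by exact_mod_cast hB⟩

theorem cs_even (h4 : 4 ≤ qn) (h2 : (2 : F) = 0) : cs F (qn + 1) = (qn - 2) / 2 ∧ cs F (qn - 1) = qn / 2 := by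
  obtain ⟨a, b⟩ := sl_rel h4 _ fun χ => sl_dg_even h2 χ.2
  have c1 := cs_one h4; have c2 := cs_q (F := F)
  obtain ⟨m, k⟩ : ∃ m, qn = 2 * m + 4 := by
    obtain ⟨m, k⟩ := Nat.not_odd_iff_even.1 fun o => two_ne o h2; exact ⟨m - 2, by omega⟩
  simp only [k, show 2 * m + 4 - 1 = 2 * m + 3 by omega] at a b c2 ⊢
  rw [Finset.sum_insert (by simp <;> omega), Finset.sum_insert (by simp <;> omega), Finset.sum_pair (by omega), c1, c2] at a b
  rw [if_neg (by omega), if_neg (by omega), if_neg (by omega), if_neg (by omega), if_pos rfl, if_neg (by omega),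
    if_pos (by omega)] at b
  push_cast at a b
  have n1 : (2 * m + 5 : ℂ) ≠ 0 := by exact_mod_cast (by omega : 2 * m + 5 ≠ 0)
  have n2 : (m + 2 : ℂ) ≠ 0 := by exact_mod_cast (by omega : m + 2 ≠ 0)
  have n3 : (2 * m + 3 : ℂ) ≠ 0 := by exact_mod_cast (by omega : 2 * m + 3 ≠ 0)
  have hA : (cs F (2 * m + 4 + 1) : ℂ) = m + 1 := mul_left_cancel₀ n1 (mul_left_cancel₀ n2 (by linear_combination b / 4))
  have hB : (cs F (2 * m + 3) : ℂ) = m + 2 := mul_left_cancel₀ n3 (mul_left_cancel₀ n3 (by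
    linear_combination a - (2 * m + 5) ^ 2 * hA))
  exact ⟨(by exact_mod_cast hA : _ = m + 1).trans (by omega), (by exact_mod_cast hB : _ = m + 2).trans (by omega)⟩

omit [Fintype F] [DecidableEq F] in
theorem cs_eq {d : ℕ} {z : ℂ} (h : z = d) : Nat.card {χ : IrrCharacter SL(2, F) // χ.1 1 = z} = cs F d :=
  Nat.card_congr (Equiv.subtypeEquivRight fun χ => by rw [h, dg_cast χ.2.isCharacter])

theorem rho_C (he : Ell e) (θ : To e →* ℂˣ) (c : CS e) (n : c.1.1 1 0 ≠ 0) :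
    rho θ (tg c.1) = -((θ (jC e c) : ℂ) + ((θ (jC e c))⁻¹ : ℂˣ)) := by
  rw [← MonoidHom.inv_apply, ← eqC_pow he θ _ (dv_tg _)]; exact rho_To he θ (jC e c) n

omit [DecidableEq F] in
theorem add_inv_three (he : Ell e) (h3 : qn = 3) {l : CS e →* ℂˣ} (h : ∃ c, l c ^ 2 ≠ 1) (c : CS e)
    (n : c.1.1 1 0 ≠ 0) : (l c : ℂ) + ((l c)⁻¹ : ℂˣ) = 0 := by
  have h2 : (2 : F) ≠ 0 := two_ne (by rw [h3]; decide)
  have k : ∀ c : CS e, c ^ 2 = 1 ∨ c ^ 2 = ⟨-1, neg_one_mem⟩ := fun c => by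
    have := congrArg Subtype.val (pow_card_eq_one' (x := c))
    rw [card_CS he, h3, show 3 + 1 = 2 + 2 from rfl, pow_add] at this
    exact (scal_of_sq h2 this).imp Subtype.ext Subtype.ext
  obtain ⟨d, m⟩ := h
  rw [← map_pow, (k d).resolve_left fun z => m (by rw [z, map_one])] at m
  have v : (l ⟨-1, neg_one_mem⟩ : ℂ) = -1 := (sq_eq_one_iff.1 (by
    rw [← Units.val_pow_eq_pow_val, ← map_pow, show (⟨-1, neg_one_mem⟩ : CS e) ^ 2 = 1 from Subtype.ext (by simp)]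
    simp)).resolve_left (by simpa using m)
  rw [← (k c).resolve_left fun z => by
    rcases scal_of_sq h2 ((sq _).symm.trans (congrArg Subtype.val z)) with y | y <;> simp [y] at n, map_pow] at v
  have := (l c).ne_zero
  simp only [Units.val_pow_eq_pow_val, Units.val_inv_eq_inv_val] at v ⊢
  field_simp; linear_combination v

end G2
end
end H3
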