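import Cfsg.Agent.H3.GL2d
import Cfsg.Agent.H3.Mack
import Cfsg.Agent.H1.Two5

/-! # Tori and Sylow normalisers of `SL₂(q)` -/

open Cfsg H7
open H4 (slConj toGL_slConj ub slm)
open scoped ComplexConjugate MatrixGroups
set_option maxSynthPendingDepth 3

namespace H3
open H3

noncomputable section

theorem exists_conj_mem {G : Type*} [Group G] {p : ℕ} [Fact p.Prime] {P H : Subgroup G} (hP : IsPGroup p P)
    (h : ¬ p ∣ H.index) : ∃ g, ∀ x ∈ P, g * x * g⁻¹ ∈ H := by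
  obtain ⟨c, k⟩ := hP.nonempty_fixed_point_of_prime_not_dvd_card (G ⧸ H) h
  obtain ⟨g, rfl⟩ := QuotientGroup.mk_surjective c
  refine ⟨g⁻¹, fun x m => ?_⟩
  have : ((x * g : G) : G ⧸ H) = g := k ⟨x, m⟩
  simpa [mul_assoc] using QuotientGroup.eq.1 this.symm

theorem cnt_dvd {G : Type*} [Group G] [Finite G] (S : Finset ℕ) (h : ∀ χ : IrrCharacter G, dg χ.1 ∈ S) (p : ℕ) :
    Nat.card {χ : IrrCharacter G // ¬ p ∣ dg χ.1} =
      ∑ d ∈ S, if p ∣ d then 0 else Nat.card {χ : IrrCharacter G // dg χ.1 = d} := by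
  classical
  have := sum_fib _ S h fun d => if p ∣ d then 0 else 1
  simp only [mul_ite, mul_zero, mul_one, ← ite_not (p ∣ dg _), Finset.sum_boole] at this
  rw [Nat.card_eq_fintype_card, Fintype.card_subtype]
  exact_mod_cast this

theorem cnt_all {G : Type*} [Group G] [Finite G] {p : ℕ} (h : ∀ χ, Irr G χ → ¬ p ∣ dg χ) :
    Nat.card {χ : IrrCharacter G // ¬ p ∣ dg χ.1} = Nat.card (ConjClasses G) :=
  (Nat.card_congr (Equiv.subtypeUnivEquiv fun χ => h _ χ.2)).trans card_irr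

theorem cnt_equiv {G H : Type*} [Group G] [Group H] (e : G ≃* H) (P : ℕ → Prop) :
    Nat.card {χ : IrrCharacter G // P (dg χ.1)} = Nat.card {χ : IrrCharacter H // P (dg χ.1)} :=
  Nat.card_congr (Equiv.subtypeEquiv ⟨fun χ => ⟨_, χ.2.comp_equiv e.symm⟩, fun χ => ⟨_, χ.2.comp_equiv e⟩,
    fun χ => Subtype.ext (by simp), fun χ => Subtype.ext (by simp)⟩ fun χ => by
      rw [dg_congr (χ := χ.1) (ψ := fun x => χ.1 (e.symm x)) (by simp)]; rfl)

theorem dg_dvd_two {N : Type*} [Group N] [Finite N] {A : Subgroup N} (i : A.index = 2)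
    (c : ∀ a ∈ A, ∀ b ∈ A, a * b = b * a) {χ : N → ℂ} (h : Irr N χ) : dg χ ∣ 2 := by
  have := Subgroup.normal_of_index_eq_two i
  exact i ▸ h.dg_dvd_index A c

theorem odd_cnt_dic {N : Type*} [Group N] [Finite N] {A : Subgroup N} (i : A.index = 2)
    (c : ∀ a ∈ A, ∀ b ∈ A, a * b = b * a) (k : 2 * Nat.card (ConjClasses N) = Nat.card A + 6) :
    Nat.card {χ : IrrCharacter N // ¬ 2 ∣ dg χ.1} = 4 := by
  have h : ∀ χ : IrrCharacter N, dg χ.1 ∈ ({1, 2} : Finset ℕ) := fun χ => by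
    simpa using (Nat.dvd_prime Nat.prime_two).1 (dg_dvd_two i c χ.2)
  have a := sum_fib _ _ h fun _ => 1
  have b := sum_fib _ _ h fun d => (d : ℂ) ^ 2
  rw [Finset.sum_pair (by decide)] at a b
  rw [Finset.sum_const, Finset.card_univ, ← Nat.card_eq_fintype_card, card_irr] at a
  rw [Finset.sum_congr rfl fun χ _ => by rw [← χ.2.isCharacter.deg], sum_deg_sq, ← A.card_mul_index, i] at b
  have a : Nat.card (ConjClasses N) = Nat.card {χ : IrrCharacter N // dg χ.1 = 1} +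
    Nat.card {χ : IrrCharacter N // dg χ.1 = 2} := by simp only [nsmul_eq_mul, mul_one] at a; exact_mod_cast a
  have b : Nat.card A * 2 = Nat.card {χ : IrrCharacter N // dg χ.1 = 1} * 1 ^ 2 +
    Nat.card {χ : IrrCharacter N // dg χ.1 = 2} * 2 ^ 2 := by exact_mod_cast b
  rw [cnt_dvd _ h, Finset.sum_pair (by decide), if_neg (by decide), if_pos (by decide)]
  omega

theorem quat_rel {R : Type*} [Ring R] {I J : R} (hI : I * I = -1) (hJ : J * J = -1) (h : J * I = -(I * J)) :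
    (1 + I) * (1 + J) * I = J * ((1 + I) * (1 + J)) ∧ (1 + I) * (1 + J) * J = I * J * ((1 + I) * (1 + J)) ∧
      (1 + I) * (1 + J) * ((1 + I) * (1 + J)) * ((1 + I) * (1 + J)) = -8 := by
  have a : ∀ x, I * (I * x) = -x := fun x => by rw [← mul_assoc, hI, neg_one_mul]
  have b : ∀ x, J * (J * x) = -x := fun x => by rw [← mul_assoc, hJ, neg_one_mul]
  have c : ∀ x, J * (I * x) = -(I * (J * x)) := fun x => by rw [← mul_assoc, h, neg_mul, mul_assoc]
  refine ⟨?_, ?_, ?_⟩ <;> simp only [mul_add, add_mul, mul_assoc, one_mul, mul_one, a, b, c, hI, hJ, h, mul_neg, neg_mul,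
    neg_neg]
  · abel
  · abel
  · rw [show (8 : R) = 1 + 1 + 1 + 1 + 1 + 1 + 1 + 1 by norm_num]; abel

namespace G2
variable {F : Type*} [Field F] {e : GL (Fin 2) F} {a s w x y : SL(2, F)} {A H P : Subgroup SL(2, F)} {n : ℕ}

/-- a maximal torus of `SL₂` with an inverting element -/
structure Tor (A : Subgroup SL(2, F)) (n : ℕ) (w : SL(2, F)) : Prop where
  two : (2 : F) ≠ 0
  cyc : IsCyclic A
  card : Nat.card A = n
  neg : -1 ∈ A
  cent : ∀ a ∈ A, a ≠ 1 → a ≠ -1 → cen1 a = A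
  inv : ∀ a ∈ A, w * a * w⁻¹ = a⁻¹
  nrm' : ∀ a ∈ A, a ≠ 1 → a ≠ -1 → ∀ x, x * a * x⁻¹ ∈ A → x ∈ A ∨ w⁻¹ * x ∈ A
  sq : w * w = -1
  ex : ∃ a ∈ A, a ≠ 1 ∧ a ≠ -1

theorem neg_ne (h : (2 : F) ≠ 0) : (-1 : SL(2, F)) ≠ 1 := fun z => h (by
  have := congrArg (fun s : SL(2, F) => s.1 0 0) z
  simp at this; linear_combination -this)

theorem exists_ne_pm (h : 2 < Nat.card A) : ∃ a ∈ A, a ≠ 1 ∧ a ≠ -1 := by
  by_contra! c
  have : (A : Set SL(2, F)) ⊆ {1, -1} := fun a m => or_iff_not_imp_left.2 (c a m)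
  exact h.not_ge ((Set.ncard_le_ncard this).trans ((Set.ncard_insert_le _ _).trans (by simp)))

namespace Tor
variable (h : Tor A n w)
include h

theorem comm (ha : a ∈ A) (hx : x ∈ A) : a * x = x * a :=
  have := h.cyc; congrArg Subtype.val (IsCyclic.commutative.is_comm.comm (⟨a, ha⟩ : A) ⟨x, hx⟩)

theorem cnj (g : SL(2, F)) : Tor (A.comap (MulAut.conj g).toMonoidHom) n (g⁻¹ * w * g) := by
  have m : ∀ {a}, a ∈ A.comap (MulAut.conj g).toMonoidHom ↔ g * a * g⁻¹ ∈ A := Iff.rfl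
  have n1 : ∀ {a : SL(2, F)}, a ≠ 1 → g * a * g⁻¹ ≠ 1 := fun b z => b (by simpa [mul_inv_eq_one] using z)
  have n2 : ∀ {a : SL(2, F)}, a ≠ -1 → g * a * g⁻¹ ≠ -1 := fun {a} b z => b (by
    rw [show a = g⁻¹ * (g * a * g⁻¹) * g by group, z]; simp)
  have := h.cyc
  let i := H4.comapEquiv (f := (MulAut.conj g).toMonoidHom) (MulAut.conj g).injective (M := A)
    (by rw [MonoidHom.range_eq_top.2 (MulAut.conj g).surjective]; exact le_top)
  refine ⟨h.two, isCyclic_of_injective i.toMonoidHom i.injective, (Nat.card_congr i.toEquiv).trans h.card,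
    m.2 (by simpa using h.neg), fun a b c d => Subgroup.ext fun y => ?_, fun a b => ?_, fun a b c d x k => ?_, ?_, ?_⟩
  · rw [m, ← h.cent _ (m.1 b) (n1 c) (n2 d), mem_cen1, mem_cen1, conj_mul, conj_mul]
    simp
  · rw [show g⁻¹ * w * g * a * (g⁻¹ * w * g)⁻¹ = g⁻¹ * (w * (g * a * g⁻¹) * w⁻¹) * g by group, h.inv _ (m.1 b)]; group
  · refine (h.nrm' _ (m.1 b) (n1 c) (n2 d) (g * x * g⁻¹) (by convert m.1 k using 1; group)).imp id fun z => m.2 ?_
    convert z using 1; group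
  · rw [show g⁻¹ * w * g * (g⁻¹ * w * g) = g⁻¹ * (w * w) * g by group, h.sq]; simp
  · obtain ⟨a, b, c, d⟩ := h.ex
    exact ⟨g⁻¹ * a * g, m.2 (by simpa [mul_assoc] using b), fun z => c (by simpa [inv_mul_eq_iff_eq_mul, mul_assoc] using z),
      fun z => d (by rw [show a = g * (g⁻¹ * a * g) * g⁻¹ by group, z]; simp)⟩

theorem w_not : w ∉ A := fun z => by
  obtain ⟨a, b, c, d⟩ := h.ex
  have := h.inv a b
  rw [h.comm z b, mul_inv_cancel_right, eq_inv_iff_mul_eq_one] at this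
  exact (scal_of_sq h.two this).elim c d

theorem inv' (hx : w⁻¹ * x ∈ A) (ha : a ∈ A) : x * a * x⁻¹ = a⁻¹ := by
  rw [← h.inv a ha, show x * a * x⁻¹ = w * (w⁻¹ * x * a * (w⁻¹ * x)⁻¹) * w⁻¹ by group, h.comm hx ha, mul_inv_cancel_right]

theorem sq' (hx : w⁻¹ * x ∈ A) : x * x = -1 := by
  rw [show x * x = w * (w⁻¹ * x) * w⁻¹ * (w * w) * (w⁻¹ * x) by group, h.inv _ hx, h.sq]; simp

theorem cen_eq (hP : P ≤ A) (ha : a ∈ P) (a1 : a ≠ 1) (a2 : a ≠ -1) : cen P = A :=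
  le_antisymm (fun _ m => h.cent a (hP ha) a1 a2 ▸ mem_cen1.2 (m a ha).symm) fun _ m _ k => h.comm (hP k) m

variable [Finite F]

theorem nrm_iff (hP : P ≤ A) (ha : a ∈ P) (a1 : a ≠ 1) (a2 : a ≠ -1) : x ∈ nrm P ↔ x ∈ A ∨ w⁻¹ * x ∈ A := by
  refine ⟨fun k => h.nrm' a (hP ha) a1 a2 x (hP ((Subgroup.mem_normalizer_iff.1 k a).1 ha)), fun k =>
    Subgroup.mem_normalizer_fintype fun b m => ?_⟩
  rcases k with k | k
  · rwa [h.comm k (hP m), mul_inv_cancel_right]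
  · rw [h.inv' k (hP m)]; exact P.inv_mem m

theorem mem_nrm : x ∈ nrm A ↔ x ∈ A ∨ w⁻¹ * x ∈ A := by
  obtain ⟨a, b, c, d⟩ := h.ex
  exact h.nrm_iff le_rfl b c d

theorem nrm_eq (hP : P ≤ A) (ha : a ∈ P) (a1 : a ≠ 1) (a2 : a ≠ -1) : nrm P = nrm A :=
  Subgroup.ext fun _ => (h.nrm_iff hP ha a1 a2).trans h.mem_nrm.symm

theorem out (hx : x ∈ nrm A) (n : x ∉ A) : w⁻¹ * x ∈ A := (h.mem_nrm.1 hx).resolve_left n

theorem index (hH : H ≤ nrm A) (hy : y ∈ H) (n : y ∉ A) : (A.subgroupOf H).index = 2 :=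
  Subgroup.index_eq_two_iff'.2 ⟨⟨y, hy⟩⁻¹, fun b => by
    have k := h.out (hH hy) n
    by_cases c : b.1 ∈ A
    · exact .inr ⟨c, fun z => n (by simpa using A.mul_mem c (A.inv_mem z))⟩
    · exact .inl ⟨by simpa [Subgroup.mem_subgroupOf, mul_assoc] using A.mul_mem (A.inv_mem k) (h.out (hH b.2) c), c⟩⟩

theorem card_of (hH : H ≤ nrm A) (hy : y ∈ H) (n : y ∉ A) : Nat.card H = 2 * ord (A ⊓ H) := by
  rw [← (A.subgroupOf H).card_mul_index, h.index hH hy n, mul_comm, ← Subgroup.inf_subgroupOf_right,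
    Nat.card_congr (Subgroup.subgroupOfEquivOfLe inf_le_right).toEquiv]

theorem w_mem : w ∈ nrm A := h.mem_nrm.2 (.inr (by simp))

theorem card_nrm : ord (nrm A) = 2 * n := by
  rw [h.card_of le_rfl h.w_mem h.w_not, inf_eq_left.2 Subgroup.le_normalizer, h.card]

theorem comm_sub : ∀ a ∈ A.subgroupOf H, ∀ b ∈ A.subgroupOf H, a * b = b * a := fun _ b _ d => Subtype.ext (h.comm b d)

theorem classes (hH : H ≤ nrm A) (hy : y ∈ H) (n : y ∉ A) (m : -1 ∈ H) :
    2 * Nat.card (ConjClasses H) = Nat.card (A.subgroupOf H) + 6 :=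
  card_classes_dic (h.index hH hy n) h.comm_sub (fun x b _ d => Subtype.ext (h.inv' (h.out (hH x.2) b) d)) (z := ⟨-1, m⟩)
    h.neg (fun z => neg_ne h.two (congrArg Subtype.val z)) fun a _ => by
      simp only [Subtype.ext_iff, Subgroup.coe_mul, Subgroup.coe_one]
      exact ⟨scal_of_sq h.two, by rintro (k | k) <;> simp [k]⟩

theorem classes_nrm : Nat.card (ConjClasses (nrm A)) = (n + 6) / 2 := by
  have := h.classes le_rfl h.w_mem h.w_not (Subgroup.le_normalizer h.neg)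
  rw [Nat.card_congr (Subgroup.subgroupOfEquivOfLe Subgroup.le_normalizer).toEquiv, h.card] at this
  omega

theorem sylow {p : ℕ} [hp : Fact p.Prime] (p2 : p ≠ 2) (S : Sylow p SL(2, F)) (d : p ∣ n) (i : ¬ p ∣ A.index) :
    ∃ B v, Tor B n v ∧ cen S.1 = B ∧ nrm S.1 = nrm B := by
  obtain ⟨g, k⟩ := exists_conj_mem S.2 i
  obtain ⟨⟨a, m⟩, a1⟩ := Subgroup.ne_bot_iff_exists_ne_one.1
    (S.ne_bot_of_dvd_card (d.trans (h.card ▸ A.card_subgroup_dvd_card)))
  have a1 : a ≠ 1 := fun z => a1 (Subtype.ext z)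
  have a2 : a ≠ -1 := fun z => by
    obtain ⟨j, o⟩ := S.2 ⟨a, m⟩
    have o : a ^ p ^ j = 1 := congrArg Subtype.val o
    rw [z, (hp.1.odd_of_ne_two p2).pow.neg_one_pow] at o
    exact neg_ne h.two o
  exact ⟨_, _, h.cnj g, (h.cnj g).cen_eq k m a1 a2, (h.cnj g).nrm_eq k m a1 a2⟩

theorem mem_sylow (S : Sylow 2 SL(2, F)) (l : S.1 ≤ nrm A) (hy : y ∈ S.1) (n : y ∉ A) (a : x ∈ nrm A)
    (b : x ∈ nrm S.1) : x ∈ S.1 := by
  have k : ∀ x ∈ A, x ∈ nrm S.1 → x ∈ S.1 := fun x a b => by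
    have : x * x ∈ S.1 := by
      have := S.1.mul_mem ((Subgroup.mem_normalizer_iff.1 b y).1 hy) (S.1.inv_mem hy)
      rwa [show x * y * x⁻¹ * y⁻¹ = x * (y * x⁻¹ * y⁻¹) by group, h.inv' (h.out (l hy) n) (A.inv_mem a), inv_inv] at this
    obtain ⟨j, o⟩ := S.2 ⟨_, this⟩
    have o : x ^ 2 ^ (j + 1) = 1 := by rw [pow_succ', pow_mul, pow_two]; exact congrArg Subtype.val o
    refine (H2.sylow_isSylowIn_top S).le_of_le_normalizer (Q := Subgroup.zpowers x) ?_ le_top (Subgroup.zpowers_le.2 b)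
      (Subgroup.mem_zpowers x)
    rintro ⟨_, i, rfl⟩
    exact ⟨j + 1, Subtype.ext (show (x ^ i) ^ 2 ^ (j + 1) = 1 by
      rw [← zpow_natCast, ← zpow_mul, mul_comm i, zpow_mul, zpow_natCast, o, one_zpow])⟩
  by_cases c : x ∈ A
  · exact k x c b
  · simpa using S.1.mul_mem hy (k (y⁻¹ * x) (by
      simpa [mul_assoc] using A.mul_mem (A.inv_mem (h.out (l hy) n)) (h.out a c))
      ((nrm S.1).mul_mem (Subgroup.le_normalizer (S.1.inv_mem hy)) b))

end Tor

variable (F) in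
/-- the split torus -/
def DS : Subgroup SL(2, F) where
  carrier := {g | g.1 0 1 = 0 ∧ g.1 1 0 = 0}
  mul_mem' a b := by simp [H4.sl2_mul_apply, a.1, a.2, b.1, b.2, -Matrix.SpecialLinearGroup.coe_mul]
  one_mem' := by simp
  inv_mem' a := by simp [Matrix.adjugate_fin_two, a.1, a.2]

/-- diagonal matrices of determinant one -/
def dH : Fˣ →* DS F where
  toFun a := ⟨(sm a 0).1, rfl, rfl⟩
  map_one' := Subtype.ext (H4.sl2_ext (by simp [sm]) rfl rfl (by simp [sm]))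
  map_mul' a b := Subtype.ext (by
    refine H4.sl2_ext ?_ ?_ ?_ ?_ <;> simp [sm, H4.sl2_mul_apply, mul_comm, -Matrix.SpecialLinearGroup.coe_mul])

theorem dH_bij : Function.Bijective (dH : Fˣ → DS F) :=
  ⟨fun _ _ h => Units.ext (congrArg (fun s : DS F => s.1.1 0 0) h), fun s =>
    ⟨(sEq.symm ⟨s.1, mem_BS.2 s.2.2⟩).1, Subtype.ext (by
      have := congrArg Subtype.val (sEq.apply_symm_apply ⟨s.1, mem_BS.2 s.2.2⟩)
      refine Eq.trans ?_ this
      exact congrArg (fun b => (sm _ b).1) s.2.1.symm)⟩⟩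

theorem DS_conj (ha : a ∈ DS F) (n : a.1 0 0 ≠ a.1 1 1) (k : x * a * x⁻¹ ∈ DS F) :
    x ∈ DS F ∨ x.1 0 0 = 0 ∧ x.1 1 1 = 0 := by
  have e : x * a = x * a * x⁻¹ * x := by simp
  generalize x * a * x⁻¹ = b at e k
  have t := fun i j => (H4.sl2_mul_apply x a i j).symm.trans ((congrArg (fun s : SL(2, F) => s.1 i j) e).trans
    (H4.sl2_mul_apply b x i j))
  have t0 := t 0 0; have t1 := t 0 1; have t2 := t 1 0; have t3 := t 1 1
  simp only [ha.1, ha.2, k.1, k.2, mul_zero, zero_mul, add_zero, zero_add] at t0 t1 t2 t3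
  have d := H4.sl2_det x
  have n := sub_ne_zero.2 n
  have u : x.1 0 0 * x.1 0 1 = 0 := mul_left_cancel₀ n (by linear_combination x.1 0 1 * t0 - x.1 0 0 * t1)
  have v : x.1 1 0 * x.1 1 1 = 0 := mul_left_cancel₀ n (by linear_combination x.1 1 1 * t2 - x.1 1 0 * t3)
  rcases mul_eq_zero.1 u with u | u <;> rcases mul_eq_zero.1 v with v | v
  · simp [u, v] at d
  · exact .inr ⟨u, v⟩
  · exact .inl ⟨u, v⟩
  · simp [u, v] at d

theorem DS_cent (ha : a ∈ DS F) (n : a.1 0 0 ≠ a.1 1 1) : cen1 a = DS F := Subgroup.ext fun x => by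
  rw [mem_cen1]
  refine ⟨fun k => (DS_conj ha n (by rwa [k, mul_inv_cancel_right])).resolve_right fun z => ?_, fun k => ?_⟩
  · have t := (H4.sl2_mul_apply x a 0 1).symm.trans ((congrArg (fun s : SL(2, F) => s.1 0 1) k).trans
      (H4.sl2_mul_apply a x 0 1))
    have d := H4.sl2_det x
    simp only [ha.1, z.1, z.2, mul_zero, zero_mul, add_zero, zero_add] at t d
    exact n (by linear_combination x.1 1 0 * t - (a.1 0 0 - a.1 1 1) * d)
  · refine H4.sl2_ext ?_ ?_ ?_ ?_ <;> simp [H4.sl2_mul_apply, ha.1, ha.2, k.1, k.2, mul_comm,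
      -Matrix.SpecialLinearGroup.coe_mul]

theorem tr_of_sq (h : s * s = -1) : s.1 0 0 + s.1 1 1 = 0 := by
  have a := H4.sl2_mul_apply s s 0 0
  have b := H4.sl2_mul_apply s s 1 1
  have d := H4.sl2_det s
  rw [h] at a b; simp at a b
  exact (pow_eq_zero_iff two_ne_zero).1 (by linear_combination -a - b + 2 * d)

theorem exists_s23 (h2 : (2 : F) ≠ 0) (ha : a * a = -1) (hy : y * y = -1) (h : y * a * y⁻¹ = a⁻¹) :
    ∃ g, H1B.S23 a y g ∧ g ^ 3 = 1 := by
  have k : y * a = -(a * y) := by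
    rw [mul_inv_eq_iff_eq_mul.1 h, ← neg_mul]; congr 1
    exact inv_eq_of_mul_eq_one_right (by rw [mul_neg, ha, neg_neg])
  obtain ⟨r1, r2, r3⟩ := quat_rel (I := a.1) (J := y.1) (by simpa using congrArg Subtype.val ha)
    (by simpa using congrArg Subtype.val hy) (by simpa using congrArg Subtype.val k)
  have d : ∀ s : SL(2, F), s * s = -1 → (1 + s.1).det = 2 := fun s m => by
    simp [Matrix.det_fin_two]; linear_combination tr_of_sq m + H4.sl2_det s
  obtain ⟨g, hg⟩ : ∃ g : SL(2, F), g.1 = (-2⁻¹ : F) • ((1 + a.1) * (1 + y.1)) :=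
    ⟨⟨_, by rw [Matrix.det_smul, Matrix.det_mul, d a ha, d y hy]; simp; field_simp⟩, rfl⟩
  refine ⟨g, ⟨by rw [show 4 = 2 + 2 from rfl, pow_add, sq, ha]; simp, hy.trans ha.symm, h,
    mul_inv_eq_iff_eq_mul.2 (Subtype.ext ?_), mul_inv_eq_iff_eq_mul.2 (Subtype.ext ?_), ha ▸ neg_ne h2⟩, Subtype.ext ?_⟩
  · simp [hg, r1]
  · simp [hg, r2]
  · rw [Matrix.SpecialLinearGroup.coe_pow, hg, smul_pow, pow_three', pow_three', r3, Matrix.SpecialLinearGroup.coe_one]
    rw [show (-8 : Matrix (Fin 2) (Fin 2) F) = (-8 : F) • 1 by simp [ofNat_smul_eq_nsmul], smul_smul]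
    rw [show -2⁻¹ * -2⁻¹ * -2⁻¹ * (-8 : F) = 1 by field_simp; norm_num, one_smul]

variable [Fintype F]

local notation "q" => (Fintype.card F : ℂ)
local notation "qn" => Fintype.card F

theorem tor_DS (h2 : (2 : F) ≠ 0) (h4 : 4 ≤ qn) : Tor (DS F) (qn - 1) (slm 0 (-1) 1 0 (by simp)) := by
  have c : Nat.card (DS F) = qn - 1 := by
    rw [← Nat.card_eq_of_bijective _ dH_bij, Nat.card_units, Nat.card_eq_fintype_card]
  have k : ∀ a ∈ DS F, a ≠ 1 → a ≠ -1 → a.1 0 0 ≠ a.1 1 1 := fun a m b d z => (scal_of_B m.2 z m.1).elim b d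
  have i : (slm 0 (-1) 1 0 (by simp) : SL(2, F))⁻¹ = slm 0 1 (-1) 0 (by simp) := inv_eq_of_mul_eq_one_right (by
    refine H4.sl2_ext ?_ ?_ ?_ ?_ <;> simp [H4.sl2_mul_apply, -Matrix.SpecialLinearGroup.coe_mul])
  refine ⟨h2, isCyclic_of_surjective _ dH_bij.2, c, by simp [DS], fun a m b d => DS_cent m (k a m b d), fun a m => ?_,
    fun a m b d x z => (DS_conj m (k a m b d) z).imp id fun v => ?_, ?_, exists_ne_pm (by omega)⟩
  · rw [i]
    refine H4.sl2_ext ?_ ?_ ?_ ?_ <;> simp [H4.sl2_mul_apply, m.1, m.2, Matrix.adjugate_fin_two,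
      -Matrix.SpecialLinearGroup.coe_mul]
  · rw [i]; constructor <;> simp [H4.sl2_mul_apply, v.1, v.2, -Matrix.SpecialLinearGroup.coe_mul]
  · refine H4.sl2_ext ?_ ?_ ?_ ?_ <;> simp [H4.sl2_mul_apply, -Matrix.SpecialLinearGroup.coe_mul]

theorem tor_CS (h2 : (2 : F) ≠ 0) (he : Ell e) : ∃ w, Tor (CS e) (qn + 1) w := by
  have c := he.not_mem
  obtain ⟨t, k⟩ := (torus_facts he).2.1 (Matrix.GeneralLinearGroup.det (sg e c))⁻¹
  obtain ⟨w, v⟩ := exists_tg (g := sg e c * t.1) (by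
    rw [dv_eq, map_mul, show Matrix.GeneralLinearGroup.det t.1 = _ from k]; simp)
  refine ⟨w, h2, CS_cyclic he, card_CS he, neg_one_mem, fun a m b d => Subgroup.ext fun x => ?_, fun a m => tg_inj ?_,
    fun a m b d x z => ?_, ?_, exists_ne_pm (by rw [card_CS he]; have := Fintype.one_lt_card (α := F); omega)⟩
  · rw [mem_cen1, Subgroup.mem_comap, ← To_eq c m (CS_nonscal c m b d), mem_To', ← map_mul, ← map_mul, tg_inj.eq_iff]
  · rw [map_mul, map_mul, map_inv, map_inv, v, ← ad_of_dv (dv_tg a), ← sg_conj c m, mul_assoc (sg e c), To_comm c t.2 m]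
    group
  · refine (conj_mem_To he m (CS_nonscal c m b d) (x := tg x) (by simpa using z)).imp id fun u => ?_
    simpa [v, mul_assoc] using (To e).mul_mem ((To e).inv_mem t.2) u
  · have z := tr_sg c t.2
    have d := H4.sl2_det w
    rw [← v, tg_val] at z
    refine H4.sl2_ext ?_ ?_ ?_ ?_ <;> simp [H4.sl2_mul_apply, -Matrix.SpecialLinearGroup.coe_mul]
    · linear_combination w.1 0 0 * z - d
    · linear_combination w.1 0 1 * z
    · linear_combination w.1 1 0 * z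
    · linear_combination w.1 1 1 * z - d

theorem card_SL' : Nat.card SL(2, F) = qn * (qn - 1) * (qn + 1) := by rw [H4.card_sl2, Nat.card_eq_fintype_card]

theorem Tor.index_sub (h : Tor A (qn - 1) w) : A.index = qn * (qn + 1) := by
  have := A.card_mul_index
  rw [h.card, card_SL', mul_comm qn, mul_assoc] at this
  exact Nat.eq_of_mul_eq_mul_left (by have := Fintype.one_lt_card (α := F); omega) this

theorem Tor.index_add (h : Tor A (qn + 1) w) : A.index = qn * (qn - 1) := by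
  have := A.card_mul_index
  rw [h.card, card_SL', mul_comm _ (qn + 1)] at this
  exact Nat.eq_of_mul_eq_mul_left (by omega) this

theorem sylow_sub (o : Odd qn) {p : ℕ} [hp : Fact p.Prime] (p2 : p ≠ 2) (S : Sylow p SL(2, F)) (d : p ∣ qn - 1) :
    ∃ B v, Tor B (qn - 1) v ∧ cen S.1 = B ∧ nrm S.1 = nrm B := by
  have := Fintype.one_lt_card (α := F)
  have l := Nat.le_of_dvd (by omega) d
  have := hp.1.two_le
  have h := tor_DS (two_ne o) (by omega)
  refine h.sylow p2 S d (h.index_sub ▸ fun z => ((Nat.Prime.dvd_mul hp.1).1 z).elim (fun z => ?_) fun z => ?_)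
  · exact hp.1.ne_one (Nat.dvd_one.1 (by simpa [show qn - (qn - 1) = 1 by omega] using Nat.dvd_sub z d))
  · exact p2 ((Nat.prime_dvd_prime_iff_eq hp.1 Nat.prime_two).1 (by
      simpa [show qn + 1 - (qn - 1) = 2 by omega] using Nat.dvd_sub z d))

theorem sylow_add (o : Odd qn) {p : ℕ} [hp : Fact p.Prime] (p2 : p ≠ 2) (S : Sylow p SL(2, F)) (d : p ∣ qn + 1) :
    ∃ B v, Tor B (qn + 1) v ∧ cen S.1 = B ∧ nrm S.1 = nrm B := by
  have := Fintype.one_lt_card (α := F)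
  obtain ⟨e, he⟩ := exists_ell (F := F)
  obtain ⟨w, h⟩ := tor_CS (two_ne o) he
  refine h.sylow p2 S d (h.index_add ▸ fun z => ((Nat.Prime.dvd_mul hp.1).1 z).elim (fun z => ?_) fun z => ?_)
  · exact hp.1.ne_one (Nat.dvd_one.1 (by simpa using Nat.dvd_sub d z))
  · exact p2 ((Nat.prime_dvd_prime_iff_eq hp.1 Nat.prime_two).1 (by
      simpa [show qn + 1 - (qn - 1) = 2 by omega] using Nat.dvd_sub d z))

theorem sylow_two (o : Odd qn) (S : Sylow 2 SL(2, F)) : ∃ A n w y a, Tor A n w ∧ S.1 ≤ nrm A ∧ y ∈ S.1 ∧ y ∉ A ∧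
    a ∈ A ⊓ S.1 ∧ orderOf a = ord (A ⊓ S.1) ∧ 4 ∣ orderOf a ∧
    (qn % 8 = 1 ∨ qn % 8 = 7 → 8 ∣ orderOf a) ∧ (qn % 8 = 3 ∨ qn % 8 = 5 → orderOf a = 4) := by
  obtain ⟨A, n, w, m, h, n4, i, om, n8, n8'⟩ : ∃ (A : Subgroup SL(2, F)) (n : ℕ) (w : SL(2, F)) (m : ℕ), Tor A n w ∧ 4 ∣ n ∧
      A.index = 2 * m ∧ Odd m ∧ (qn % 8 = 1 ∨ qn % 8 = 7 → 8 ∣ n) ∧ (qn % 8 = 3 ∨ qn % 8 = 5 → ¬ 8 ∣ n) := by
    have := Fintype.one_lt_card (α := F)
    obtain ⟨k, e⟩ := id o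
    by_cases c : qn % 4 = 1
    · have h := tor_DS (two_ne o) (by omega)
      exact ⟨_, _, _, qn * (k + 1), h, by omega, by rw [h.index_sub, e]; ring, o.mul (Nat.odd_iff.2 (by omega)), by omega,
        by omega⟩
    · obtain ⟨e', he⟩ := exists_ell (F := F)
      obtain ⟨w, h⟩ := tor_CS (two_ne o) he
      exact ⟨_, _, _, qn * k, h, by omega, by rw [h.index_add, e, Nat.add_sub_cancel]; ring,
        o.mul (Nat.odd_iff.2 (by omega)), by omega, by omega⟩
  have i2 : (nrm A).index = m := by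
    have a := (nrm A).card_mul_index
    rw [h.card_nrm, ← A.card_mul_index, h.card, i] at a
    exact Nat.eq_of_mul_eq_mul_left (show 0 < 2 * n by rw [← h.card_nrm]; exact Nat.card_pos) (by linarith)
  obtain ⟨g, k⟩ := exists_conj_mem (H := nrm A) S.2 (i2 ▸ om.not_two_dvd_nat)
  have h' := h.cnj g
  have i' : (A.comap (MulAut.conj g).toMonoidHom).index = 2 * m :=
    (A.index_comap_of_surjective (MulAut.conj g).surjective).trans i
  have l : S.1 ≤ nrm (A.comap (MulAut.conj g).toMonoidHom) := fun x b => h'.mem_nrm.2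
    ((h.mem_nrm.1 (k x b)).imp id fun z => show g * _ * g⁻¹ ∈ A by convert z using 1; group)
  generalize A.comap (MulAut.conj g).toMonoidHom = B at h' i' l
  obtain ⟨y, b, c⟩ : ∃ y ∈ S.1, y ∉ B := by
    by_contra! z
    exact S.not_dvd_index ((Dvd.intro _ i'.symm).trans (Subgroup.index_dvd_of_le z))
  have := h'.cyc
  have : IsCyclic ↥(B ⊓ S.1) := Subgroup.isCyclic_of_le (inf_le_left : B ⊓ S.1 ≤ B)
  obtain ⟨a, oa⟩ := IsCyclic.exists_ofOrder_eq_natCard (α := ↥(B ⊓ S.1))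
  rw [← Subgroup.orderOf_coe] at oa
  obtain ⟨j, d⟩ : ord (B ⊓ S.1) ∣ n := h'.card ▸ Subgroup.card_dvd_of_le inf_le_left
  have oj : Odd j := by
    have u := S.1.card_mul_index
    rw [h'.card_of l b c, ← B.card_mul_index, h'.card, i', d] at u
    have : S.1.index = j * m := Nat.eq_of_mul_eq_mul_left (show 0 < 2 * ord (B ⊓ S.1) from
      Nat.mul_pos two_pos Nat.card_pos) (by linarith)
    exact Nat.not_even_iff_odd.1 fun z => S.not_dvd_index (this ▸ z.two_dvd.mul_right m)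
  have cp : ∀ i, 2 ^ i ∣ n → 2 ^ i ∣ orderOf a.1 := fun i z => by
    rw [oa]; exact (Nat.Coprime.pow_left i (Nat.coprime_two_left.2 oj)).dvd_of_dvd_mul_right (d ▸ z)
  refine ⟨B, n, _, y, a, h', l, b, c, a.2, oa, cp 2 n4, fun z => cp 3 (n8 z), fun z => ?_⟩
  obtain ⟨i, u⟩ := (S.2.to_inf_right (H := B)).exists_card_eq
  have v := cp 2 n4
  rw [oa, u] at v ⊢
  rw [show i = 2 from le_antisymm (by_contra fun t => n8' z ((pow_dvd_pow 2 (by omega : 3 ≤ i)).trans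
    (u ▸ Dvd.intro _ d.symm))) ((Nat.pow_dvd_pow_iff_le_right one_lt_two).1 v)]; rfl

omit [Fintype F] in
theorem ne_pm_of_four (h : 4 ∣ orderOf a) : a ≠ 1 ∧ a ≠ -1 ∧ a * a ≠ 1 := by
  have : a * a ≠ 1 := fun z => absurd (h.trans (orderOf_dvd_of_pow_eq_one ((sq a).trans z))) (by decide)
  exact ⟨fun z => this (by simp [z]), fun z => this (by simp [z]), this⟩

theorem cen_sylow_two (o : Odd qn) (S : Sylow 2 SL(2, F)) : cen S.1 = Subgroup.center _ := by
  obtain ⟨A, n, w, y, a, h, l, b, c, m, -, d, -⟩ := sylow_two o S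
  refine le_antisymm (fun x k => H4.sl2_mem_center_iff.2 (scal_of_sq h.two ?_)) (Subgroup.center_le_centralizer _)
  have := h.inv' (h.out (l b) c) (h.cent a m.1 (ne_pm_of_four d).1 (ne_pm_of_four d).2.1 ▸ mem_cen1.2 (k a m.2).symm)
  rwa [k y b, mul_inv_cancel_right, eq_inv_iff_mul_eq_one] at this

theorem nrm_sylow_two (o : Odd qn) (S : Sylow 2 SL(2, F)) (h8 : qn % 8 = 1 ∨ qn % 8 = 7) :
    nrm S.1 = S.1 ∧ Nat.card {χ : IrrCharacter S.1 // ¬ 2 ∣ dg χ.1} = 4 := by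
  obtain ⟨A, n, w, y, a, h, l, b, c, m, -, d, d8, -⟩ := sylow_two o S
  refine ⟨le_antisymm (fun x k => h.mem_sylow S l b c (h.mem_nrm.2 (h.nrm' a m.1 (ne_pm_of_four d).1
    (ne_pm_of_four d).2.1 x (by_contra fun z => ?_))) k) Subgroup.le_normalizer, odd_cnt_dic (h.index l b c) h.comm_sub
    (h.classes l b c (h.sq' (h.out (l b) c) ▸ S.1.mul_mem b b))⟩
  have := h.sq' (h.out (l ((Subgroup.mem_normalizer_iff.1 k a).1 m.2)) z)
  rw [conj_mul, mul_inv_eq_iff_eq_mul, neg_mul, one_mul, ← mul_neg_one, mul_left_cancel_iff] at this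
  exact absurd ((d8 h8).trans (orderOf_dvd_of_pow_eq_one (n := 4) (by
    rw [show 4 = 2 + 2 from rfl, pow_add, sq, this]; simp))) (by decide)

theorem nrm_sylow_two' (o : Odd qn) (S : Sylow 2 SL(2, F)) (h8 : qn % 8 = 3 ∨ qn % 8 = 5) :
    ord (nrm S.1) = 3 * Nat.card S.1 ∧ Nonempty (nrm S.1 ≃* SL(2, ZMod 3)) := by
  obtain ⟨A, n, w, y, a, h, l, b, c, m, oa, d, -, d4⟩ := sylow_two o S
  obtain ⟨a1, a2, a3⟩ := ne_pm_of_four d
  have o4 := d4 h8
  have c8 : Nat.card S.1 = 8 := by rw [h.card_of l b c, ← oa, o4]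
  obtain ⟨g, k, g3⟩ := exists_s23 h.two ((scal_of_sq h.two (by
    rw [← sq, ← sq, ← pow_mul, show 2 * 2 = 4 from rfl, ← o4, pow_orderOf_eq_one])).resolve_left a3)
    (h.sq' (h.out (l b) c)) (h.inv' (h.out (l b) c) m.1)
  have e : Subgroup.zpowers a ⊔ Subgroup.zpowers y = S.1 := Subgroup.eq_of_le_of_card_ge
    (sup_le (Subgroup.zpowers_le.2 m.2) (Subgroup.zpowers_le.2 b)) (by rw [c8, k.card_Q])
  have u : ord (nrm S.1) ≤ 4 * 6 := by
    have f : ∀ x : nrm S.1, x.1 * a * x.1⁻¹ ∈ (S.1 : Set SL(2, F)) \ {1, -1} := fun x =>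
      ⟨(Subgroup.mem_normalizer_iff.1 x.2 a).1 m.2, by
        rintro (z | z) <;> [apply a1; apply a2] <;> rw [show a = x.1⁻¹ * (x.1 * a * x.1⁻¹) * x.1 by group, z] <;> simp⟩
    refine (card_le_mul_of_fib (fun x => (⟨_, f x⟩ : ((S.1 : Set SL(2, F)) \ {1, -1} : Set _))) (n := 4) fun t => ?_).trans_eq ?_
    · rcases isEmpty_or_nonempty {x : nrm S.1 // (⟨_, f x⟩ : ((S.1 : Set SL(2, F)) \ {1, -1} : Set _)) = t} with z | ⟨⟨x, z⟩⟩
      · simp
      have r : ∀ v : {x : nrm S.1 // (⟨_, f x⟩ : ((S.1 : Set SL(2, F)) \ {1, -1} : Set _)) = t}, x.1⁻¹ * v.1.1 ∈ A ⊓ S.1 :=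
        fun v => by
          have t : x.1⁻¹ * v.1.1 ∈ A := h.cent a m.1 a1 a2 ▸ mem_cen1.2 (by
            have : v.1.1 * a * v.1.1⁻¹ = x.1 * a * x.1⁻¹ := congrArg Subtype.val (v.2.trans z.symm)
            rw [mul_assoc, mul_inv_eq_iff_eq_mul.1 this]; group)
          exact ⟨t, h.mem_sylow S l b c (Subgroup.le_normalizer t) (x⁻¹ * v.1).2⟩
      rw [← o4, oa]
      exact Nat.card_le_card_of_injective (fun v => (⟨_, r v⟩ : ↥(A ⊓ S.1))) fun v v' z =>
        Subtype.ext (Subtype.ext (mul_left_cancel (congrArg Subtype.val z)))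
    · rw [Nat.card_coe_set_eq, Set.ncard_diff (by
        rintro _ (rfl | rfl); exacts [S.1.one_mem, h.sq' (h.out (l b) c) ▸ S.1.mul_mem b b]),
        Set.ncard_pair (neg_ne h.two).symm, ← Nat.card_coe_set_eq, SetLike.coe_sort_coe, c8]
  have e2 : Subgroup.zpowers a ⊔ Subgroup.zpowers y ⊔ Subgroup.zpowers g = nrm S.1 := Subgroup.eq_of_le_of_card_ge
    (sup_le (e ▸ Subgroup.le_normalizer) (Subgroup.zpowers_le.2 (e ▸ k.nrm_Q))) (by rw [k.card g3]; exact u)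
  exact ⟨by rw [← e2, k.card g3, c8], e2 ▸ k.sl23 g3⟩

theorem classes_BS (o : Odd qn) : Nat.card (ConjClasses (BS F)) = qn + 3 := by
  classical
  have k : ∀ (a x : Fˣ) (b y : F), Commute (sEq (a, b)) (sEq (x, y)) ↔ ((a : F) - (a : F)⁻¹) * y = ((x : F) - (x : F)⁻¹) * b :=
    fun a x b y => by
      refine ⟨fun h => ?_, fun h => Subtype.ext (H4.sl2_ext ?_ ?_ ?_ ?_)⟩
      · have := congrArg (fun s : BS F => s.1.1 0 1) h.eq
        simp [sEq, sm, H4.sl2_mul_apply, -Matrix.SpecialLinearGroup.coe_mul] at this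
        linear_combination this
      all_goals simp [sEq, sm, H4.sl2_mul_apply, -Matrix.SpecialLinearGroup.coe_mul]
      · ring
      · linear_combination h
      · ring
  have z : ∀ a : Fˣ, (a : F) - (a : F)⁻¹ = 0 ↔ a = 1 ∨ a = -1 := fun a => by
    rw [sub_eq_zero, ← mul_eq_one_iff_eq_inv₀ a.ne_zero, mul_self_eq_one_iff, Units.ext_iff, Units.ext_iff]; rfl
  have n : (1 : Fˣ) ≠ -1 := by simpa [Units.ext_iff, eq_neg_iff_add_eq_zero, one_add_one_eq_two] using two_ne o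
  have s : ∀ c : ℂ, ∑ a : Fˣ, (if a = 1 ∨ a = -1 then c else 0) = 2 * c := fun c => by
    rw [Finset.sum_eq_add_of_mem 1 (-1) (by simp) (by simp) n fun a _ m => if_neg (not_or.2 m)]; simp [two_mul]
  have t : ∀ a x : Fˣ, ∑ b : F, nn ((a : F) - (a : F)⁻¹) (((x : F) - (x : F)⁻¹) * b) =
      q + if a = 1 ∨ a = -1 then if x = 1 ∨ x = -1 then q ^ 2 - q else 0 else 0 := fun a x => by
    simp only [← z]
    split_ifs with c d
    · simp [c, d, nn_zero, sq]
    · simp [c, d, nn_zero]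
    · simp [nn_ne c]
  have h := congrArg (Nat.cast : ℕ → ℂ) (card_comm_eq_card_conjClasses_mul_card (BS F))
  rw [Nat.cast_mul, card_BS, Nat.card_eq_fintype_card, Fintype.card_subtype, Finset.card_filter, Nat.cast_sum,
    Fintype.sum_prod_type, ← sEq.sum_comp, Fintype.sum_prod_type] at h
  simp only [← sEq.sum_comp, Fintype.sum_prod_type, k, Nat.cast_ite, Nat.cast_one, Nat.cast_zero] at h
  replace h := (Finset.sum_congr rfl fun a _ => Finset.sum_comm.trans (Finset.sum_congr rfl fun x _ => t a x)).symm.trans h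
  simp only [Finset.sum_add_distrib, Finset.sum_ite_irrel, s, Finset.sum_const, Finset.card_univ, nsmul_eq_mul,
    card_units, mul_zero] at h
  have : (Nat.card (ConjClasses (BS F)) : ℂ) = q + 3 :=
    mul_left_cancel₀ q_ne (mul_left_cancel₀ q1_ne (by linear_combination -h))
  exact_mod_cast this

end G2
end
end H3
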