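import Cfsg.Agent.H3.GL2e
import Cfsg.Agent.H3.Cong
import Cfsg.Agent.H9.Block
import Cfsg.Prelude.Def_DegreeGraph

/-! # Degree graphs and blocks of `SL₂(q)` -/

open Cfsg H7
open H4 (slConj toGL_slConj ub slm)
open scoped ComplexConjugate MatrixGroups
set_option maxSynthPendingDepth 3

namespace H3
open H3

noncomputable section

theorem mem_cd {G : Type*} [Group G] {d : ℕ} : d ∈ charDegrees G ↔ ∃ χ, Irr G χ ∧ dg χ = d :=
  ⟨fun ⟨χ, h⟩ => ⟨χ.1, χ.2, h⟩, fun ⟨χ, a, h⟩ => ⟨⟨χ, a⟩, h⟩⟩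

theorem cd_le_of_surj {G H : Type*} [Group G] [Group H] (f : G →* H) (h : Function.Surjective f) :
    charDegrees H ⊆ charDegrees G := fun _ ⟨χ, e⟩ =>
  mem_cd.2 ⟨_, χ.2.comp_surjective f h, (dg_congr (by simp)).trans e⟩

theorem cd_equiv {G H : Type*} [Group G] [Group H] (e : G ≃* H) : charDegrees G = charDegrees H :=
  (cd_le_of_surj e.symm.toMonoidHom e.symm.surjective).antisymm (cd_le_of_surj e.toMonoidHom e.surjective)

namespace G2
variable {F : Type*} [Field F] {e : GL (Fin 2) F} {ψ χ : SL(2, F) → ℂ}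

theorem descend [Finite F] (h : Irr _ ψ) (k : ψ (-1) = ψ 1) : ∃ η : PSL(2, F) → ℂ, Irr _ η ∧ ∀ g : SL(2, F), ψ g = η g :=
  h.exists_quotient _ fun g m => by rcases H4.sl2_mem_center_iff.1 m with rfl | rfl; exacts [rfl, k]

theorem mem_cd_psl [Finite F] (h : Irr _ ψ) (k : ψ (-1) = ψ 1) : dg ψ ∈ charDegrees PSL(2, F) := by
  obtain ⟨η, a, b⟩ := descend h k
  exact mem_cd.2 ⟨η, a, dg_congr (b 1).symm⟩

variable [Fintype F] [DecidableEq F]

local notation "q" => (Fintype.card F : ℂ)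
local notation "qn" => Fintype.card F

theorem ps_neg (γ : MulChar F ℂ) : rs (ps γ 1) (-1) = (q + 1) * γ (-1) := by
  rw [rs, ps_scal _ _ (by simp) (by simp) (by simp)]
  simp [MulChar.one_apply (isUnit_one (M := F)).neg]

theorem st_neg : rs (st (1 : MulChar F ℂ)) (-1) = q := by
  rw [rs_st, Pi.sub_apply, ps_neg]
  simp [MulChar.one_apply (isUnit_one (M := F)).neg]

theorem rho_neg (he : Ell e) (θ : To e →* ℂˣ) : rs (rho θ) (-1) = (q - 1) * θ (jC e ⟨-1, neg_one_mem⟩) := by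
  rw [rs, rho_B he θ (by simp), cB, if_pos (by simp), if_pos (by simp)]
  exact congrArg _ (om_of he.not_mem θ (jC e ⟨-1, neg_one_mem⟩) (show (-1 : SL(2, F)).1 1 0 = 0 by simp))

theorem st_dg : dg (rs (st (1 : MulChar F ℂ))) = qn := dg_eq (rs_one.trans (st_one _))

theorem dg_dvd_cases (h : Irr _ ψ) : dg ψ ∣ qn ∨ dg ψ ∣ qn + 1 ∨ dg ψ ∣ qn - 1 := by
  obtain ⟨e, he⟩ := exists_ell (F := F)
  rcases sl_irr' he h with ⟨k, d⟩ | ⟨k, d⟩ | ⟨α, -, k, d⟩ | ⟨θ, -, k, d⟩ | ⟨α, η, -, -, k, d⟩ | ⟨θ, η, -, -, k, d⟩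
  · exact .inl (d ▸ one_dvd _)
  · exact .inl (d ▸ dvd_rfl)
  · exact .inr (.inl (d ▸ dvd_rfl))
  · exact .inr (.inr ⟨1, by omega⟩)
  · exact .inr (.inl ⟨2, by omega⟩)
  · exact .inr (.inr ⟨2, by omega⟩)

theorem eq_st_of_dvd {p : ℕ} [hp : Fact p.Prime] [CharP F p] (h : Irr _ ψ) (d : p ∣ dg ψ) : ψ = rs (st 1) := by
  obtain ⟨e, he⟩ := exists_ell (F := F)
  have c : p ∣ qn := Nat.card_eq_fintype_card (α := F) ▸ H4.char_dvd_card p
  have n : ¬ p ∣ 1 := hp.1.not_dvd_one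
  rcases sl_irr' he h with ⟨k, z⟩ | ⟨k, z⟩ | ⟨α, -, k, z⟩ | ⟨θ, -, k, z⟩ | ⟨α, η, -, -, k, z⟩ | ⟨θ, η, -, -, k, z⟩
  · exact absurd (z ▸ d) n
  · exact k
  · exact absurd ((Nat.dvd_add_right c).1 (z ▸ d)) n
  · exact absurd ((Nat.dvd_add_right d).1 (z ▸ c)) n
  · exact absurd ((Nat.dvd_add_right c).1 (z ▸ d.mul_left 2)) n
  · exact absurd ((Nat.dvd_add_right (d.mul_left 2)).1 (z ▸ c)) n

theorem cd_psl (h4 : 4 ≤ qn) (h5 : qn ≠ 5) : qn ∈ charDegrees PSL(2, F) ∧ qn + 1 ∈ charDegrees PSL(2, F) ∧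
    qn - 1 ∈ charDegrees PSL(2, F) := by
  obtain ⟨e, he⟩ := exists_ell (F := F)
  refine ⟨st_dg (F := F) ▸ mem_cd_psl rs_st_irr (st_neg.trans (rs_one.trans (st_one _)).symm), ?_, ?_⟩
  · obtain ⟨l, c, n⟩ := exists_lin_pow_ne (A := Fˣ) (n := 4) fun z => by
      rw [Nat.card_units, Nat.card_eq_fintype_card] at z
      have := Nat.le_of_dvd (by omega) z
      rw [show qn - 1 = 3 by omega] at z; omega
    have i := (rs_ps_irr_iff (MulChar.ofUnitHom l ^ 2)).2 fun z => n (Units.ext (by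
      have := congrArg (fun γ : MulChar F ℂ => γ c) z
      simpa [← pow_mul, MulChar.pow_apply_coe] using this))
    rw [← G2.dg_add (rs_one.trans (ps_one (MulChar.ofUnitHom l ^ 2) 1))]
    exact mem_cd_psl i (by rw [ps_neg, rs_one, ps_one, sq, MulChar.mul_apply, ← map_mul]; simp)
  · have := CS_cyclic he
    obtain ⟨l, c, n⟩ := exists_lin_pow_ne (A := CS e) (n := 4) fun z => by
      rw [card_CS he] at z
      have := Nat.le_of_dvd (by omega) z
      omega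
    obtain ⟨θ, k⟩ := exists_ext_C he l
    have i := rs_rho_irr he (θ := θ ^ 2) fun z => n (by simpa [k, ← pow_mul] using eqC_inv_iff.1 z c)
    rw [← dg_sub (rs_one.trans (rho_one he (θ ^ 2))), Nat.add_sub_cancel]
    refine mem_cd_psl i ?_
    rw [rho_neg he, rs_one, rho_one he, MonoidHom.pow_apply, ← map_pow, ← map_pow,
      show (⟨-1, neg_one_mem⟩ : CS e) ^ 2 = 1 from Subtype.ext (by simp)]
    simp

theorem graph {S : Type*} [Group S] (h4 : 4 ≤ qn) (h5 : qn ≠ 5) (hS : Nonempty (S ≃* PSL(2, F)) ∨ Nonempty (S ≃* SL(2, F))) :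
    degreePrimes S = {r : ℕ | r.Prime ∧ r ∣ qn * (qn ^ 2 - 1)} ∧ ∀ r s : ℕ, (degreeGraph S).Adj r s ↔
      (r ≠ s ∧ r.Prime ∧ s.Prime ∧ ((r ∣ qn + 1 ∧ s ∣ qn + 1) ∨ (r ∣ qn - 1 ∧ s ∣ qn - 1))) := by
  have l := cd_le_of_surj (QuotientGroup.mk' (Subgroup.center SL(2, F))) (QuotientGroup.mk'_surjective _)
  have l1 : charDegrees PSL(2, F) ⊆ charDegrees S := by
    rcases hS with ⟨⟨e⟩⟩ | ⟨⟨e⟩⟩ <;> rw [cd_equiv e]; exact l
  have l2 : ∀ d ∈ charDegrees S, d ∣ qn ∨ d ∣ qn + 1 ∨ d ∣ qn - 1 := fun d m => by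
    obtain ⟨χ, a, rfl⟩ := mem_cd.1 (show d ∈ charDegrees SL(2, F) by
      rcases hS with ⟨⟨e⟩⟩ | ⟨⟨e⟩⟩ <;> rw [cd_equiv e] at m; exacts [l m, m])
    exact dg_dvd_cases a
  obtain ⟨a, b, c⟩ := cd_psl h4 h5
  refine ⟨Set.ext fun r => and_congr_right fun p => ?_, fun r s => and_congr_right fun n => and_congr_right fun p =>
    and_congr_right fun p' => ⟨?_, ?_⟩⟩
  · rw [show qn ^ 2 - 1 = (qn + 1) * (qn - 1) from Nat.sq_sub_sq _ 1, p.dvd_mul, p.dvd_mul]
    exact ⟨fun ⟨d, m, k⟩ => (l2 d m).imp k.trans (Or.imp k.trans k.trans),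
      fun k => k.elim (⟨_, l1 a, ·⟩) fun k => k.elim (⟨_, l1 b, ·⟩) (⟨_, l1 c, ·⟩)⟩
  · rintro ⟨d, m, k⟩
    have k1 := (Dvd.intro _ rfl).trans k
    have k2 := (Dvd.intro_left _ rfl).trans k
    refine ((l2 d m).resolve_left fun z => n ?_).imp (fun z => ⟨k1.trans z, k2.trans z⟩) fun z => ⟨k1.trans z, k2.trans z⟩
    obtain ⟨t, _, j, u, v⟩ := FiniteField.card' F
    rw [v] at z
    rw [(Nat.prime_dvd_prime_iff_eq p u).1 (p.dvd_of_dvd_pow (k1.trans z)),
      (Nat.prime_dvd_prime_iff_eq p' u).1 (p'.dvd_of_dvd_pow (k2.trans z))]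
  · have := (Nat.coprime_primes p p').2 n
    exact fun k => k.elim (fun z => ⟨_, l1 b, this.mul_dvd_of_dvd_of_dvd z.1 z.2⟩)
      fun z => ⟨_, l1 c, this.mul_dvd_of_dvd_of_dvd z.1 z.2⟩

theorem odd_cnt (o : Odd qn) (k : Nat.card (ConjClasses SL(2, F)) = qn + 4) :
    Nat.card {χ : IrrCharacter SL(2, F) // ¬ 2 ∣ dg χ.1} = 4 := by
  have q1 := Fintype.one_lt_card (α := F)
  have c2 := cs_q (F := F)
  obtain ⟨m, e⟩ := id o
  by_cases h4 : 4 ≤ qn
  · have c1 := cs_one h4; have c3 := cs_add h4 o; have c4 := cs_sub h4 o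
    rw [cnt_dvd _ fun χ => sl_dg_odd χ.2, Finset.sum_insert (by simp <;> omega), Finset.sum_insert (by simp <;> omega),
      Finset.sum_insert (by simp <;> omega), Finset.sum_insert (by simp <;> omega), Finset.sum_pair (by omega)]
    simp only [cs] at c1 c2 c3 c4
    rw [c1, c2, c3, c4]
    split_ifs <;> omega
  · have h3 : qn = 3 := by omega
    have h : ∀ χ : IrrCharacter SL(2, F), dg χ.1 ∈ ({1, 2, 3, 4} : Finset ℕ) := fun χ => by
      have := sl_dg_odd χ.2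
      simp only [h3, Finset.mem_insert, Finset.mem_singleton] at this ⊢
      omega
    have a := sum_fib _ _ h fun _ => 1
    have b := sum_fib _ _ h fun d => (d : ℂ) ^ 2
    rw [Finset.sum_const, Finset.card_univ, ← Nat.card_eq_fintype_card, card_irr, k] at a
    rw [Finset.sum_congr rfl fun χ _ => by rw [← χ.2.isCharacter.deg], sum_deg_sq, card_SL'] at b
    rw [cnt_dvd _ h]
    simp only [h3, cs] at a b c2
    rw [Finset.sum_insert (by decide), Finset.sum_insert (by decide), Finset.sum_pair (by decide), c2] at a b ⊢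
    simp only [nsmul_eq_mul, mul_one] at a
    norm_cast at a b
    simp only [show ¬ 2 ∣ 1 by decide, show ¬ 2 ∣ 3 by decide, show 2 ∣ 4 by decide, dvd_rfl, if_true, if_false]
    omega

omit [DecidableEq F] in
theorem nrm_sylow_char {p : ℕ} [hp : Fact p.Prime] [CharP F p] (o : Odd qn) (S : Sylow p SL(2, F)) :
    Nat.card {χ : IrrCharacter (nrm S.1) // ¬ p ∣ dg χ.1} = qn + 3 := by
  classical
  have c : p ∣ qn := Nat.card_eq_fintype_card (α := F) ▸ H4.char_dvd_card p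
  have q1 := Fintype.one_lt_card (α := F)
  let u : Multiplicative F →* SL(2, F) := MonoidHom.mk' (fun b => ub b.toAdd) fun a b => by
    refine H4.sl2_ext ?_ ?_ ?_ ?_ <;> simp [ub, H4.sl2_mul_apply, add_comm, -Matrix.SpecialLinearGroup.coe_mul]
  have cu : Nat.card u.range = qn := by
    rw [H4.card_range_of_injective fun a b z => congrArg (fun s : SL(2, F) => s.1 0 1) z, ← Nat.card_eq_fintype_card]; rfl
  have iu : u.range.index = (qn - 1) * (qn + 1) := by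
    have := u.range.card_mul_index
    rw [cu, card_SL', mul_assoc] at this
    exact Nat.eq_of_mul_eq_mul_left (by omega) this
  have nd : ¬ p ∣ u.range.index := iu ▸ fun z => hp.1.not_dvd_one ((hp.1.dvd_mul.1 z).elim
    (fun z => by simpa [show qn - (qn - 1) = 1 by omega] using Nat.dvd_sub c z) (Nat.dvd_add_right c).1)
  obtain ⟨j, -, v⟩ := FiniteField.card F p
  let U := (IsPGroup.of_card (cu.trans v)).toSylow nd
  have nU : nrm u.range = BS F := Subgroup.ext fun x => by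
    refine ⟨fun k => ?_, fun k => Subgroup.mem_normalizer_fintype ?_⟩
    · obtain ⟨b, z⟩ := (Subgroup.mem_normalizer_iff.1 k (ub 1)).1 ⟨.ofAdd 1, rfl⟩
      have z := (eq_mul_inv_iff_mul_eq.1 z).symm
      have := (H4.sl2_mul_apply x (ub 1) 1 1).symm.trans ((congrArg (fun s : SL(2, F) => s.1 1 1) z).trans
        (H4.sl2_mul_apply _ x 1 1))
      exact mem_BS.2 (by simpa [u, ub] using this)
    · rintro _ ⟨b, rfl⟩
      have d := H4.sl2_det x
      rw [mem_BS.1 k] at d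
      refine ⟨.ofAdd (x.1 0 0 ^ 2 * b.toAdd), eq_mul_inv_iff_mul_eq.2 (H4.sl2_ext ?_ ?_ ?_ ?_)⟩ <;>
        simp [u, ub, H4.sl2_mul_apply, mem_BS.1 k, -Matrix.SpecialLinearGroup.coe_mul]
      linear_combination x.1 0 0 * b.toAdd * d
  obtain ⟨g, rfl⟩ := MulAction.exists_smul_eq SL(2, F) U S
  have i : nrm (g • U).1 ≃* BS F := ((MulEquiv.subgroupCongr (Subgroup.map_equiv_normalizer_eq U.1 (MulAut.conj g)).symm).trans
    ((MulAut.conj g).subgroupMap _).symm).trans (MulEquiv.subgroupCongr nU)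
  rw [cnt_equiv i fun d => ¬ p ∣ d, ← classes_BS o]
  refine cnt_all fun χ h z => nd (z.trans ?_)
  have : (u.range.subgroupOf (BS F)).Normal := (Subgroup.normal_subgroupOf_iff_le_normalizer
    (nU ▸ Subgroup.le_normalizer)).2 nU.ge
  refine (h.dg_dvd_index (u.range.subgroupOf (BS F)) ?_).trans
    (Subgroup.relIndex_dvd_index_of_le (nU ▸ Subgroup.le_normalizer))
  rintro ⟨_, _⟩ ⟨a, rfl⟩ ⟨_, _⟩ ⟨b, rfl⟩
  exact Subtype.ext (show u a * u b = u b * u a by rw [← map_mul, mul_comm, map_mul])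

theorem Tor.cnt {B : Subgroup SL(2, F)} {n p : ℕ} {v : SL(2, F)} (h : Tor B n v) (hp : p.Prime) (p2 : p ≠ 2) :
    Nat.card {χ : IrrCharacter (nrm B) // ¬ p ∣ dg χ.1} = (n + 6) / 2 :=
  (cnt_all fun _ a z => p2 ((Nat.prime_dvd_prime_iff_eq hp Nat.prime_two).1
    (z.trans (dg_dvd_two (h.index le_rfl h.w_mem h.w_not) h.comm_sub a)))).trans h.classes_nrm

theorem cnt_odd {p : ℕ} (o : Odd qn) (h4 : 4 ≤ qn) : Nat.card {χ : IrrCharacter SL(2, F) // ¬ p ∣ dg χ.1} =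
    (if p ∣ 1 then 0 else 1) + ((if p ∣ qn then 0 else 1) + ((if p ∣ qn + 1 then 0 else (qn - 3) / 2) +
      ((if p ∣ qn - 1 then 0 else (qn - 1) / 2) + ((if p ∣ (qn + 1) / 2 then 0 else 2) +
        if p ∣ (qn - 1) / 2 then 0 else 2)))) := by
  obtain ⟨m, e⟩ := id o
  rw [cnt_dvd _ fun χ => sl_dg_odd χ.2, Finset.sum_insert (by simp <;> omega), Finset.sum_insert (by simp <;> omega),
    Finset.sum_insert (by simp <;> omega), Finset.sum_insert (by simp <;> omega), Finset.sum_pair (by omega)]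
  have c1 := cs_one h4; have c2 := cs_q (F := F); have c3 := cs_add h4 o; have c4 := cs_sub h4 o
  obtain ⟨c5, c6⟩ := cs_odd h4 o
  simp only [cs] at c1 c2 c3 c4 c5 c6
  rw [c1, c2, c3, c4, c5, c6]

open H9 in
omit [DecidableEq F] in
theorem cent_cong {p : ℕ} [hp : Fact p.Prime] [CharP F p] {M : Ideal AlgInt} [PMod p M] (h : Irr _ ψ) (d : ¬ p ∣ dg ψ)
    {c : ℂ} (k : ψ (-1) = c * ψ 1) (g : SL(2, F)) : (p ∣ (cen1 g).index ∧ centralChar ψ g ∈ LI M) ∨
      ((∃ b, IsConj (ub b) g) ∧ centralChar ψ g - (cen1 g).index ∈ LI M) ∨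
      ((∃ b, IsConj (-ub b) g) ∧ centralChar ψ g - c * (cen1 g).index ∈ LI M) := by
  have r1 : ψ 1 ∈ LR M := mem_LR_of_isIntegral (h.isCharacter.isIntegral _)
  have n1 : ψ 1 ∉ LI M := by rw [h.isCharacter.deg, natCast_mem_LI_iff]; exact d
  have z := h.deg_ne_zero
  have u : ∀ b, ψ (ub b) - ψ 1 ∈ LI M := fun b => by
    simpa using h.isGen.sub_mem_LI (M := M) (x := ub b) (y := 1) (by simp) (k := 1) (by simp [H4.ub_pow, ub_zero])
  have a1 : ∀ b, IsConj (ub b) g → centralChar ψ g - (cen1 g).index ∈ LI M := fun b m => by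
    convert div_mem_LI (LI_mul_left (natCast_mem (LR M) (cen1 g).index) (u b)) r1 n1 using 1
    rw [centralChar, ← h.isClassFunction.of_isConj m]; field_simp
  have a2 : ∀ b, IsConj (-ub b) g → centralChar ψ g - c * (cen1 g).index ∈ LI M := fun b m => by
    have cr : c ∈ LR M := by
      convert div_mem_LR (mem_LR_of_isIntegral (h.isCharacter.isIntegral (-1))) r1 n1 using 1
      rw [k]; field_simp
    convert div_mem_LI (LI_mul_left ((LR M).mul_mem cr (natCast_mem _ (cen1 g).index)) (u b)) r1 n1 using 1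
    rw [centralChar, ← h.isClassFunction.of_isConj m, neg_eq_mul, h.cent_mul (by simp) k]; field_simp
  by_cases c : p ∣ (cen1 g).index
  · exact .inl ⟨c, div_mem_LI (LI_mul_right ((natCast_mem_LI_iff _).2 c)
      (mem_LR_of_isIntegral (h.isCharacter.isIntegral _))) r1 n1⟩
  right
  obtain ⟨⟨x, m⟩, o⟩ := exists_prime_orderOf_dvd_card' (G := cen1 g) p ((hp.1.dvd_mul.1 (by
    rw [Subgroup.card_mul_index, H4.card_sl2, mul_assoc]; exact (H4.char_dvd_card p).mul_right _)).resolve_right c)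
  obtain ⟨b, n, v⟩ := H4.orderOf_eq_char_iff.1 ((Subgroup.orderOf_mk _ _).symm.trans o)
  obtain ⟨y, rfl⟩ := isConj_iff.1 v
  have w : y⁻¹ * g * y * ub b = ub b * (y⁻¹ * g * y) := by
    rw [show y⁻¹ * g * y * ub b = y⁻¹ * (g * (y * ub b * y⁻¹)) * y by group, ← H7.mem_cen1.1 m]; group
  have i : IsConj (y⁻¹ * g * y) g := isConj_iff.2 ⟨y, by group⟩
  generalize y⁻¹ * g * y = s at w i
  have t := fun i j => (H4.sl2_mul_apply s (ub b) i j).symm.trans ((congrArg (fun s : SL(2, F) => s.1 i j) w).trans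
    (H4.sl2_mul_apply _ s i j))
  have t0 := t 0 0; have t1 := t 0 1
  simp [ub, n] at t0 t1
  rcases ub_of_B t0 (mul_left_cancel₀ n (by linear_combination t1)) with l | l <;> rw [l] at i
  exacts [.inl ⟨⟨_, i⟩, a1 _ i⟩, .inr ⟨⟨_, i⟩, a2 _ i⟩]

omit [Fintype F] [DecidableEq F] in
theorem not_both (h2 : (2 : F) ≠ 0) {b c : F} {g : SL(2, F)} (a : IsConj (ub b) g) (d : IsConj (-ub c) g) : False := by
  obtain ⟨x, k⟩ := isConj_iff.1 (a.trans d.symm)
  have := H4.sl_trace_conj x (ub b)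
  rw [k] at this
  simp [H4.trace_ub] at this
  exact mul_ne_zero h2 h2 (by linear_combination -this)

open H9 in
omit [DecidableEq F] in
theorem same_block {p : ℕ} [hp : Fact p.Prime] [CharP F p] {M : Ideal AlgInt} [PMod p M] (h2 : (2 : F) ≠ 0)
    (h : Irr _ ψ) (d : ¬ p ∣ dg ψ) (h' : Irr _ χ) (d' : ¬ p ∣ dg χ) {c : ℂ} (k : ψ (-1) = c * ψ 1) (k' : χ (-1) = c * χ 1) :
    SameBlock M ψ χ := fun g => mem_LI.1 (by
  have cr : c ∈ LR M := by
    rcases h.cent_sign (z := -1) (by simp) (by simp) with z | z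
    · rw [mul_right_cancel₀ h.deg_ne_zero (k.symm.trans (z.trans (one_mul _).symm))]; exact one_mem _
    · rw [mul_right_cancel₀ h.deg_ne_zero (k.symm.trans (z.trans (neg_one_mul _).symm))]; exact neg_mem (one_mem _)
  have i : p ∣ (cen1 g).index → ((cen1 g).index : ℂ) ∈ LI M := (natCast_mem_LI_iff _).2
  rcases cent_cong (M := M) h d k g with ⟨a, b⟩ | ⟨⟨_, a⟩, b⟩ | ⟨⟨_, a⟩, b⟩ <;>
    rcases cent_cong (M := M) h' d' k' g with ⟨a', b'⟩ | ⟨⟨_, a'⟩, b'⟩ | ⟨⟨_, a'⟩, b'⟩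
  · exact sub_mem b b'
  · simpa using sub_mem (sub_mem b (i a)) b'
  · simpa using sub_mem (sub_mem b (LI_mul_left cr (i a))) b'
  · simpa using sub_mem (add_mem b (i a')) b'
  · simpa using sub_mem b b'
  · exact (not_both h2 a a').elim
  · simpa using sub_mem (add_mem b (LI_mul_left cr (i a'))) b'
  · exact (not_both h2 a' a).elim
  · simpa using sub_mem b b')

open H9 in
theorem not_same_st {p : ℕ} [hp : Fact p.Prime] [CharP F p] {M : Ideal AlgInt} [PMod p M] (h2 : (2 : F) ≠ 0)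
    (h : Irr _ ψ) (d : ¬ p ∣ dg ψ) : ¬ SameBlock M ψ (rs (st 1)) := fun z => by
  have z := mem_LI.2 (z (ub 1))
  rw [show centralChar (rs (st 1)) (ub (1 : F)) = 0 by simp [centralChar, st_ub], sub_zero] at z
  have n : ¬ p ∣ (cen1 (ub (1 : F))).index := fun v => by
    have := H4.card_class_ub (F := F) one_ne_zero
    rw [H4.card_carrier_mk] at this
    have a := (H4.char_dvd_card (F := F) p).trans (dvd_pow_self _ two_ne_zero)
    have b := Nat.dvd_sub a (this ▸ v.mul_left _)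
    rw [Nat.sub_sub_self (Nat.one_le_pow _ _ Nat.card_pos)] at b
    exact hp.1.not_dvd_one b
  rcases cent_cong (M := M) h d (c := ψ (-1) / ψ 1) (by have := h.deg_ne_zero; field_simp) (ub 1) with
    ⟨a, -⟩ | ⟨-, b⟩ | ⟨⟨_, a⟩, -⟩
  · exact n a
  · exact n ((natCast_mem_LI_iff _).1 (by simpa using sub_mem z b))
  · exact not_both h2 (IsConj.refl _) a

open H9 in
omit [Fintype F] [DecidableEq F] in
theorem not_same_sign {p : ℕ} {M : Ideal AlgInt} [PMod p M] (p2 : p ≠ 2) (h : Irr _ ψ) (h' : Irr _ χ)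
    (k : ψ (-1) = ψ 1) (k' : χ (-1) = -χ 1) : ¬ SameBlock M ψ χ := fun z => by
  have z := mem_LI.2 (z (-1))
  have t : cen1 (-1 : SL(2, F)) = ⊤ := eq_top_iff.2 fun x _ => H7.mem_cen1.2 (by simp)
  simp only [centralChar, t, k, k', Subgroup.index_top, Nat.cast_one, one_mul, neg_div, div_self h.deg_ne_zero,
    div_self h'.deg_ne_zero] at z
  exact p2 ((Nat.prime_dvd_prime_iff_eq (PMod.prime M) Nat.prime_two).1 ((natCast_mem_LI_iff 2).1 (by
    convert z using 1; norm_num)))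

end G2
end
end H3
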