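import Mathlib
import Cfsg.Agent.H3.IndHom

/-! Frobenius' commutation theorem for finite unitary groups and the abelian normal subgroup of
Jordan's theorem. -/

open Cfsg
open scoped ComplexConjugate commutatorElement

set_option maxSynthPendingDepth 3
set_option linter.unusedSectionVars false

namespace H3
open H3

noncomputable section

theorem sum_lin_apply {H : Type*} [Group H] [Finite H] (hc : ∀ a b : H, a * b = b * a) {h : H}
    (h1 : h ≠ 1) : ∑ l : H →* ℂˣ, (l h : ℂ) = 0 := by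
  obtain ⟨l₀, hl⟩ : ∃ l₀ : H →* ℂˣ, (l₀ h : ℂ) ≠ 1 := by
    by_contra hc'
    push Not at hc'
    refine h1 (eq_one_of_forall_irr fun χ hχ => ?_)
    obtain ⟨l, rfl⟩ := hχ.exists_lin_of_comm hc
    simp [hc' l]
  have := Equiv.sum_comp (Equiv.mulLeft l₀) fun l : H →* ℂˣ => (l h : ℂ)
  simp only [Equiv.coe_mulLeft, MonoidHom.mul_apply, Units.val_mul, ← Finset.mul_sum] at this
  by_contra h0
  exact hl (mul_right_cancel₀ h0 (by rw [this, one_mul]))

section Alg
variable {H : Type*} [Group H] [Fintype H] {𝒜 : Type*} [Ring 𝒜] [Algebra ℂ 𝒜]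

def prj (U : H →* 𝒜) (l : H →* ℂˣ) : 𝒜 := (Nat.card H : ℂ)⁻¹ • ∑ h, (l h⁻¹ : ℂ) • U h

theorem mul_prj (U : H →* 𝒜) (l : H →* ℂˣ) (x : H) : U x * prj U l = (l x : ℂ) • prj U l := by
  rw [prj, mul_smul_comm, smul_comm (l x : ℂ)]
  congr 1
  rw [Finset.mul_sum, Finset.smul_sum,
    ← Equiv.sum_comp (Equiv.mulLeft x) fun h => (l x : ℂ) • (l h⁻¹ : ℂ) • U h]
  refine Finset.sum_congr rfl fun h _ => ?_
  simp only [Equiv.coe_mulLeft, mul_smul_comm, smul_smul, ← map_mul, ← Units.val_mul]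
  congr 2
  rw [mul_inv_rev, map_mul, map_mul, map_inv l x, mul_comm (l h⁻¹), mul_inv_cancel_left]

theorem prj_mul_prj (U : H →* 𝒜) (l : H →* ℂˣ) : prj U l * prj U l = prj U l := by
  have h0 : (Nat.card H : ℂ) ≠ 0 := by exact_mod_cast Nat.card_pos.ne'
  conv_lhs => rw [prj, smul_mul_assoc, Finset.sum_mul]
  simp only [smul_mul_assoc, ← prj.eq_1, mul_prj, smul_smul, ← Units.val_mul, ← map_mul,
    inv_mul_cancel, map_one, Units.val_one, one_smul, Finset.sum_const, Finset.card_univ,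
    ← Nat.card_eq_fintype_card, ← Nat.cast_smul_eq_nsmul ℂ, inv_mul_cancel₀ h0]

theorem sum_prj (U : H →* 𝒜) (hc : ∀ a b : H, a * b = b * a) : ∑ l, prj U l = 1 := by
  have h0 : (Nat.card H : ℂ) ≠ 0 := by exact_mod_cast Nat.card_pos.ne'
  simp only [prj, ← Finset.smul_sum]
  rw [Finset.sum_comm, Finset.sum_eq_single 1]
  · simp only [inv_one, map_one, Units.val_one, one_smul, Finset.sum_const, Finset.card_univ,
      ← Nat.card_eq_fintype_card, card_lin_of_comm' hc, ← Nat.cast_smul_eq_nsmul ℂ, smul_smul,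
      inv_mul_cancel₀ h0]
  · intro h _ h1
    rw [← Finset.sum_smul, sum_lin_apply hc (inv_ne_one.2 h1), zero_smul]
  · simp

theorem eq_sum_prj (U : H →* 𝒜) (hc : ∀ a b : H, a * b = b * a) (x : H) :
    U x = ∑ l : H →* ℂˣ, (l x : ℂ) • prj U l := by
  simp only [← mul_prj, ← Finset.mul_sum, sum_prj U hc, mul_one]

theorem commute_prj (U : H →* 𝒜) (l : H →* ℂˣ) {X : 𝒜} (h : ∀ x, Commute X (U x)) :
    Commute X (prj U l) :=
  (Commute.sum_right _ _ _ fun x _ => (h x).smul_right _).smul_right _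

end Alg

section Normed
variable {G : Type*} [Group G] {𝒜 : Type*} [NormedRing 𝒜] [NormedAlgebra ℂ 𝒜]

theorem norm_prj_le {H : Type*} [Group H] [Fintype H] {U : H →* 𝒜} (hU : ∀ g, ‖U g‖ ≤ 1)
    (l : H →* ℂˣ) : ‖prj U l‖ ≤ 1 := by
  have h0 : (0 : ℝ) < Nat.card H := by exact_mod_cast Nat.card_pos
  rw [prj, norm_smul, norm_inv, Complex.norm_natCast, inv_mul_le_iff₀ h0, mul_one]
  refine (norm_sum_le _ _).trans ((Finset.sum_le_sum (g := fun _ => (1 : ℝ)) fun h _ => ?_).trans ?_)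
  · rw [norm_smul, norm_lin, one_mul]; exact hU h
  · simp

theorem norm_comm_le (X Y : 𝒜) (c d : ℂ) :
    ‖X * Y - Y * X‖ ≤ 2 * ‖X - algebraMap ℂ 𝒜 c‖ * ‖Y - algebraMap ℂ 𝒜 d‖ := by
  have : X * Y - Y * X = (X - algebraMap ℂ 𝒜 c) * (Y - algebraMap ℂ 𝒜 d) -
      (Y - algebraMap ℂ 𝒜 d) * (X - algebraMap ℂ 𝒜 c) := by
    simp only [mul_sub, sub_mul, Algebra.commutes c Y, Algebra.commutes d X,
      Algebra.commutes c (algebraMap ℂ 𝒜 d)]
    abel
  rw [this]
  refine (norm_sub_le _ _).trans ?_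
  have h1 := norm_mul_le (X - algebraMap ℂ 𝒜 c) (Y - algebraMap ℂ 𝒜 d)
  have h2 := norm_mul_le (Y - algebraMap ℂ 𝒜 d) (X - algebraMap ℂ 𝒜 c)
  linarith

def Near (U : G →* 𝒜) (g : G) : Prop := ∃ c : ℂ, ‖U g - algebraMap ℂ 𝒜 c‖ < 1 / 2

variable {U : G →* 𝒜}

theorem Near.conj (hU : ∀ g, ‖U g‖ ≤ 1) {g : G} (h : Near U g) (x : G) :
    Near U (x * g * x⁻¹) := by
  obtain ⟨c, hc⟩ := h
  refine ⟨c, lt_of_le_of_lt ?_ hc⟩
  have : U (x * g * x⁻¹) - algebraMap ℂ 𝒜 c = U x * (U g - algebraMap ℂ 𝒜 c) * U x⁻¹ := by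
    rw [mul_sub, sub_mul, ← Algebra.commutes c (U x), mul_assoc (algebraMap ℂ 𝒜 c), ← map_mul,
      ← map_mul, ← map_mul, mul_inv_cancel, map_one, mul_one]
  rw [this]
  refine (norm_mul_le _ _).trans ((mul_le_of_le_one_right (norm_nonneg _) (hU _)).trans ?_)
  exact (norm_mul_le _ _).trans (mul_le_of_le_one_left (norm_nonneg _) (hU _))

theorem norm_commutator_le (hU : ∀ g, ‖U g‖ ≤ 1) (a b : G) (c d : ℂ) :
    ‖U (a * b * a⁻¹ * b⁻¹) - algebraMap ℂ 𝒜 1‖ ≤
      2 * ‖U a - algebraMap ℂ 𝒜 c‖ * ‖U b - algebraMap ℂ 𝒜 d‖ := by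
  have : U (a * b * a⁻¹ * b⁻¹) - algebraMap ℂ 𝒜 1 = (U a * U b - U b * U a) * U (a⁻¹ * b⁻¹) := by
    simp only [sub_mul, ← map_mul, map_one]
    congr 2
    · group
    · rw [← map_one U]; congr 1; group
  rw [this]
  exact (norm_mul_le _ _).trans ((mul_le_of_le_one_right (norm_nonneg _) (hU _)).trans
    (norm_comm_le _ _ c d))

theorem Near.commute_of_conj [Finite G] (hU : ∀ g, ‖U g‖ ≤ 1) (inj : Function.Injective U)
    {a b : G} (hb : Near U b) (h : Commute a (b * a * b⁻¹)) : Commute a b := by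
  obtain ⟨c, hc⟩ := hb
  haveI := Fintype.ofFinite (Subgroup.zpowers a)
  set V := U.comp (Subgroup.zpowers a).subtype with hV
  have key : ∀ l, Commute (U b) (prj V l) := by
    intro l
    set E := prj V l with hE
    have hEE : E * E = E := prj_mul_prj V l
    have hb1 : U b⁻¹ * U b = 1 := by rw [← map_mul, inv_mul_cancel, map_one]
    set F := U b * E * U b⁻¹ with hF
    have hFF : F * F = F := by
      rw [hF, mul_assoc, mul_assoc (U b) E (U b⁻¹), ← mul_assoc (U b⁻¹), hb1, one_mul, mul_assoc,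
        ← mul_assoc E, hEE]
    have hEF : Commute F E := commute_prj V l fun x => by
      have : ∀ y, Commute (U b⁻¹ * V x * U b) (V y) := fun y => by
        obtain ⟨x, i, rfl⟩ := x
        obtain ⟨y, j, rfl⟩ := y
        have h2 : Commute (b⁻¹ * a * b) a := by
          have := h.map (MulAut.conj b⁻¹)
          simpa [mul_assoc] using this
        have h3 : Commute (b⁻¹ * a ^ i * b) (a ^ j) := by
          have := (h2.zpow_left i).zpow_right j
          rwa [show b⁻¹ * a * b = b⁻¹ * a * b⁻¹⁻¹ by simp, conj_zpow, inv_inv] at this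
        simpa [hV] using h3.map U
      have h4 := commute_prj V l this
      have hb2 : U b * U b⁻¹ = 1 := by rw [← map_mul, mul_inv_cancel, map_one]
      change U b * E * U b⁻¹ * V x = V x * (U b * E * U b⁻¹)
      calc U b * E * U b⁻¹ * V x = U b * (E * (U b⁻¹ * V x * U b)) * U b⁻¹ := by
            simp only [mul_assoc, hb2, mul_one]
        _ = U b * (U b⁻¹ * V x * U b * E) * U b⁻¹ := by rw [← hE] at h4; rw [h4.eq]
        _ = _ := by simp only [← mul_assoc, hb2, one_mul]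
    have h3 : (E - F) * (E - F) * (E - F) = E - F := by
      simp only [mul_sub, sub_mul, hEE, hFF, hEF.eq, mul_assoc, ← mul_assoc E E]
      abel
    have h5 : ‖E - F‖ < 1 := by
      have : E - F = (E * U b - U b * E) * U b⁻¹ := by
        rw [sub_mul, mul_assoc E, ← map_mul, mul_inv_cancel, map_one, mul_one]
      rw [this]
      refine lt_of_le_of_lt ((norm_mul_le _ _).trans ((mul_le_of_le_one_right (norm_nonneg _)
        (hU _)).trans (norm_comm_le _ _ 0 c))) ?_
      rw [map_zero, sub_zero]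
      have h6 : ‖E‖ ≤ 1 := norm_prj_le (U := V) (fun g => hU _) l
      nlinarith [norm_nonneg E, norm_nonneg (U b - algebraMap ℂ 𝒜 c)]
    have h6 : E - F = 0 := by
      by_contra h0
      have h7 := norm_pos_iff.2 h0
      have h8 : ‖E - F‖ ≤ ‖E - F‖ * ‖E - F‖ * ‖E - F‖ := by
        conv_lhs => rw [← h3]
        exact (norm_mul_le _ _).trans (mul_le_mul_of_nonneg_right (norm_mul_le _ _) h7.le)
      nlinarith [mul_pos h7 h7]
    change U b * E = E * U b
    conv_rhs => rw [sub_eq_zero.1 h6, hF, mul_assoc, hb1, mul_one]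
  have h2 := eq_sum_prj V (fun x y => mul_comm' x y) ⟨a, Subgroup.mem_zpowers a⟩
  have h3 : Commute (U b) (U a) := by
    change U a = _ at h2
    rw [h2]
    exact Commute.sum_right _ _ _ fun l _ => (key l).smul_right _
  exact inj (by rw [map_mul, map_mul, h3.eq])

/-- Frobenius' theorem. -/
theorem Near.commute [Finite G] (hU : ∀ g, ‖U g‖ ≤ 1) (inj : Function.Injective U)
    {a b : G} (ha : Near U a) (hb : Near U b) : Commute a b := by
  by_contra hab
  obtain ⟨b, ⟨h1, h2⟩, hmin⟩ := Set.exists_min_image {b | Near U b ∧ ¬ Commute a b}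
    (fun b => ‖U b - algebraMap ℂ 𝒜 1‖) (Set.toFinite _) ⟨b, hb, hab⟩
  obtain ⟨c, hc⟩ := ha
  obtain ⟨d, hd⟩ := id h1
  have h3 : Near U (a * b * a⁻¹ * b⁻¹) := ⟨1, lt_of_le_of_lt (norm_commutator_le hU a b c d) (by
    nlinarith [norm_nonneg (U a - algebraMap ℂ 𝒜 c), norm_nonneg (U b - algebraMap ℂ 𝒜 d)])⟩
  have h4 : 0 < ‖U b - algebraMap ℂ 𝒜 1‖ := norm_pos_iff.2 fun e => h2 (by
    rw [map_one, ← map_one U, sub_eq_zero] at e
    rw [inj e]; exact Commute.one_right a)
  have h5 : Commute a (a * b * a⁻¹ * b⁻¹) := by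
    by_contra h6
    have := (hmin _ ⟨h3, h6⟩).trans (norm_commutator_le hU a b c 1)
    nlinarith
  refine h2 (h1.commute_of_conj hU inj ?_)
  have h6 := ((Commute.refl a).inv_right.mul_right h5).inv_right
  simpa [mul_assoc] using h6

end Normed

section Unit
variable {G : Type*} [Group G] [Fintype G] {n : ℕ}

/-- The space of a representation with an invariant inner product. -/
def US (_ρ : Representation ℂ G (Fin n → ℂ)) : Type := Fin n → ℂ

variable (ρ : Representation ℂ G (Fin n → ℂ))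

instance : AddCommGroup (US ρ) := inferInstanceAs (AddCommGroup (Fin n → ℂ))
instance : Module ℂ (US ρ) := inferInstanceAs (Module ℂ (Fin n → ℂ))
instance : FiniteDimensional ℂ (US ρ) := inferInstanceAs (FiniteDimensional ℂ (Fin n → ℂ))

def usL (g : G) : US ρ →ₗ[ℂ] (Fin n → ℂ) := ρ g

@[instance_reducible] def usCore : InnerProductSpace.Core ℂ (US ρ) where
  inner v w := ∑ g, ∑ i, conj (usL ρ g v i) * usL ρ g w i
  conj_inner_symm v w := by simp [mul_comm]
  re_inner_nonneg v := by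
    simp only [Complex.conj_mul', map_sum]
    exact Finset.sum_nonneg fun g _ => Finset.sum_nonneg fun i _ => by
      rw [← Complex.ofReal_pow]; exact (Complex.ofReal_re _).ge.trans' (sq_nonneg _)
  add_left u v w := by simp [add_mul, Finset.sum_add_distrib]
  smul_left v w c := by simp [Finset.mul_sum, mul_assoc]
  definite v h := by
    simp only [Complex.conj_mul', ← Complex.ofReal_pow, ← Complex.ofReal_sum,
      Complex.ofReal_eq_zero] at h
    rw [Finset.sum_eq_zero_iff_of_nonneg fun g _ => by positivity] at h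
    have h1 := h 1 (Finset.mem_univ _)
    rw [Finset.sum_eq_zero_iff_of_nonneg fun g _ => by positivity] at h1
    funext i
    have h2 := h1 i (Finset.mem_univ _)
    have h3 : usL ρ 1 v i = 0 := by simpa using h2
    rwa [usL, map_one] at h3

instance : NormedAddCommGroup (US ρ) := (usCore ρ).toNormedAddCommGroup
instance : InnerProductSpace ℂ (US ρ) := InnerProductSpace.ofCore (usCore ρ).toCore

def usE (g : G) : US ρ →ₗ[ℂ] US ρ := ρ g

def usU : G →* (US ρ →L[ℂ] US ρ) where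
  toFun g := LinearMap.toContinuousLinearMap (usE ρ g)
  map_one' := by ext v; exact LinearMap.congr_fun (map_one ρ) v
  map_mul' a b := by ext v; exact LinearMap.congr_fun (map_mul ρ a b) v

theorem inner_usU (g : G) (v w : US ρ) : inner ℂ (usU ρ g v) (usU ρ g w) = inner ℂ v w := by
  change ∑ x, ∑ i, conj (ρ x (ρ g v) i) * ρ x (ρ g w) i = ∑ x, ∑ i, conj (ρ x v i) * ρ x w i
  rw [← Equiv.sum_comp (Equiv.mulRight g) fun x => ∑ i, conj (ρ x v i) * ρ x w i]
  simp only [Equiv.coe_mulRight, map_mul]; rfl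

theorem norm_usU (g : G) : ‖usU ρ g‖ ≤ 1 :=
  ContinuousLinearMap.opNorm_le_bound _ zero_le_one fun v => by
    rw [one_mul, norm_eq_sqrt_re_inner (𝕜 := ℂ), inner_usU, ← norm_eq_sqrt_re_inner]

theorem usU_injective (h : Function.Injective ρ) : Function.Injective (usU ρ) := fun a b e =>
  h (LinearMap.ext fun v => congrArg (fun T : US ρ →L[ℂ] US ρ => T v) e)

end Unit

section Hilb
variable {E : Type*} [NormedAddCommGroup E] [InnerProductSpace ℂ E]
  {H : Type*} [Group H] [Fintype H] {U : H →* (E →L[ℂ] E)}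

theorem inner_prj (hU : ∀ g v w, inner ℂ (U g v) (U g w) = inner ℂ v w) {l m : H →* ℂˣ}
    (h : l ≠ m) (v w : E) : inner ℂ (prj U l v) (prj U m w) = 0 := by
  obtain ⟨x, hx⟩ := DFunLike.ne_iff.1 h
  have h1 := hU x (prj U l v) (prj U m w)
  rw [← ContinuousLinearMap.mul_apply, ← ContinuousLinearMap.mul_apply, mul_prj, mul_prj,
    ContinuousLinearMap.smul_apply, ContinuousLinearMap.smul_apply, _root_.inner_smul_left,
    _root_.inner_smul_right, conj_lin, ← mul_assoc] at h1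
  by_contra h0
  have h2 := mul_right_cancel₀ h0 (h1.trans (one_mul _).symm)
  rw [inv_mul_eq_one₀ (Units.ne_zero _)] at h2
  exact hx (Units.ext h2)

theorem norm_sum_sq_orth {ι : Type*} (s : Finset ι) (w : ι → E)
    (h : ∀ i j, i ≠ j → inner ℂ (w i) (w j) = 0) : ‖∑ i ∈ s, w i‖ ^ 2 = ∑ i ∈ s, ‖w i‖ ^ 2 := by
  rw [← inner_self_eq_norm_sq (𝕜 := ℂ), sum_inner, map_sum]
  refine Finset.sum_congr rfl fun i hi => ?_
  rw [inner_sum, Finset.sum_eq_single i (fun j _ hj => h i j hj.symm) fun h => absurd hi h,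
    inner_self_eq_norm_sq]

theorem norm_sub_le_of_prj (hU : ∀ g v w, inner ℂ (U g v) (U g w) = inner ℂ v w)
    (hc : ∀ a b : H, a * b = b * a) (x : H) (c : ℂ) {r : ℝ} (hr : 0 ≤ r)
    (h : ∀ l, prj U l ≠ 0 → ‖(l x : ℂ) - c‖ ≤ r) : ‖U x - algebraMap ℂ _ c‖ ≤ r := by
  refine ContinuousLinearMap.opNorm_le_bound _ hr fun v => ?_
  have h1 : U x - algebraMap ℂ _ c = ∑ l : H →* ℂˣ, ((l x : ℂ) - c) • prj U l := by
    simp only [sub_smul, Finset.sum_sub_distrib, ← eq_sum_prj U hc, ← Finset.smul_sum,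
      sum_prj U hc, Algebra.algebraMap_eq_smul_one]
  have h2 : v = ∑ l : H →* ℂˣ, prj U l v := by
    rw [← ContinuousLinearMap.sum_apply, sum_prj U hc, ContinuousLinearMap.one_apply]
  rw [← sq_le_sq₀ (norm_nonneg _) (by positivity), h1, ContinuousLinearMap.sum_apply,
    norm_sum_sq_orth _ _ fun i j hij => by
      simp [_root_.inner_smul_left, _root_.inner_smul_right, inner_prj hU hij], mul_pow]
  conv_rhs => rw [h2, norm_sum_sq_orth _ _ fun i j hij => inner_prj hU hij v v, Finset.mul_sum]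
  refine Finset.sum_le_sum fun l _ => ?_
  rw [ContinuousLinearMap.smul_apply, norm_smul, mul_pow]
  rcases eq_or_ne (prj U l) 0 with e | e
  · simp [e]
  · exact mul_le_mul_of_nonneg_right (pow_le_pow_left₀ (norm_nonneg _) (h l e) 2) (by positivity)

theorem card_prj_le [FiniteDimensional ℂ E]
    (hU : ∀ g v w, inner ℂ (U g v) (U g w) = inner ℂ v w) :
    Nat.card {l // prj U l ≠ 0} ≤ Module.finrank ℂ E := by
  have : ∀ l : {l // prj U l ≠ 0}, ∃ v, prj U l v ≠ 0 := fun l => by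
    by_contra h
    push Not at h
    exact l.2 (ContinuousLinearMap.ext h)
  choose v hv using this
  haveI := Fintype.ofFinite {l // prj U l ≠ 0}
  rw [Nat.card_eq_fintype_card]
  exact (linearIndependent_of_ne_zero_of_inner_eq_zero (𝕜 := ℂ) hv
    fun i j hij => inner_prj hU (fun e => hij (Subtype.ext e)) _ _).fintype_card_le_finrank

end Hilb

/-- Index of the arc of length `π/6` containing `z`. -/
def arcIx (z : ℂ) : Fin 12 :=
  ⟨⌊(Real.pi - z.arg) * 6 / Real.pi⌋₊, by
    rw [Nat.floor_lt' (by norm_num), div_lt_iff₀ Real.pi_pos]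
    have := Complex.neg_pi_lt_arg z
    push_cast; linarith⟩

theorem near_of_arcIx {u v : ℂ} (hu : ‖u‖ = 1) (hv : ‖v‖ = 1) (h : arcIx u = arcIx v) :
    ‖u * v⁻¹ - (√3 / 2 : ℝ)‖ < 1 / 2 := by
  have hp := Real.pi_pos
  have h0 : ∀ z : ℂ, 0 ≤ (Real.pi - z.arg) * 6 / Real.pi := fun z => by
    have := Complex.arg_le_pi z
    have : 0 ≤ Real.pi - z.arg := by linarith
    positivity
  have e : ⌊(Real.pi - u.arg) * 6 / Real.pi⌋₊ = ⌊(Real.pi - v.arg) * 6 / Real.pi⌋₊ :=
    congrArg Fin.val h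
  have a1 := Nat.floor_le (h0 u)
  have a2 := Nat.lt_floor_add_one ((Real.pi - u.arg) * 6 / Real.pi)
  have b1 := Nat.floor_le (h0 v)
  have b2 := Nat.lt_floor_add_one ((Real.pi - v.arg) * 6 / Real.pi)
  rw [e] at a1 a2
  rw [le_div_iff₀ hp] at a1 b1
  rw [div_lt_iff₀ hp] at a2 b2
  have h1 : |u.arg - v.arg| < Real.pi / 6 := abs_lt.2 ⟨by linarith, by linarith⟩
  have h2 : √3 / 2 < Real.cos (u.arg - v.arg) := by
    rw [← Real.cos_pi_div_six, ← Real.cos_abs (u.arg - v.arg)]
    exact Real.cos_lt_cos_of_nonneg_of_le_pi (abs_nonneg _) (by linarith) h1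
  have h3 : u * v⁻¹ = Complex.exp ((u.arg - v.arg : ℝ) * Complex.I) := by
    conv_lhs => rw [← Complex.norm_mul_exp_arg_mul_I u, ← Complex.norm_mul_exp_arg_mul_I v]
    rw [hu, hv, Complex.ofReal_one, one_mul, one_mul, ← Complex.exp_neg, ← Complex.exp_add]
    congr 1; push_cast; ring
  rw [← sq_lt_sq₀ (norm_nonneg _) (by norm_num), ← Complex.normSq_eq_norm_sq, h3,
    Complex.normSq_apply]
  simp only [Complex.sub_re, Complex.sub_im, Complex.exp_ofReal_mul_I_re,
    Complex.exp_ofReal_mul_I_im, Complex.ofReal_re, Complex.ofReal_im, sub_zero]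
  have h4 := Real.cos_sq_add_sin_sq (u.arg - v.arg)
  have h5 : √3 * √3 = 3 := Real.mul_self_sqrt (by norm_num)
  have h6 : 0 < √3 := by positivity
  nlinarith

theorem exists_lt_bound {ι : Type*} (s : Finset ι) (f : ι → ℝ) {c : ℝ} (hc : 0 < c)
    (h : ∀ i ∈ s, f i < c) : ∃ r, 0 ≤ r ∧ r < c ∧ ∀ i ∈ s, f i ≤ r := by
  rcases s.eq_empty_or_nonempty with rfl | hs
  · exact ⟨0, le_rfl, hc, by simp⟩
  · obtain ⟨i, hi, hm⟩ := s.exists_max_image f hs
    exact ⟨max 0 (f i), le_max_left _ _, max_lt hc (h i hi), fun j hj => le_max_of_le_right (hm j hj)⟩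

theorem jordan_abelian {G : Type*} [Group G] [Finite G] {χ : G → ℂ} (hχ : IsCharacter G χ)
    (hf : ∀ g, χ g = χ 1 → g = 1) {n : ℕ} (hn : χ 1 = n) :
    ∃ A : Subgroup G, A.Normal ∧ (∀ x ∈ A, ∀ y ∈ A, x * y = y * x) ∧ ∀ H : Subgroup G,
      (∀ x ∈ H, ∀ y ∈ H, x * y = y * x) → (A.subgroupOf H).index ≤ 12 ^ n := by
  classical
  haveI := Fintype.ofFinite G
  obtain ⟨m, ρ, rfl⟩ := hχ
  obtain rfl : m = n := by simpa using hn
  have inj : Function.Injective ρ := (injective_iff_map_eq_one ρ).2 fun g hg => hf g (by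
    simp [Representation.character, hg])
  have hU := norm_usU ρ
  have inj' := usU_injective ρ inj
  refine ⟨Subgroup.closure {g | Near (usU ρ) g}, ⟨fun x hx g => ?_⟩, fun x hx y hy => ?_,
    fun H hH => ?_⟩
  · refine Subgroup.closure_induction (fun x hx => Subgroup.subset_closure (hx.conj hU g))
      (by simp) (fun x y _ _ h1 h2 => ?_) (fun x _ h => ?_) hx
    · simpa [mul_assoc] using mul_mem h1 h2
    · simpa [mul_assoc] using inv_mem h
  · exact Subgroup.closure_induction₂ (p := fun x y _ _ => Commute x y)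
      (fun x y hx hy => hx.commute hU inj' hy) (fun _ _ => Commute.one_left _)
      (fun _ _ => Commute.one_right _) (fun _ _ _ _ _ _ h1 h2 => h1.mul_left h2)
      (fun _ _ _ _ _ _ h1 h2 => h1.mul_right h2) (fun _ _ _ _ h => h.inv_left)
      (fun _ _ _ _ h => h.inv_right) hx hy
  set V := (usU ρ).comp H.subtype with hV
  have hc : ∀ a b : H, a * b = b * a := fun a b => Subtype.ext (hH _ a.2 _ b.2)
  have hi : ∀ g v w, inner ℂ (V g v) (V g w) = inner ℂ v w := fun g => inner_usU ρ _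
  have hcard : Nat.card {l // prj V l ≠ 0} ≤ m :=
    (card_prj_le hi).trans (Module.finrank_fin_fun ℂ).le
  let f : H → {l // prj V l ≠ 0} → Fin 12 := fun h l => arcIx (l.1 h⁻¹)
  refine (Nat.card_le_card_of_injective (fun q => f q.out) fun q r e => ?_).trans ?_
  · rw [← q.out_eq, ← r.out_eq]
    refine Quotient.sound (QuotientGroup.leftRel_apply.2 (Subgroup.subset_closure ?_))
    obtain ⟨s, h0, h1, h2⟩ := exists_lt_bound (Finset.univ : Finset {l // prj V l ≠ 0})
      (fun l => ‖(l.1 (q.out⁻¹ * r.out) : ℂ) - (√3 / 2 : ℝ)‖) (c := 1 / 2) (by norm_num)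
      fun l _ => by
        have := near_of_arcIx (norm_lin _ _) (norm_lin _ _) (congrFun e l)
        simpa using this
    exact ⟨_, (norm_sub_le_of_prj hi hc _ _ h0 fun l hl =>
      h2 ⟨l, hl⟩ (Finset.mem_univ _)).trans_lt h1⟩
  · rw [Nat.card_fun, Nat.card_eq_fintype_card, Fintype.card_fin]
    exact Nat.pow_le_pow_right (by norm_num) hcard

end
end H3
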