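import Mathlib
import Cfsg.Agent.H3.Jord
import Cfsg.Agent.H3.Deg
import Cfsg.Agent.H7.Hall

/-! Blichfeldt's abelian Hall subgroup and Jordan's bound. -/

open Cfsg H7
open scoped ComplexConjugate commutatorElement

set_option maxSynthPendingDepth 3
set_option linter.unusedSectionVars false

namespace H3
open H3
open H2 (IsSylowIn exists_isSylowIn cj)

noncomputable section
variable {G : Type*} [Group G] {χ ψ : G → ℂ} {p q n : ℕ}

theorem _root_.Cfsg.IsCharacter.eq_deg_of_const [Fintype G] (h : Ch G χ) {g : G}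
    (H : ∀ ψ, Irr G ψ → ⟪χ, ψ⟫ ≠ 0 → ψ g = ψ 1) : χ g = χ 1 := by
  obtain ⟨m, h1, h2⟩ := h.exists_coeff
  rw [h2, Finset.sum_apply, Finset.sum_apply]
  refine Finset.sum_congr rfl fun ψ _ => ?_
  rcases eq_or_ne (m ψ) 0 with e | e
  · simp [e]
  · simp [H _ ψ.2 (by rw [h1]; exact_mod_cast e)]

theorem exists_pow_coprime {x z : G} (hp : p.Prime) (hx : orderOf x = p)
    (hz : z ∈ Subgroup.zpowers x) (h1 : z ≠ 1) : ∃ k : ℕ, k.Coprime p ∧ z = x ^ k := by
  obtain ⟨k, rfl⟩ := (orderOf_pos_iff.1 (hx ▸ hp.pos)).mem_powers_iff_mem_zpowers.2 hz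
  refine ⟨k, (Nat.coprime_comm.1 (hp.coprime_iff_not_dvd.2 fun h => h1 ?_)), rfl⟩
  exact orderOf_dvd_iff_pow_eq_one.1 (hx ▸ h)

/-- A character of degree `< p - 1` that is rational at an element of order `p` has it in its
kernel. -/
theorem _root_.Cfsg.IsCharacter.eq_deg_of_rat [Finite G] (h : Ch G ψ) (hp : p.Prime) {d : ℕ}
    (hd : ψ 1 = d) (hlt : d + 1 < p) {x : G} (hx : orderOf x = p)
    (e : ∀ k : ℕ, k.Coprime p → ψ (x ^ k) = ψ x) : ψ x = ψ 1 := by
  classical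
  obtain ⟨c, hc⟩ := h.isGen.exists_int_of_pow (g := x) (by rwa [hx])
  haveI := Fintype.ofFinite (Subgroup.zpowers x)
  obtain ⟨a, ha⟩ := (h.res (Subgroup.zpowers x)).inner_nat isCharacter_one
  have hc' : Nat.card (Subgroup.zpowers x) = p := by rw [Nat.card_zpowers, hx]
  rw [inner_one_right, ← Finset.add_sum_erase _ _ (Finset.mem_univ 1),
    Finset.sum_congr rfl (g := fun _ => (c : ℂ)) fun z hz => by
      obtain ⟨k, h1, h2⟩ := exists_pow_coprime hp hx z.2
        fun e => (Finset.mem_erase.1 hz).1 (Subtype.ext e)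
      rw [h2, e k h1, hc], Finset.sum_const, Finset.card_erase_of_mem (Finset.mem_univ _),
    Finset.card_univ, ← Nat.card_eq_fintype_card, hc', OneMemClass.coe_one, hd,
    inv_mul_eq_iff_eq_mul₀ (by exact_mod_cast hp.ne_zero), nsmul_eq_mul,
    Nat.cast_sub hp.one_le] at ha
  have h1 : (d : ℤ) + (p - 1) * c = p * a := by exact_mod_cast ha
  have h2 : c ≤ d := by
    have := h.norm_le' hd x
    rw [hc, Complex.norm_intCast] at this
    exact_mod_cast (le_abs_self _).trans this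
  have h3 : (d : ℤ) + 1 < p := by exact_mod_cast hlt
  have h4 : 0 ≤ c := by
    by_contra h5
    nlinarith [Int.natCast_nonneg a, Int.natCast_nonneg d]
  have h5 : c = d := by
    by_contra h6
    have h7 : (d : ℤ) - c = p * (a - c) := by linarith
    have h8 : 0 < (a : ℤ) - c := by
      by_contra h9
      nlinarith [lt_of_le_of_ne h2 h6]
    nlinarith
  rw [hc, hd, h5]; simp

theorem exists_exp_part [Finite G] (hp : p.Prime) {k : ℕ} (hk : k.Coprime p) :
    ∃ a : ℕ, a.Coprime (Nat.card G) ∧ (∀ x : G, orderOf x = p → x ^ a = x ^ k) ∧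
      ∀ g : G, ¬ p ∣ orderOf g → g ^ a = g := by
  obtain ⟨s, m, hm, e⟩ := Nat.exists_eq_pow_mul_and_not_dvd (Nat.card_pos (α := G)).ne' p hp.ne_one
  have hc := hp.coprime_iff_not_dvd.2 hm
  obtain ⟨a, h1, h2⟩ := Nat.chineseRemainder hc k 1
  refine ⟨a, ?_, fun x hx => pow_eq_pow_iff_modEq.2 (hx ▸ h1), fun g hg => ?_⟩
  · rw [e]
    refine Nat.Coprime.mul_right (Nat.Coprime.pow_right _ ?_) ?_
    · rwa [Nat.Coprime, h1.gcd_eq]
    · rw [Nat.Coprime, h2.gcd_eq]; simp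
  · have h3 : orderOf g ∣ m := ((hp.coprime_iff_not_dvd.2 hg).symm.pow_right s).dvd_of_dvd_mul_left
      (e ▸ orderOf_dvd_natCard g)
    conv_rhs => rw [← pow_one g]
    exact pow_eq_pow_iff_modEq.2 (h2.of_dvd h3)

theorem _root_.Cfsg.IsIrrCharacter.pow_coprime [Finite G] (h : Irr G ψ) {a : ℕ}
    (ha : a.Coprime (Nat.card G)) : Irr G fun g => ψ (g ^ a) := by
  obtain ⟨σ, hσ⟩ := exists_gal_pow ha
  simp only [← hσ _ h.isGen]
  exact h.gal (σ : ℂ →+* ℂ)

theorem _root_.Cfsg.IsIrrCharacter.rat_or_rat [Finite G] (h : Irr G ψ) (hp : p.Prime)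
    (hq : q.Prime) (H : ∀ g : G, p ∣ orderOf g → ¬ q ∣ orderOf g) {x y : G} (hx : orderOf x = p)
    (hy : orderOf y = q) : (∀ k : ℕ, k.Coprime p → ψ (x ^ k) = ψ x) ∨
      ∀ k : ℕ, k.Coprime q → ψ (y ^ k) = ψ y := by
  haveI := Fintype.ofFinite G
  by_contra hc
  push Not at hc
  obtain ⟨⟨k, k1, k2⟩, l, l1, l2⟩ := hc
  obtain ⟨a, a1, a2, a3⟩ := exists_exp_part (G := G) hp k1
  obtain ⟨b, b1, b2, b3⟩ := exists_exp_part (G := G) hq l1
  have e : (ψ + fun g => ψ (g ^ (a * b))) = (fun g => ψ (g ^ a)) + fun g => ψ (g ^ b) := by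
    funext g
    simp only [Pi.add_apply]
    by_cases hg : p ∣ orderOf g
    · rw [mul_comm, pow_mul, b3 g (H g hg), add_comm]
    · rw [pow_mul, a3 g hg]
  have h1 := congrArg (ip ψ) e
  rw [ip_add_right, ip_add_right, h.ip_self, h.ip_of_ne (h.pow_coprime a1) fun e => k2 (by
    rw [← a2 x hx]; exact (congrFun e x).symm), h.ip_of_ne (h.pow_coprime b1) fun e => l2 (by
    rw [← b2 y hy]; exact (congrFun e y).symm)] at h1
  linarith [h.isCharacter.ip_nonneg (h.pow_coprime (a1.mul_left b1)).isCharacter]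

theorem exists_commute_of_faithful [Finite G] (h : Ch G χ) (hf : ∀ g, χ g = χ 1 → g = 1)
    (hn : χ 1 = n) (hp : p.Prime) (hq : q.Prime) (p1 : n + 1 < p) (q1 : n + 1 < q)
    (p2 : p ∣ Nat.card G) (q2 : q ∣ Nat.card G) :
    ∃ x y : G, orderOf x = p ∧ orderOf y = q ∧ x * y = y * x := by
  haveI := Fintype.ofFinite G
  by_cases H : ∀ g : G, p ∣ orderOf g → ¬ q ∣ orderOf g
  swap
  · push Not at H
    obtain ⟨g, h1, h2⟩ := H
    exact ⟨_, _, orderOf_pow_orderOf_div (orderOf_pos g).ne' h1,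
      orderOf_pow_orderOf_div (orderOf_pos g).ne' h2, pow_mul_comm _ _ _⟩
  haveI := Fact.mk hp
  haveI := Fact.mk hq
  obtain ⟨x, hx⟩ := exists_prime_orderOf_dvd_card' p p2
  obtain ⟨y, hy⟩ := exists_prime_orderOf_dvd_card' q q2
  refine ⟨x, y, hx, hy, commutatorElement_eq_one_iff_mul_comm.1 (hf _ (h.eq_deg_of_const
    fun ψ hψ e => ?_))⟩
  have hd := h.deg_le_of_inner_ne_zero hψ e hψ.deg hn
  have hc := hψ.isCharacter
  haveI := hψ.isClassFunction.charKer_normal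
  rw [← hc.mem_charKer]
  rcases hψ.rat_or_rat hp hq H hx hy with e | e
  · exact Subgroup.commutator_le_left _ ⊤ (Subgroup.commutator_mem_commutator
      (hc.mem_charKer.2 (hc.eq_deg_of_rat hp hψ.deg (by omega) hx e)) (Subgroup.mem_top y))
  · exact Subgroup.commutator_le_right ⊤ _ (Subgroup.commutator_mem_commutator (Subgroup.mem_top x)
      (hc.mem_charKer.2 (hc.eq_deg_of_rat hq hψ.deg (by omega) hy e)))

theorem _root_.Cfsg.IsIrrCharacter.dt_center [Finite G] (h : Irr G ψ) {z : G}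
    (hz : z ∈ charCenter ψ) :
    ∃ u : ℂˣ, ψ z = u * ψ 1 ∧ u ^ orderOf z = 1 ∧ dt ψ z = u ^ dg ψ := by
  obtain ⟨l, hl⟩ := exists_lin_of_le_charCenter h.deg_ne_zero (Subgroup.zpowers_le.2 hz)
  have e : ψ↾(Subgroup.zpowers z) = (dg ψ : ℂ) • lf l := funext fun w => by
    have := hl w 1
    rw [mul_one, h.deg] at this
    rw [this, mul_comm]; rfl
  refine ⟨l ⟨z, Subgroup.mem_zpowers z⟩, by simpa using hl ⟨z, Subgroup.mem_zpowers z⟩ 1, ?_, ?_⟩
  · rw [← map_pow, ← Subgroup.orderOf_mk z (Subgroup.mem_zpowers z), pow_orderOf_eq_one, map_one]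
  · rw [← h.isCharacter.dt_res _ ⟨z, Subgroup.mem_zpowers z⟩, e, (lf_ch l).dt_nsmul, dt_lf]; rfl

theorem eq_one_of_center_of_perfect [Finite G] (h : Ch G χ) (hf : ∀ g, χ g = χ 1 → g = 1)
    (hn : χ 1 = n) (hp : p.Prime) (p1 : n < p) {z : G} (hz : z ∈ Subgroup.center G)
    (hc : z ∈ commutator G) (ho : z ^ p = 1) : z = 1 := by
  haveI := Fintype.ofFinite G
  refine hf _ (h.eq_deg_of_const fun ψ hψ e => ?_)
  have hd := h.deg_le_of_inner_ne_zero hψ e hψ.deg hn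
  obtain ⟨u, h1, h2, h3⟩ := hψ.dt_center (hψ.center_le_charCenter hz)
  rw [lin_commutator _ hc] at h3
  have h4 : u ^ p = 1 := by
    obtain ⟨k, hk⟩ := orderOf_dvd_of_pow_eq_one ho
    rw [hk, pow_mul, h2, one_pow]
  have h5 : u = 1 := (pow_eq_one_iff_of_coprime (hp.coprime_iff_not_dvd.2
    (Nat.not_dvd_of_pos_of_lt hψ.dg_pos (by omega)))).1 ⟨h4, h3.symm⟩
  rw [h1, h5]; simp

theorem comm_of_faithful [Finite G] (h : Ch G χ) (hf : ∀ g, χ g = χ 1 → g = 1)
    (hn : χ 1 = n) (H : ∀ p, p.Prime → p ∣ Nat.card G → n < p) (a b : G) : a * b = b * a := by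
  haveI := Fintype.ofFinite G
  refine commutatorElement_eq_one_iff_mul_comm.1 (hf _ (h.eq_deg_of_const fun ψ hψ e => ?_))
  have hd := h.deg_le_of_inner_ne_zero hψ e hψ.deg hn
  have h1 : dg ψ = 1 := by
    by_contra h2
    obtain ⟨r, hr, h3⟩ := Nat.exists_prime_and_dvd h2
    have := H r hr (h3.trans hψ.dg_dvd)
    have := Nat.le_of_dvd hψ.dg_pos h3
    omega
  obtain ⟨l, rfl⟩ := hψ.isCharacter.exists_lf (hψ.isCharacter.dg_eq_one.1 h1)
  simp [lf, commutatorElement_def, mul_comm]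

/-- Group-theoretic core of Blichfeldt's theorem. -/
theorem exists_hall_of_comm [Finite G] {π : Set ℕ}
    (c1 : ∀ K : Subgroup G, PiN π (ord K) → IsMulCommutative K)
    (c2 : ∀ (M : Subgroup G) p q, p.Prime → q.Prime → p ∈ π → q ∈ π → p ∣ ord M → q ∣ ord M →
      ∃ x ∈ M, ∃ y ∈ M, orderOf x = p ∧ orderOf y = q ∧ x * y = y * x)
    (c3 : ∀ (M : Subgroup G) p, ⁅M, M⁆ = M → p.Prime → p ∈ π → ∀ z ∈ M, orderOf z = p →
      ¬ M ≤ cen1 z) (M : Subgroup G) : ∃ H, Hall π H M := by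
  induction M using WellFoundedLT.induction with
  | ind M ih =>
  rcases (comm_le_of_le le_rfl le_rfl : ⁅M, M⁆ ≤ M).lt_or_eq with hlt | hM
  · obtain ⟨N, -, n1, n2, n3⟩ := exists_prime_step hlt (nrm_commutator (le_nrm_self M)
      (le_nrm_self M)) (solv_of_comm (isComm_iff.2 (comm_eq_bot.1 (by
        have n := nrm_commutator (le_nrm_self M) (le_nrm_self M)
        rw [← im_commutator n n, im_eq_bot_iff (comm_le_of_le n n), kr_qm]))))
    have nn : M ≤ nrm N := le_nrm_of_comm_le' n1.le n2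
    obtain ⟨H, hH⟩ := ih N n1
    set r := N.relIndex M with hr
    by_cases hπ : r ∈ π
    swap
    · exact ⟨H, hH.trans n1.le fun s hs hd => by
        rwa [(Nat.prime_dvd_prime_iff_eq hs n3).1 hd]⟩
    by_cases hq : ∃ q Q, q.Prime ∧ q ∈ π ∧ IsSylowIn q Q H ∧ ¬ M ≤ nrm Q
    · obtain ⟨q, Q, q1, q2, q3, q4⟩ := hq
      haveI := Fact.mk q1
      obtain ⟨K, hK⟩ := ih (M ⊓ nrm Q) (inf_lt_left.2 q4)
      refine ⟨K, hK.trans inf_le_left ?_⟩
      have e : M ⊓ nrm Q ⊔ N = M := (sup_le inf_le_left n1.le).antisymm fun g hg => by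
        obtain ⟨m, m1, m2⟩ := (hH.syl q2 q3).frattini (nn hg)
        rw [← inv_mul_cancel_left m g]
        exact mul_mem (Subgroup.mem_sup_right (inv_mem m1))
          (Subgroup.mem_sup_left ⟨mul_mem (n1.le m1) hg, m2⟩)
      have e2 := H1.relIndex_inf_eq_relIndex_sup (P := M ⊓ nrm Q) (N := N) (inf_le_left.trans nn)
      rw [e] at e2
      rw [← e2]
      exact hH.idx.dvd (Subgroup.relIndex_dvd_of_le_left _ (le_inf (le_inf (hH.le.trans n1.le)
        (le_nrm_of_le_cen ((isComm_iff.1 (c1 H hH.pi)).trans (cen_anti q3.le)))) hH.le))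
    push Not at hq
    haveI := Fact.mk n3
    obtain ⟨R, hR⟩ := exists_isSylowIn r M
    refine ⟨R ⊔ Opi π M, hall_of_sylow (sup_le hR.le (Opi_le _ _)) (PiN.sup
      (hR.le.trans (le_nrm_Opi _ _)) (piN_of_isPGroup hπ hR.isPGroup) (piN_Opi _ _))
      fun q q1 q2 _ => ?_⟩
    rcases eq_or_ne q r with rfl | hqr
    · exact ⟨R, hR, le_sup_left⟩
    haveI := Fact.mk q1
    obtain ⟨Q, hQ⟩ := exists_isSylowIn q H
    have hQ' := (hH.syl q2 hQ).trans n1.le fun hd => hqr ((Nat.prime_dvd_prime_iff_eq q1 n3).1 hd)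
    exact ⟨Q, hQ', (le_Opi hQ'.le (hq q Q q1 q2 hQ) (piN_of_isPGroup q2 hQ.isPGroup)).trans
      le_sup_right⟩
  by_cases h0 : PiN πᶜ (ord M)
  · exact ⟨⊥, hall_bot h0⟩
  obtain ⟨p, hp, p1, p2⟩ : ∃ p, p.Prime ∧ p ∣ ord M ∧ p ∈ π := by
    by_contra hc
    push Not at hc
    exact h0 hc
  have k1 : ∀ r, r.Prime → ∀ x ∈ M, orderOf x = r → ∀ H ≤ M, IsMulCommutative H →
      ¬ r ∣ H.relIndex M → (M ⊓ cen1 x).relIndex M ∣ H.relIndex M := by
    intro r hr x hx ho H h1 h2 h3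
    haveI := Fact.mk hr
    obtain ⟨R, hR⟩ := exists_isSylowIn r H
    obtain ⟨g, g1, g2⟩ := (hR.trans h1 h3).exists_cj_le
      (isPGroup_zpowers (k := 1) (by rw [pow_one, ← ho, pow_orderOf_eq_one]))
      (Subgroup.zpowers_le.2 hx)
    rw [← relIndex_cj g, cj_inf, cj_of_mem g1, cj_cen1]
    exact Subgroup.relIndex_dvd_of_le_left _ (le_inf h1 (le_cen1_iff.2 (isComm_iff.1 h2
      (hR.le (g2 (conj_mem_cj.2 (Subgroup.mem_zpowers x)))))))
  have k2 : ∀ r, r.Prime → r ∈ π → ∀ x ∈ M, orderOf x = r → ¬ r ∣ (M ⊓ cen1 x).relIndex M := by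
    intro r hr hπ x hx ho hd
    haveI := Fact.mk hr
    obtain ⟨R, hR⟩ := exists_isSylowIn r M
    exact hR.not_dvd (hd.trans (k1 r hr x hx ho R hR.le
      (c1 R (piN_of_isPGroup hπ hR.isPGroup)) hR.not_dvd))
  have k3 : ∀ r, r.Prime → r ∈ π → ∀ x ∈ M, orderOf x = r → ∃ H, Hall π H (M ⊓ cen1 x) ∧
      ∀ s, s.Prime → s ∈ π → ¬ s ∣ (M ⊓ cen1 x).relIndex M → ¬ s ∣ H.relIndex M := by
    intro r hr hπ x hx ho
    obtain ⟨H, hH⟩ := ih (M ⊓ cen1 x) (inf_lt_left.2 (c3 M r hM hr hπ x hx ho))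
    refine ⟨H, hH, fun s hs s1 s2 => ?_⟩
    rw [← Subgroup.relIndex_mul_relIndex H _ M hH.le inf_le_left, hs.dvd_mul]
    exact fun h => h.elim (hH.not_dvd hs s1) s2
  obtain ⟨x, hx, ho⟩ := exists_orderOf_eq hp p1
  obtain ⟨H, hH, -⟩ := k3 p hp p2 x hx ho
  refine ⟨H, hH.trans inf_le_left fun q q1 q2 q3 => ?_⟩
  obtain ⟨x', x1, y, y1, x2, y2, e⟩ := c2 M p q hp q1 p2 q3 p1 (q2.trans (relIndex_dvd_card' _ _))
  obtain ⟨Y, hY, Y2⟩ := k3 q q1 q3 y y1 y2
  obtain ⟨w, w1, w2⟩ := exists_orderOf_eq hp (hY.dvd_card hp p2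
    (x2 ▸ orderOf_dvd_card' (show x' ∈ M ⊓ cen1 y from ⟨x1, mem_cen1.2 e⟩)))
  have w3 : w ∈ M := (hY.le w1).1
  obtain ⟨W, hW, W2⟩ := k3 p hp p2 w w3 w2
  refine W2 q q1 q3 (fun hd => Y2 q q1 q3 (k2 q q1 q3 y y1 y2) (hd.trans ?_)) (q2.trans
    (k1 p hp x hx ho W (hW.le.trans inf_le_left) (c1 W hW.pi) (W2 p hp p2 (k2 p hp p2 w w3 w2))))
  exact Subgroup.relIndex_dvd_of_le_left _ (le_inf (hY.le.trans inf_le_left)
    (le_cen1_iff.2 (isComm_iff.1 (c1 Y hY.pi) w1)))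

theorem blichfeldt [Finite G] (h : Ch G χ) (hf : ∀ g, χ g = χ 1 → g = 1) (hn : χ 1 = n) :
    ∃ H : Subgroup G, Hall {p | n + 1 < p} H ⊤ ∧ IsMulCommutative H := by
  have hf' : ∀ M : Subgroup G, ∀ g : M, χ↾M g = χ↾M 1 → g = 1 := fun M g e => Subtype.ext (hf _ e)
  have c1 : ∀ K : Subgroup G, PiN {p | n + 1 < p} (ord K) → IsMulCommutative K := fun K hK =>
    ⟨⟨comm_of_faithful (h.res K) (hf' K) hn fun p hp hd => by
      have : n + 1 < p := hK p hp hd
      omega⟩⟩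
  obtain ⟨H, hH⟩ := exists_hall_of_comm c1 (fun M p q hp hq p1 q1 p2 q2 => by
    obtain ⟨x, y, h1, h2, h3⟩ := exists_commute_of_faithful (h.res M) (hf' M) hn hp hq p1 q1 p2 q2
    exact ⟨x, x.2, y, y.2, by rwa [Subgroup.orderOf_coe], by rwa [Subgroup.orderOf_coe],
      congrArg Subtype.val h3⟩) (fun M p hM hp p1 z hz ho hc => by
    have : n + 1 < p := p1
    have h1 := eq_one_of_center_of_perfect (h.res M) (hf' M) hn hp (by omega) (z := ⟨z, hz⟩)
      (Subgroup.mem_center_iff.2 fun g => Subtype.ext (mem_cen1.1 (hc g.2)))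
      (by
        rw [← hM, ← Subgroup.map_subtype_commutator] at hz
        obtain ⟨w, h1, h2⟩ := hz
        rwa [show w = ⟨z, _⟩ from Subtype.ext h2] at h1) (Subtype.ext (by simp [← ho]))
    rw [show z = 1 from congrArg Subtype.val h1, orderOf_one] at ho
    exact hp.ne_one ho.symm) ⊤
  exact ⟨H, hH, c1 H hH.pi⟩

theorem index_normalCore_dvd [Finite G] (H : Subgroup G) :
    H.normalCore.index ∣ H.index.factorial := by
  rw [Subgroup.normalCore_eq_ker, Subgroup.index_ker, Subgroup.index_eq_card, ← Nat.card_perm]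
  exact Subgroup.card_subgroup_dvd_card _

theorem comm_le_ker_ind [Fintype G] {H B : Subgroup G} [B.Normal] (h : B ≤ H) (l : H →* ℂˣ) :
    ⁅B, B⁆ ≤ charKer (indFun H (lf l)) := fun x hx => by
  rw [(lf_ch l).ind.mem_charKer, indFun_apply', indFun_apply']
  refine congrArg _ (Finset.sum_congr rfl fun g _ => ?_)
  have h1 : g * x * g⁻¹ ∈ ⁅H, H⁆ :=
    Subgroup.commutator_mono h h ((inferInstance : ⁅B, B⁆.Normal).conj_mem x hx g)
  rw [← Subgroup.map_subtype_commutator] at h1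
  obtain ⟨w, h1, h2⟩ := h1
  rw [← h2, mul_one, mul_inv_cancel, ← OneMemClass.coe_one H, Subgroup.coe_subtype, ext0_coe,
    ext0_coe, lf, lf, lin_commutator l h1, map_one]

theorem exists_index_dvd_factorial [Finite G] [Group.IsNilpotent G] (h : Ch G χ) :
    ∃ B : Subgroup G, B.Normal ∧ B.index ∣ (dg χ).factorial ∧ ⁅B, B⁆ ≤ charKer χ := by
  haveI := Fintype.ofFinite G
  refine h.induction (P := fun χ => ∃ B : Subgroup G, B.Normal ∧ B.index ∣ (dg χ).factorial ∧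
    ⁅B, B⁆ ≤ charKer χ) ⟨⊤, inferInstance, by simp, fun x _ => mem_charKer.2 fun _ => rfl⟩ ?_
  rintro ψ φ hψ hφ ⟨B, _, h1, h2⟩
  obtain ⟨H, l, e⟩ := exists_lin_ind_of_nilpotent hψ
  have hd : dg ψ = H.index := dg_eq (by rw [e, indFun_one]; simp)
  refine ⟨H.normalCore ⊓ B, inferInstance, ?_, fun x hx => mem_charKer.2 fun y => ?_⟩
  · rw [dg_eq (n := dg ψ + dg φ) (by rw [Pi.add_apply, hψ.deg, hφ.deg]; simp),
      ← Subgroup.relIndex_mul_index inf_le_right, Subgroup.inf_relIndex_right]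
    refine (mul_dvd_mul ((Subgroup.relIndex_dvd_index_of_normal _ _).trans ?_) h1).trans
      (Nat.factorial_mul_factorial_dvd_factorial_add _ _)
    rw [hd]; exact index_normalCore_dvd H
  · rw [Pi.add_apply, Pi.add_apply, mem_charKer.1 (h2 (Subgroup.commutator_mono inf_le_right
      inf_le_right hx)), e]
    exact congrArg (· + φ y) (mem_charKer.1 (comm_le_ker_ind H.normalCore_le l
      (Subgroup.commutator_mono inf_le_left inf_le_left hx)) y)

theorem eq_prod_primesLE {k N : ℕ} (h0 : k ≠ 0) (h : ∀ p, p.Prime → p ∣ k → p ≤ N) :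
    k = ∏ p ∈ Nat.primesLE N, p ^ k.factorization p := by
  conv_lhs => rw [← Nat.factorization_prod_pow_eq_self h0]
  refine Finsupp.prod_of_support_subset _ (fun p hp => ?_) _ (by simp)
  have := Nat.mem_primeFactors.1 hp
  exact Nat.mem_primesLE.2 ⟨h p this.1 this.2.1, this.1⟩

theorem jordan_bound [Finite G] (h : Ch G χ) (hf : ∀ g, χ g = χ 1 → g = 1) (hn : χ 1 = n) :
    ∃ A : Subgroup G, A.Normal ∧ (∀ x ∈ A, ∀ y ∈ A, x * y = y * x) ∧
      A.index ≤ n.factorial * 12 ^ (n * (Nat.primeCounting (n + 1) + 1)) := by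
  obtain ⟨A, _, h1, h2⟩ := jordan_abelian h hf hn
  obtain ⟨H, hH, hc⟩ := blichfeldt h hf hn
  refine ⟨A, inferInstance, h1, ?_⟩
  have e : ∀ K : Subgroup G, A.relIndex K * (K ⊔ A).index = A.index := fun K => by
    rw [← Subgroup.relIndex_sup_right, Subgroup.relIndex_mul_index le_sup_right]
  have h3 : (H ⊔ A).index ≤ n.factorial * 12 ^ (n * Nat.primeCounting (n + 1)) := by
    rw [eq_prod_primesLE (N := n + 1) Subgroup.index_ne_zero_of_finite fun p hp hd =>
      not_lt.1 (hH.idx p hp (by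
        rw [Subgroup.relIndex_top_right]; exact hd.trans (Subgroup.index_dvd_of_le le_sup_left))),
      eq_prod_primesLE (N := n + 1) n.factorial_ne_zero fun p hp hd =>
        (hp.dvd_factorial.1 hd).trans n.le_succ, pow_mul, ← Nat.primesLE_card_eq_primeCounting,
      ← Finset.prod_const, ← Finset.prod_mul_distrib]
    refine Finset.prod_le_prod' fun p hp => ?_
    have hp := (Nat.mem_primesLE.1 hp).2
    haveI := Fact.mk hp
    obtain ⟨P⟩ : Nonempty (Sylow p G) := inferInstance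
    have h4 : p ^ (H ⊔ A).index.factorization p ∣ A.relIndex P := by
      refine Nat.Coprime.dvd_of_dvd_mul_right (Nat.Coprime.pow_left _ (hp.coprime_iff_not_dvd.2
        fun hd => P.not_dvd_index (hd.trans (Subgroup.index_dvd_of_le
          (le_sup_left : (P : Subgroup G) ≤ (P : Subgroup G) ⊔ A))))) ?_
      rw [e, ← e H]
      exact (Nat.ordProj_dvd _ _).mul_left _
    refine (Nat.le_of_dvd (relIndex_pos _ _) h4).trans ?_
    haveI := P.isPGroup'.isNilpotent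
    obtain ⟨B, -, b1, b2⟩ := exists_index_dvd_factorial (h.res P)
    obtain ⟨k, hk⟩ := P.isPGroup'.index B
    rw [dg_eq (χ := χ↾(P : Subgroup G)) (n := n) hn, hk, hp.pow_dvd_iff_le_factorization n.factorial_ne_zero] at b1
    have b3 : (B.map (P : Subgroup G).subtype).relIndex P = p ^ k := by
      rw [← hk, Subgroup.relIndex, ← Subgroup.comap_subtype,
        Subgroup.comap_map_eq_self_of_injective (Subgroup.subtype_injective _)]
    have b4 := h2 (B.map (P : Subgroup G).subtype) (by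
      rintro _ ⟨x, hx, rfl⟩ _ ⟨y, hy, rfl⟩
      exact commutatorElement_eq_one_iff_mul_comm.1 (hf _ ((h.res P).mem_charKer.1
        (b2 (Subgroup.commutator_mem_commutator hx hy)))))
    have b5 := Subgroup.relIndex_inf_mul_relIndex A (B.map (P : Subgroup G).subtype) P
    rw [inf_eq_left.2 (Subgroup.map_subtype_le B), b3] at b5
    calc A.relIndex P ≤ (A ⊓ B.map (P : Subgroup G).subtype).relIndex P :=
          Nat.le_of_dvd (relIndex_pos _ _) (Subgroup.relIndex_dvd_of_le_left _ inf_le_left)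
      _ ≤ 12 ^ n * p ^ n.factorial.factorization p := by
          rw [← b5]; exact Nat.mul_le_mul b4 (Nat.pow_le_pow_right hp.pos b1)
      _ = _ := mul_comm _ _
  rw [← e H, mul_add, pow_add, mul_one, ← mul_assoc, mul_comm]
  exact Nat.mul_le_mul h3 (h2 H (isComm_iff'.1 hc))

end
end H3
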