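import Cfsg.Agent.H3.RG

/-! # Counting characters of `p'`-degree over a character of a normal subgroup -/

open Cfsg H7
open scoped ComplexConjugate commutatorElement
set_option maxSynthPendingDepth 3

namespace H3
open H3
open H2 (IsSylowIn exists_isSylowIn)

noncomputable section

theorem card_eq_of_fib {U V A : Type*} [Finite U] [Finite V] (E : A → A → Prop) (hE : Equivalence E)
    (r : U → A → Prop) (s : V → A → Prop) (r1 : ∀ u, ∃ a, r u a) (r2 : ∀ u a b, r u a → (r u b ↔ E a b))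
    (s1 : ∀ v, ∃ a, s v a) (s2 : ∀ v a b, s v a → (s v b ↔ E a b))
    (h : ∀ a, Nat.card {u // r u a} = Nat.card {v // s v a}) : Nat.card U = Nat.card V := by
  choose f hf using r1
  choose g hg using s1
  let S : Setoid A := ⟨E, hE⟩
  refine Nat.card_congr (Equiv.ofFiberEquiv (f := fun u => Quotient.mk S (f u)) (g := fun v => Quotient.mk S (g v))
    fun c => Classical.choice ?_)
  obtain ⟨a, rfl⟩ := Quotient.exists_rep c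
  refine Finite.card_eq.1 ?_
  rw [Nat.card_congr (Equiv.subtypeEquivRight fun u => Quotient.eq.trans (r2 u _ a (hf u)).symm), h,
    Nat.card_congr (Equiv.subtypeEquivRight fun v => Quotient.eq.trans (s2 v _ a (hg v)).symm)]

variable {Γ : Type*} [Group Γ] {C H K L M N P P' S T X Y : Subgroup Γ} {α β χ ψ ν θ η ξ : Γ → ℂ} {p : ℕ} {b : Prop}

theorem am_res_res (l : L ≤ X) : (am α↾X)↾L = α↾L := res_eq_mono (am_res _) l

/-- the function is real on `X` -/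
def Rl (X : Subgroup Γ) (α : Γ → ℂ) : Prop := (fun x => conj (α x))↾X = α↾X

theorem Rl.mono (h : Rl X α) (l : L ≤ X) : Rl L α := funext fun x => congrFun h ⟨x, l x.2⟩
theorem Rl.congr (h : Rl X α) (e : α↾X = β↾X) : Rl X β :=
  funext fun x => show conj (β x) = β x by rw [← show α x = β x from congrFun e x]; exact congrFun h x
theorem Rl.cf (h : Rl X α) {g : Γ} (n : g ∈ nrm X) : Rl X (cf g α) := funext fun x => congrFun h ⟨_, nconj_mem n x.2⟩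

theorem dg_res : dg α↾X = dg α := dg_congr rfl
theorem dg_of_eq (e : α↾X = β↾X) : dg α = dg β := dg_congr (congrFun e 1)
theorem dg_cf {g : Γ} : dg (cf g α) = dg α := dg_congr cf_at_one

variable [Finite Γ]

theorem card_irr_eq {Γ' : Type*} [Group Γ'] {X' : Subgroup Γ'} (W : (X → ℂ) → Prop) (W' : (X' → ℂ) → Prop)
    (R : (X → ℂ) → (X' → ℂ) → Prop)
    (ex : ∀ α : Γ → ℂ, Irr X α↾X → W α↾X → ∃ β : Γ' → ℂ, Irr X' β↾X' ∧ W' β↾X' ∧ R α↾X β↾X')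
    (un : ∀ (α : Γ → ℂ) (β β' : Γ' → ℂ), Irr X α↾X → W α↾X → Irr X' β↾X' → W' β↾X' → Irr X' β'↾X' → W' β'↾X' →
      R α↾X β↾X' → R α↾X β'↾X' → β↾X' = β'↾X')
    (inj : ∀ (α α' : Γ → ℂ) (β : Γ' → ℂ), Irr X α↾X → W α↾X → Irr X α'↾X → W α'↾X → Irr X' β↾X' → W' β↾X' →
      R α↾X β↾X' → R α'↾X β↾X' → α↾X = α'↾X)
    (sj : ∀ β : Γ' → ℂ, Irr X' β↾X' → W' β↾X' → ∃ α : Γ → ℂ, Irr X α↾X ∧ W α↾X ∧ R α↾X β↾X') :
    Nat.card {χ : IrrCharacter X // W χ.1} = Nat.card {χ : IrrCharacter X' // W' χ.1} := by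
  refine card_eq_of_rel (fun x y => R x.1.1 y.1.1) ?_ ?_ ?_ ?_
  · rintro ⟨⟨a, h⟩, k⟩
    obtain ⟨α, rfl⟩ := exists_amb a
    obtain ⟨β, u, v, w⟩ := ex α h k
    exact ⟨⟨⟨_, u⟩, v⟩, w⟩
  · rintro ⟨⟨a, h⟩, k⟩ ⟨⟨c, u⟩, v⟩ ⟨⟨d, u'⟩, v'⟩ w w'
    obtain ⟨α, rfl⟩ := exists_amb a
    obtain ⟨β, rfl⟩ := exists_amb c
    obtain ⟨β', rfl⟩ := exists_amb d
    exact Subtype.ext (Subtype.ext (un α β β' h k u v u' v' w w'))
  · rintro ⟨⟨a, h⟩, k⟩ ⟨⟨d, u'⟩, v'⟩ ⟨⟨c, u⟩, v⟩ w w'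
    obtain ⟨α, rfl⟩ := exists_amb a
    obtain ⟨β, rfl⟩ := exists_amb c
    obtain ⟨α', rfl⟩ := exists_amb d
    exact Subtype.ext (Subtype.ext (inj α α' β h k u' v' u v w w'))
  · rintro ⟨⟨a, h⟩, k⟩
    obtain ⟨β, rfl⟩ := exists_amb a
    obtain ⟨α, u, v, w⟩ := sj β h k
    exact ⟨⟨⟨_, u⟩, v⟩, w⟩

theorem cliffA_eq (l : L ≤ X) (n : X ≤ nrm L) (a : Irr L ν↾L) (e : T = X ⊓ iA L ν) (b : Irr T ψ↾T)
    (c : ⟪ψ↾L, ν↾L⟫ ≠ 0) (d : Irr X χ↾X) (f : ⟪χ↾T, ψ↾T⟫ ≠ 0) : (indA T X ψ)↾X = χ↾X := by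
  haveI := normal_subgroupOf n
  have lT : T ≤ X := e ▸ inf_le_left
  have hT : T.subgroupOf X = inertia (ν↾X)↾(L.subgroupOf X) := by
    rw [inertia_sub l n, e, Subgroup.inf_subgroupOf_left]
  rw [← irr_sub lT] at b
  rw [← inner_sub lT] at f
  rw [← inner_sub l] at c
  rw [indA_res]
  generalize T.subgroupOf X = U at *
  subst hT
  exact indFun_inertia_eq ((irr_sub l).2 a) b c d f

theorem cliffA_inj (l : L ≤ X) (n : X ≤ nrm L) (a : Irr L ν↾L) (e : T = X ⊓ iA L ν) (b : Irr T ψ↾T)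
    (c : ⟪ψ↾L, ν↾L⟫ ≠ 0) (b' : Irr T η↾T) (c' : ⟪η↾L, ν↾L⟫ ≠ 0) (d : Irr X χ↾X) (f : ⟪χ↾T, ψ↾T⟫ ≠ 0)
    (f' : ⟪χ↾T, η↾T⟫ ≠ 0) : ψ↾T = η↾T := by
  have g := (cliffA_eq l n a e b c d f).trans (cliffA_eq l n a e b' c' d f').symm
  haveI := normal_subgroupOf n
  have lT : T ≤ X := e ▸ inf_le_left
  have hT : T.subgroupOf X = inertia (ν↾X)↾(L.subgroupOf X) := by
    rw [inertia_sub l n, e, Subgroup.inf_subgroupOf_left]
  rw [← irr_sub lT] at b b'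
  rw [← inner_sub l] at c c'
  rw [indA_res, indA_res] at g
  rw [← eq_sub lT]
  generalize T.subgroupOf X = U at *
  subst hT
  exact indFun_inertia_injective ((irr_sub l).2 a) b b' c c' g

theorem cliffA_dg (l : L ≤ X) (n : X ≤ nrm L) (a : Irr L ν↾L) (e : T = X ⊓ iA L ν) (b : Irr T ψ↾T)
    (c : ⟪ψ↾L, ν↾L⟫ ≠ 0) (d : Irr X χ↾X) (f : ⟪χ↾T, ψ↾T⟫ ≠ 0) : dg χ = T.relIndex X * dg ψ := by
  have := congrFun (cliffA_eq l n a e b c d f) 1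
  refine dg_eq (this.symm.trans (indA_one.trans ?_))
  rw [show ψ 1 = dg ψ from b.deg, Nat.cast_mul]

theorem inner_conjA (h : ⟪α↾X, β↾X⟫ ≠ 0) : ⟪(fun x => conj (α x))↾X, (fun x => conj (β x))↾X⟫ ≠ 0 := by
  rwa [inner_conj_conj, Ne, inner_eq_zero_comm]

/-- `χ` is an irreducible character of `X` of `p'`-degree over `ν`, real if `b` -/
structure Ov (p : ℕ) (b : Prop) (X L : Subgroup Γ) (ν χ : Γ → ℂ) : Prop where
  irr : Irr X χ↾X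
  deg : ¬ p ∣ dg χ
  real : b → Rl X χ
  ne : ⟪χ↾L, ν↾L⟫ ≠ 0

theorem Ov.congr (h : Ov p b X L ν χ) (l : L ≤ X) (e : χ↾X = ψ↾X) : Ov p b X L ν ψ :=
  ⟨e ▸ h.irr, dg_of_eq e ▸ h.deg, fun o => (h.real o).congr e, res_eq_mono e l ▸ h.ne⟩

theorem ov_am (l : L ≤ X) : Ov p b X L ν (am χ↾X) ↔ Ov p b X L ν χ :=
  ⟨fun h => h.congr l (am_res _), fun h => h.congr l (am_res _).symm⟩

/-- the number of such characters -/
def ov (p : ℕ) (b : Prop) (X L : Subgroup Γ) (ν : Γ → ℂ) : ℕ := Nat.card {χ : IrrCharacter X // Ov p b X L ν (am χ.1)}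

theorem ov_congr (e : ν↾L = θ↾L) : ov p b X L ν = ov p b X L θ :=
  Nat.card_congr (Equiv.subtypeEquivRight fun _ => ⟨fun h => ⟨h.1, h.2, h.3, e ▸ h.4⟩, fun h => ⟨h.1, h.2, h.3, e ▸ h.4⟩⟩)

theorem ov_eq {Γ' : Type*} [Group Γ'] [Finite Γ'] {X' L' : Subgroup Γ'} {ν' : Γ' → ℂ} (l : L ≤ X) (l' : L' ≤ X')
    (R : (X → ℂ) → (X' → ℂ) → Prop)
    (ex : ∀ α, Ov p b X L ν α → ∃ β, Ov p b X' L' ν' β ∧ R α↾X β↾X')
    (un : ∀ α β β', Ov p b X L ν α → Ov p b X' L' ν' β → Ov p b X' L' ν' β' → R α↾X β↾X' → R α↾X β'↾X' → β↾X' = β'↾X')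
    (inj : ∀ α α' β, Ov p b X L ν α → Ov p b X L ν α' → Ov p b X' L' ν' β → R α↾X β↾X' → R α'↾X β↾X' → α↾X = α'↾X)
    (sj : ∀ β, Ov p b X' L' ν' β → ∃ α, Ov p b X L ν α ∧ R α↾X β↾X') : ov p b X L ν = ov p b X' L' ν' :=
  card_irr_eq (fun a => Ov p b X L ν (am a)) (fun a => Ov p b X' L' ν' (am a)) R
    (fun α _ h => let ⟨β, u, v⟩ := ex α ((ov_am l).1 h); ⟨β, u.1, (ov_am l').2 u, v⟩)
    (fun α β β' _ h _ u _ v => un α β β' ((ov_am l).1 h) ((ov_am l').1 u) ((ov_am l').1 v))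
    (fun α α' β _ h _ u _ v => inj α α' β ((ov_am l).1 h) ((ov_am l).1 u) ((ov_am l').1 v))
    (fun β _ h => let ⟨α, u, v⟩ := sj β ((ov_am l').1 h); ⟨α, u.1, (ov_am l).2 u, v⟩)

theorem ov_eq_zero (l : L ≤ X) (h : ∀ χ, ¬ Ov p b X L ν χ) : ov p b X L ν = 0 :=
  haveI : IsEmpty {χ : IrrCharacter X // Ov p b X L ν (am χ.1)} := ⟨fun χ => h _ χ.2⟩
  Nat.card_of_isEmpty

theorem Ov.not_dvd (h : Ov p b X L ν χ) (l : L ≤ X) (n : X ≤ nrm L) (a : Irr L ν↾L) : ¬ p ∣ dg ν := fun e =>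
  let ⟨_, _, f⟩ := dg_eq_mulA l n h.irr a h.ne
  h.deg (f ▸ e.mul_left _)

theorem ov_clifford (hp : p.Prime) (l : L ≤ X) (n : X ≤ nrm L) (a : Irr L ν↾L) (r : b → Rl L ν)
    (c : ¬ p ∣ (iA L ν).relIndex X) : ov p b X L ν = ov p b (X ⊓ iA L ν) L ν := by
  generalize e : X ⊓ iA L ν = T
  have lT : T ≤ X := e ▸ inf_le_left
  have l' : L ≤ T := e ▸ le_inf l (self_le_iA a.isClassFunction)
  rw [← Subgroup.inf_relIndex_right, inf_comm, e] at c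
  have inj : ∀ {χ χ' ψ : Γ → ℂ}, Irr X χ↾X → Irr X χ'↾X → Irr T ψ↾T → ⟪ψ↾L, ν↾L⟫ ≠ 0 → ⟪χ↾T, ψ↾T⟫ ≠ 0 →
      ⟪χ'↾T, ψ↾T⟫ ≠ 0 → χ↾X = χ'↾X := fun u v w x y z =>
    (cliffA_eq l n a e.symm w x u y).symm.trans (cliffA_eq l n a e.symm w x v z)
  refine ov_eq l l' (fun α β => ⟪(am α)↾T, β⟫ ≠ 0) (fun α h => ?_) (fun α β β' h u v f g => ?_)
    (fun α α' β h u v f g => ?_) fun β h => ?_
  · obtain ⟨β, u, v, w⟩ := exists_between l' (ch_mono h.irr.isCharacter lT) h.ne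
    refine ⟨β, ⟨u, fun o => h.deg (cliffA_dg l n a e.symm u w h.irr v ▸ o.mul_left _), fun o =>
      cliffA_inj l n a e.symm (ψ := fun x => conj (β x)) u.conj (r o ▸ inner_conjA w) u w h.irr
        ((h.real o).mono lT ▸ inner_conjA v) v, w⟩, by rwa [am_res_res lT]⟩
  · rw [am_res_res lT] at f g
    exact cliffA_inj l n a e.symm u.irr u.ne v.irr v.ne h.irr f g
  · rw [am_res_res lT] at f g
    exact inj h.irr u.irr v.irr v.ne f g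
  · obtain ⟨α, u, v⟩ := exists_overA lT h.irr
    refine ⟨α, ⟨u, fun o => ?_, fun o => inj (χ := fun x => conj (α x)) u.conj u h.irr h.ne (h.real o ▸ inner_conjA v) v,
      over_trans l' (ch_mono u.isCharacter lT) h.irr a.isCharacter v h.ne⟩, by rwa [am_res_res lT]⟩
    rw [cliffA_dg l n a e.symm h.irr h.ne u v, hp.dvd_mul] at o
    exact o.elim c h.deg

theorem eq_deg_of_overA (l : N ≤ X) (n : X ≤ nrm N) (a : Irr X α↾X) (h : ⟪α↾N, (1 : Γ → ℂ)↾N⟫ ≠ 0) {x : Γ}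
    (hx : x ∈ N) : α x = α 1 := by
  obtain ⟨e, -, -, f⟩ := res_eq_smulA (β := 1) l (fun g u => mem_iA'.2 ⟨n u, fun _ _ => rfl⟩) a isIrrCharacter_one h
  exact (congrFun f ⟨x, hx⟩).trans (congrFun f 1).symm

theorem ov_comap {Γ' : Type*} [Group Γ'] [Finite Γ'] (f : Γ' →* Γ) (h : X ≤ f.range) (l : L ≤ X) (a : Irr L ν↾L) :
    ov p b (X.comap f) (L.comap f) (fun x => ν (f x)) = ov p b X L ν := by
  have sj : ∀ {Y : Subgroup Γ}, Y ≤ X → Function.Surjective (f.subgroupComap Y) := fun {Y} u y =>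
    let ⟨x, e⟩ := h (u y.2); ⟨⟨x, show f x ∈ Y from e ▸ y.2⟩, Subtype.ext e⟩
  have i : ∀ α β : Γ → ℂ, ⟪(fun x => α (f x))↾(L.comap f), (fun x => β (f x))↾(L.comap f)⟫ = ⟪α↾L, β↾L⟫ := fun α β =>
    inner_comp_surjective _ (sj l) α↾L β↾L
  have k : ∀ {α : Γ → ℂ}, Irr X α↾X → (Ov p b (X.comap f) (L.comap f) (fun x => ν (f x)) (fun x => α (f x)) ↔
      Ov p b X L ν α) := fun {α} u =>
    have d : dg (fun x => α (f x)) = dg α := dg_congr (by rw [map_one])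
    ⟨fun v => ⟨u, d ▸ v.deg, fun o => funext fun y => by
      obtain ⟨x, rfl⟩ := sj le_rfl y; exact congrFun (v.real o) x, i α ν ▸ v.ne⟩,
    fun v => ⟨u.comp_surjective _ (sj le_rfl), d ▸ v.deg, fun o => funext fun y => congrFun (v.real o) ⟨_, y.2⟩,
      (i α ν).symm ▸ v.ne⟩⟩
  refine ov_eq (Subgroup.comap_mono l) l (fun α β => α = fun x => β (f.subgroupComap X x)) (fun α u => ?_)
    (fun α β β' _ _ _ u v => funext fun y => ?_) (fun α α' β _ _ _ u v => u.trans v.symm) fun β u =>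
      ⟨_, (k u.irr).2 u, rfl⟩
  · have lk : f.ker ≤ L.comap f := Subgroup.ker_le_comap f L
    have z : ⟪(fun x => ν (f x))↾f.ker, (1 : Γ' → ℂ)↾f.ker⟫ ≠ 0 :=
      (Cfsg.IsCharacter.inner_res_one_of_ker (χ := fun x => ν (f x)) _ fun g e => by rw [e, map_one]).trans_ne (by
        rw [map_one]; exact a.deg_ne_zero)
    have z' : ⟪α↾f.ker, (1 : Γ' → ℂ)↾f.ker⟫ ≠ 0 := over_trans (γ := 1) lk (ch_mono u.irr.isCharacter
      (Subgroup.comap_mono l)) (β := fun x => ν (f x)) (a.comp_surjective _ (sj l)) isCharacter_one u.ne z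
    obtain ⟨β, v, w⟩ := u.irr.exists_descend (f.subgroupComap X) (sj le_rfl) fun g e =>
      eq_deg_of_overA (lk.trans (Subgroup.comap_mono l)) (le_nrm_of_normal _ _) u.irr z' (congrArg Subtype.val e)
    obtain ⟨β, rfl⟩ := exists_amb β
    exact ⟨β, (k v).1 (u.congr (Subgroup.comap_mono l) (funext w)), funext w⟩
  · obtain ⟨x, rfl⟩ := sj le_rfl y
    exact (congrFun u x).symm.trans (congrFun v x)

theorem ov_sub (h : X ≤ Y) (l : L ≤ X) (a : Irr L ν↾L) :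
    ov p b (X.subgroupOf Y) (L.subgroupOf Y) ν↾Y = ov p b X L ν :=
  ov_comap Y.subtype (by rwa [Subgroup.range_subtype]) l a

/-- `P / L` is a Sylow `p`-subgroup of `X / L` -/
structure SyM (p : ℕ) (L P X : Subgroup Γ) : Prop where
  le : L ≤ P
  le' : P ≤ X
  pw : ∀ x ∈ P, ∃ k, x ^ p ^ k ∈ L
  nd : ¬ p ∣ P.relIndex X

omit [Finite Γ] in
theorem SyM.mono (h : SyM p L P X) (a : P ≤ T) (c : T ≤ X) : SyM p L P T :=
  ⟨h.le, a, h.pw, fun e => h.nd (e.trans (Dvd.intro _ (Subgroup.relIndex_mul_relIndex _ _ _ a c)))⟩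

omit [Finite Γ] in
theorem SyM.nd' (h : SyM p L P X) (a : P ≤ T) : ¬ p ∣ T.relIndex X := fun e =>
  h.nd (e.trans (Subgroup.relIndex_dvd_of_le_left _ a))

theorem SyM.exists_syl [Fact p.Prime] (h : SyM p L P X) (n : P ≤ nrm L) : ∃ S, IsSylowIn p S X ∧ L ⊔ S = P :=
  let ⟨S, a⟩ := exists_isSylowIn p P
  ⟨S, a.trans h.le' h.nd, syl_sup_normal a h.le ((isPGroup_iff_piN_relIndex n).2 h.pw)⟩

omit [Finite Γ] in
theorem SyM.sup (h : SyM p L P X) (l : L ≤ K) (a : K ≤ X) (n : P ≤ nrm K) : SyM p K (K ⊔ P) X :=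
  ⟨le_sup_left, sup_le a h.le', fun x u => by
    obtain ⟨y, y1, z, z1, rfl⟩ := (mem_sup_nrm' n).1 u
    obtain ⟨k, e⟩ := h.pw z z1
    refine ⟨k, (kr_qm K).le ((ev_eq_one_iff (pow_mem (mul_mem (le_nrm_self K y1) (n z1)) _)).1 ?_)⟩
    rw [ev_pow (mul_mem (le_nrm_self K y1) (n z1)), ev_mul (le_nrm_self K y1) (n z1),
      (ev_eq_one_iff (le_nrm_self K y1)).2 ((kr_qm K).ge y1), one_mul, ← ev_pow (n z1),
      ev_eq_one_iff (pow_mem (n z1) _), kr_qm]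
    exact l e, h.nd' le_sup_right⟩

omit [Finite Γ] in
theorem sym_of_syl (h : IsSylowIn p S X) (a : K ≤ X) (n : S ≤ nrm K) : SyM p K (K ⊔ S) X :=
  SyM.sup ⟨bot_le, h.le, isPGroup_iff_mem.1 h.isPGroup, h.not_dvd⟩ bot_le a n

theorem SyM.conj [Fact p.Prime] (h : SyM p L P X) (k : SyM p L P' X) (n : X ≤ nrm L) : ∃ t ∈ X, cj t P = P' := by
  obtain ⟨S, a, rfl⟩ := h.exists_syl (h.le'.trans n)
  obtain ⟨S', a', rfl⟩ := k.exists_syl (k.le'.trans n)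
  obtain ⟨t, u, rfl⟩ := a.exists_cj_eq a'
  exact ⟨t, u, by rw [cj_sup, cj_of_mem_nrm (n u)]⟩

omit [Finite Γ] in
theorem SyM.cj (h : SyM p L P X) {g : Γ} (a : g ∈ nrm L) (c : g ∈ nrm X) : SyM p L (cj g P) X :=
  ⟨(cj_of_mem_nrm a).ge.trans (cj_mono g h.le), cj_le_of_mem_nrm c h.le', fun x u => by
    obtain ⟨y, y1, rfl⟩ := mem_cj'.1 u
    obtain ⟨k, e⟩ := h.pw y y1
    exact ⟨k, by rw [conj_pow]; exact nconj_mem a e⟩, by rw [← cj_of_mem_nrm c, relIndex_cj]; exact h.nd⟩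

omit [Finite Γ] in
theorem SyM.comap {Γ' : Type*} [Group Γ'] (h : SyM p L P X) (f : Γ' →* Γ) (r : X ≤ f.range) :
    SyM p (L.comap f) (P.comap f) (X.comap f) :=
  ⟨Subgroup.comap_mono h.le, Subgroup.comap_mono h.le', fun x u => let ⟨k, e⟩ := h.pw _ u; ⟨k, by
    rwa [Subgroup.mem_comap, map_pow]⟩, by
      rw [Subgroup.relIndex_comap, Subgroup.map_comap_eq_self r]; exact h.nd⟩

theorem SyM.le_of_pw [Fact p.Prime] (h : SyM p L P X) (l : L ≤ K) (a : K ≤ X) (n : X ≤ nrm K) (m : X ≤ nrm L)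
    (c : ∀ x ∈ K, ∃ k, x ^ p ^ k ∈ L) : K ≤ P := by
  obtain ⟨t, u, e⟩ := h.conj (P' := K ⊔ P) ⟨h.le.trans le_sup_right, sup_le a h.le', fun x v => by
    obtain ⟨k, e⟩ := (h.sup l a (h.le'.trans n)).pw x v
    obtain ⟨j, e⟩ := c _ e
    exact ⟨k + j, by rwa [pow_add, pow_mul]⟩, h.nd' le_sup_right⟩ m
  exact le_sup_left.trans (eq_of_le_of_card_le le_sup_right (by rw [← e, card_cj])).ge

theorem exists_nrm_conj [Fact p.Prime] (h : SyM p K P X) (n : X ≤ nrm K) (a : P ≤ iA K θ) {g : Γ} (hg : g ∈ X)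
    (c : P ≤ iA K (cf g θ)) (i : IsClassFunction K θ↾K) : ∃ y ∈ X ⊓ nrm P, (cf y θ)↾K = (cf g θ)↾K := by
  have l : cj g P ≤ X ⊓ iA K θ := le_inf (cj_le_of_mem hg h.le') fun x u => by
    obtain ⟨y, y1, rfl⟩ := mem_cj'.1 u
    have := mem_iA_cf (α := cf g θ) (inv_mem (n hg)) (x := g * y * g⁻¹) (by simpa [mul_assoc] using c y1)
    rwa [cf_cf, mul_inv_cancel, cf_one] at this
  obtain ⟨t, u, e⟩ := ((h.cj (n hg) (le_nrm_self X hg)).mono l inf_le_left).conj (h.mono (le_inf h.le' a) inf_le_left)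
    (inf_le_left.trans n)
  refine ⟨t * g, ⟨mul_mem u.1 hg, cj_eq_self_iff.1 (by rw [cj_mul, e])⟩, ?_⟩
  rw [← cf_cf]
  exact cf_congr u.2.2 (n hg)

theorem inner_cf_left {g : Γ} (h : g ∈ iA N β) : ⟪(cf g α)↾N, β↾N⟫ = ⟪α↾N, β↾N⟫ := by
  rw [← h.2, inner_cf h.1, h.2]

theorem exists_under_fix [hp : Fact p.Prime] (h : SyM p K P X) (n : X ≤ nrm K) (a : Irr X χ↾X) (d : ¬ p ∣ dg χ) :
    ∃ θ : Γ → ℂ, Irr K θ↾K ∧ P ≤ iA K θ ∧ ⟪χ↾K, θ↾K⟫ ≠ 0 := by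
  have l := h.le.trans h.le'
  obtain ⟨θ, u, v⟩ := exists_underA l a
  have lT : K ≤ X ⊓ iA K θ := le_inf l (self_le_iA u.isClassFunction)
  obtain ⟨ψ, w1, w2, w3⟩ := exists_between lT (ch_mono a.isCharacter inf_le_left) v
  obtain ⟨S, s⟩ := exists_isSylowIn p (X ⊓ iA K θ)
  obtain ⟨t, t1, rfl⟩ := (sym_of_syl (s.trans inf_le_left fun o => d
    (cliffA_dg l n u rfl w1 w3 a w2 ▸ o.mul_right _)) l (s.le.trans (inf_le_left.trans n))).conj h n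
  refine ⟨cf t⁻¹ θ, irr_cf u (inv_mem (n t1)), fun x o => mem_iA_cf (inv_mem (n t1)) ?_, ?_⟩
  · rw [inv_inv]
    exact ((sup_le lT s.le) (mem_cj.1 o)).2
  · rwa [inner_cf_of_mem (le_iA a.isClassFunction l n (inv_mem t1))]

theorem rl_of_under (l : K ≤ X) (n : X ≤ nrm K) (a : Irr X χ↾X) (d : ¬ 2 ∣ dg χ) (r : Rl X χ) (u : Irr K θ↾K)
    (v : ⟪χ↾K, θ↾K⟫ ≠ 0) : Rl K θ := by
  have c := ch_mono a.isCharacter l
  choose! m hm using fun η (h : Irr K η) => c.inner_nat h.isCharacter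
  obtain ⟨η, e1, e2, e3⟩ := exists_real_odd (G := K) (fun η => m η * dg η) (fun η h => by
    have : (m (fun g => conj (η g)) : ℂ) = m η := by
      rw [← hm _ h.conj, ← r.mono l, inner_conj_conj, ← inner_conj_symm, hm _ h, map_natCast]
    rw [Nat.cast_injective this, dg_congr (conj_deg h.isCharacter)]) (by
    have : dg χ = ∑ η : IrrCharacter K, m η.1 * dg η.1 := dg_eq (by
      refine (c.isClassFunction.apply_eq_sum 1).trans ?_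
      push_cast
      exact Finset.sum_congr rfl fun η _ => by rw [hm _ η.2, η.2.deg])
    rwa [← this, ← Nat.not_even_iff_odd, even_iff_two_dvd])
  obtain ⟨η, rfl⟩ := exists_amb η
  obtain ⟨g, g1, g2⟩ := exists_cf_of_under l n a e1 u (by
    rw [hm _ e1, Nat.cast_ne_zero]; rintro o; simp [o] at e3) v
  exact (Rl.cf e2 (n g1)).congr g2.symm

/-- Fibering over the invariant characters of an intermediate normal subgroup. -/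
theorem ov_fib [hp : Fact p.Prime] (hb : b → p = 2) (l : L ≤ K) (h : SyM p K P X) (n : X ≤ nrm K) (a : Irr L ν↾L)
    (i : X ≤ iA L ν) (k : ∀ θ : Γ → ℂ, Irr K θ↾K → P ≤ iA K θ → (b → Rl K θ) → ov p b X K θ = ov p b (X ⊓ nrm P) K θ) :
    ov p b X L ν = ov p b (X ⊓ nrm P) L ν := by
  have lY : P ≤ X ⊓ nrm P := le_inf h.le' (le_nrm_self P)
  have key : ∀ Y, P ≤ Y → Y ≤ X → X ⊓ nrm P ≤ Y → ∀ u : {χ : IrrCharacter Y // Ov p b Y L ν (am χ.1)},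
      (∃ θ : Γ → ℂ, (Irr K θ↾K ∧ P ≤ iA K θ) ∧ ⟪(am u.1.1)↾K, θ↾K⟫ ≠ 0) ∧ ∀ θ η : Γ → ℂ,
      ((Irr K θ↾K ∧ P ≤ iA K θ) ∧ ⟪(am u.1.1)↾K, θ↾K⟫ ≠ 0) → (((Irr K η↾K ∧ P ≤ iA K η) ∧ ⟪(am u.1.1)↾K, η↾K⟫ ≠ 0) ↔
        ∃ y ∈ X ⊓ nrm P, η↾K = (cf y θ)↾K) := fun Y y1 y2 y3 u => by
    have lK := h.le.trans y1
    refine ⟨let ⟨θ, c, d, e⟩ := exists_under_fix (h.mono y1 y2) (y2.trans n) u.2.irr u.2.deg; ⟨θ, ⟨c, d⟩, e⟩,
      fun θ η ⟨⟨c, d⟩, e⟩ => ⟨fun ⟨⟨c', d'⟩, e'⟩ => ?_, fun ⟨y, f, g⟩ => ?_⟩⟩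
    · obtain ⟨g, g1, g2⟩ := exists_cf_of_under lK (y2.trans n) u.2.irr c c' e e'
      obtain ⟨y, z1, z2⟩ := exists_nrm_conj h n d (y2 g1) (iA_congr g2 ▸ d') c.isClassFunction
      exact ⟨y, z1, g2.trans z2.symm⟩
    · rw [g, iA_congr g, inner_cf_of_mem (le_iA u.2.irr.isClassFunction lK (y2.trans n) (y3 f))]
      exact ⟨⟨irr_cf c (n f.1), le_iA_cf (n f.1) f.2 d⟩, e⟩
  have fib : ∀ Y, K ≤ Y → Y ≤ X → ∀ θ : Γ → ℂ, (Irr K θ↾K ∧ P ≤ iA K θ) → ⟪θ↾L, ν↾L⟫ ≠ 0 →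
      Nat.card {u : {χ : IrrCharacter Y // Ov p b Y L ν (am χ.1)} // (Irr K θ↾K ∧ P ≤ iA K θ) ∧
        ⟪(am u.1.1)↾K, θ↾K⟫ ≠ 0} = ov p b Y K θ := fun Y y1 y2 θ c d =>
    Nat.card_congr ((Equiv.subtypeSubtypeEquivSubtypeInter _ fun χ : IrrCharacter Y => (Irr K θ↾K ∧ P ≤ iA K θ) ∧
      ⟪(am χ.1)↾K, θ↾K⟫ ≠ 0).trans (Equiv.subtypeEquivRight fun χ => ⟨fun ⟨u, _, v⟩ => ⟨u.1, u.2, u.3, v⟩, fun u =>
        ⟨⟨u.1, u.2, u.3, over_trans l (ch_mono u.irr.isCharacter y1) c.1 a.isCharacter u.4 d⟩, c, u.4⟩⟩))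
  have emp : ∀ Y, K ≤ Y → Y ≤ X → ∀ θ : Γ → ℂ, ¬ ((Irr K θ↾K ∧ P ≤ iA K θ) ∧ ⟪θ↾L, ν↾L⟫ ≠ 0 ∧ (b → Rl K θ)) →
      Nat.card {u : {χ : IrrCharacter Y // Ov p b Y L ν (am χ.1)} // (Irr K θ↾K ∧ P ≤ iA K θ) ∧
        ⟪(am u.1.1)↾K, θ↾K⟫ ≠ 0} = 0 := fun Y y1 y2 θ c => Nat.card_eq_zero.2 (Or.inl ⟨fun ⟨u, v, w⟩ => c ⟨v, by
      obtain ⟨μ, m1, m2⟩ := exists_underA l v.1
      obtain ⟨g, g1, g2⟩ := exists_cf_of_under (l.trans y1) (y2.trans (i.trans iA_le_nrm)) u.2.irr a m1 u.2.ne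
        (over_trans l (ch_mono u.2.irr.isCharacter y1) v.1 m1.isCharacter w m2)
      rwa [g2, (i (y2 g1)).2] at m2, fun o => rl_of_under y1 (y2.trans n) u.2.irr (hb o ▸ u.2.deg) (u.2.real o) v.1 w⟩⟩)
  refine card_eq_of_fib (fun θ η : Γ → ℂ => ∃ y ∈ X ⊓ nrm P, η↾K = (cf y θ)↾K) ⟨fun θ => ⟨1, one_mem _, by rw [cf_one]⟩,
    fun ⟨y, c, d⟩ => ⟨y⁻¹, inv_mem c, by rw [cf_congr d (n (inv_mem c.1)), cf_cf, mul_inv_cancel, cf_one]⟩,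
    fun ⟨y, c, d⟩ ⟨z, e, f⟩ => ⟨y * z, mul_mem c e, by rw [f, cf_congr d (n e.1), cf_cf]⟩⟩ _ _
    (fun u => (key X h.le' le_rfl inf_le_left u).1) (fun u => (key X h.le' le_rfl inf_le_left u).2)
    (fun u => (key _ lY inf_le_left le_rfl u).1) (fun u => (key _ lY inf_le_left le_rfl u).2) fun θ => ?_
  rcases em ((Irr K θ↾K ∧ P ≤ iA K θ) ∧ ⟪θ↾L, ν↾L⟫ ≠ 0 ∧ (b → Rl K θ)) with c | c
  · rw [fib X (h.le.trans h.le') le_rfl θ c.1 c.2.1, fib _ (h.le.trans lY) inf_le_left θ c.1 c.2.1, k θ c.1.1 c.1.2 c.2.2]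
  · rw [emp X (h.le.trans h.le') le_rfl θ c, emp _ (h.le.trans lY) inf_le_left θ c]

end
end H3
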