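import Cfsg.Agent.H3.MK

/-! # Restriction to a supplement; the inductive step of McKay-type counts; the real case -/

open Cfsg H7
open scoped ComplexConjugate commutatorElement
set_option maxSynthPendingDepth 3

namespace H3
open H3
open H2 (IsSylowIn exists_isSylowIn)

noncomputable section

variable {Γ : Type*} [Group Γ] [Finite Γ] {C E H K L M N P S T X Y : Subgroup Γ} {α β χ ψ ν θ η ξ : Γ → ℂ} {p : ℕ}
  {b : Prop}

theorem mean_eq (n : Y ≤ nrm K) (e : K ⊔ Y = X) {F : Γ → ℂ} (h : ∀ k ∈ K, ∀ y ∈ Y, F (k * y) = F y) :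
    (ord X : ℂ)⁻¹ * ∑ x : X, F x = (ord Y : ℂ)⁻¹ * ∑ y : Y, F y := by
  have lK : K ≤ X := e ▸ le_sup_left
  have lY : Y ≤ X := e ▸ le_sup_right
  have := sum_mul_fac (H := K.subgroupOf X) (K := Y.subgroupOf X) (fun g => by
    obtain ⟨k, a, y, c, d⟩ := (mem_sup_nrm' n).1 (e.ge g.2)
    exact ⟨⟨k, lK a⟩, a, ⟨y, lY c⟩, c, Subtype.ext d⟩) F↾X
  rw [Fintype.sum_prod_type, Finset.sum_congr rfl (g := fun _ => ∑ y : Y, F y) fun k _ => by
    exact Fintype.sum_equiv (Subgroup.subgroupOfEquivOfLe lY).toEquiv _ _ fun y => h _ k.2 _ y.2, Finset.sum_const,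
    Finset.card_univ, ← Nat.card_eq_fintype_card, card_subgroupOf_of_le lK,
    show K.subgroupOf X ⊓ Y.subgroupOf X = (K ⊓ Y).subgroupOf X from rfl,
    card_subgroupOf_of_le (inf_le_left.trans lK), nsmul_eq_mul] at this
  have c := card_sup_mul_card_inf n
  rw [sup_comm, e, inf_comm] at c
  have c' : (ord X : ℂ) * ord (K ⊓ Y) = ord Y * ord K := by exact_mod_cast c
  have k0 := card_ne_zero K
  have x0 := card_ne_zero X
  have y0 := card_ne_zero Y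
  field_simp
  refine mul_left_cancel₀ (card_ne_zero ↥(K ⊓ Y)) ?_
  linear_combination (-∑ y : Y, F y) * c' - (ord Y : ℂ) * this

theorem av_mul {k t : Γ} (h : k ∈ K) : av K α β (k * t) = av K α β t := by
  rw [av, av, ← inner_comp_equiv (Equiv.mulRight (⟨k, h⟩ : K)) (fun x : K => α (x * t)) fun x : K => β (x * t)]
  simp [mul_assoc]

theorem mean_av (l : K ≤ X) : (ord X : ℂ)⁻¹ * ∑ x : X, av K α β x = ⟪α↾X, β↾X⟫ := by
  rw [show ∑ x : X, av K α β x = _ from Finset.sum_congr rfl fun x _ => congrFun (av_res l) x, sum_avg]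
  rfl

theorem exists_coset_smul (l : K ≤ E) (n : E ≤ nrm K) (a : Ch E η↾E) (c : Irr K η↾K) (d : Ch E χ↾E) {e : ℂ}
    (f : χ↾K = e • η↾K) {y : Γ} (hy : y ∈ E) : ∃ u : ℂ, ∀ k ∈ K, χ (k * y) = u * η (k * y) := by
  haveI := normal_subgroupOf n
  obtain ⟨β, u, v, w⟩ := gallagher_ch (N := K.subgroupOf E) a ((irr_sub l).2 c) d fun ξ u v => by
    obtain ⟨ξ, rfl⟩ := exists_amb2 ξ
    rw [inner_sub l, f, inner_smul_left] at v
    exact (eq_sub l).2 (c.eq_of_inner_ne_zero ((irr_sub l).1 u) (right_ne_zero_of_mul v)).symm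
  exact ⟨β ⟨y, hy⟩, fun k o => by
    rw [← u.mul_of_eq_deg (v ⟨k, l o⟩ o)]; exact (congrFun w ⟨k * y, mul_mem (l o) hy⟩).symm⟩

theorem inner_res_sup (n : X ≤ nrm K) (e : K ⊔ Y = X) (a : Irr K θ↾K) (i : X ≤ iA K θ) (c : Irr ↥(K ⊓ Y) θ↾↥(K ⊓ Y))
    (d : Irr X χ↾X) (d' : Irr X ψ↾X) (f : ⟪χ↾K, θ↾K⟫ ≠ 0) (f' : ⟪ψ↾K, θ↾K⟫ ≠ 0) : ⟪χ↾Y, ψ↾Y⟫ = ⟪χ↾X, ψ↾X⟫ := by
  have lK : K ≤ X := e ▸ le_sup_left
  have lY : Y ≤ X := e ▸ le_sup_right
  rw [← mean_av lK, ← mean_av (inf_le_right : K ⊓ Y ≤ Y), mean_eq (lY.trans n) e fun k u y _ => av_mul u]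
  refine congrArg _ (Finset.sum_congr rfl fun ⟨y, hy⟩ _ => ?_)
  obtain ⟨η, u, v⟩ := exists_ext_cyc rfl a (i (lY hy))
  have lE : K ⊔ Subgroup.zpowers y ≤ X := sup_le lK (Subgroup.zpowers_le.2 (lY hy))
  have m : y ∈ K ⊔ Subgroup.zpowers y := (le_sup_right : _ ≤ K ⊔ _) (Subgroup.mem_zpowers y)
  obtain ⟨x, -, -, g⟩ := res_eq_smulA lK i d a f
  obtain ⟨x', -, -, g'⟩ := res_eq_smulA lK i d' a f'
  rw [← v] at g g' a
  obtain ⟨s, hs⟩ := exists_coset_smul le_sup_left (lE.trans n) u.isCharacter a (ch_mono d.isCharacter lE) g m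
  obtain ⟨t, ht⟩ := exists_coset_smul le_sup_left (lE.trans n) u.isCharacter a (ch_mono d'.isCharacter lE) g' m
  have k : ∀ {D : Subgroup Γ}, D ≤ K → av D χ ψ y = s * conj t * av D η η y := fun {D} o => by
    rw [av, show (fun x : D => χ (x * y)) = s • fun x : D => η (x * y) from funext fun x => hs x (o x.2),
      show (fun x : D => ψ (x * y)) = t • fun x : D => η (x * y) from funext fun x => ht x (o x.2), inner_smul_left,
      inner_smul_right, mul_assoc]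
    rfl
  change av _ χ ψ y = av _ χ ψ y
  rw [k le_rfl, k inf_le_left, av_self le_sup_left (lE.trans n) u.isCharacter a m,
    av_self (E := K ⊓ Y ⊔ Subgroup.zpowers y) le_sup_left (sup_le (le_nrm_self _) (Subgroup.zpowers_le.2
      (nrm_inf (lY.trans n) (le_nrm_self Y) hy))) (ch_mono u.isCharacter (sup_le_sup_right inf_le_left _))
      (res_eq_mono v inf_le_left ▸ c) ((le_sup_right : _ ≤ K ⊓ Y ⊔ _) (Subgroup.mem_zpowers y))]

theorem irr_res_sup (n : X ≤ nrm K) (e : K ⊔ Y = X) (a : Irr K θ↾K) (i : X ≤ iA K θ) (c : Irr ↥(K ⊓ Y) θ↾↥(K ⊓ Y))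
    (d : Irr X χ↾X) (f : ⟪χ↾K, θ↾K⟫ ≠ 0) : Irr Y χ↾Y :=
  (ch_mono d.isCharacter (e ▸ le_sup_right)).isIrr_of_inner_self ((inner_res_sup n e a i c d d f f).trans d.inner_self)

theorem inj_res_sup (n : X ≤ nrm K) (e : K ⊔ Y = X) (a : Irr K θ↾K) (i : X ≤ iA K θ) (c : Irr ↥(K ⊓ Y) θ↾↥(K ⊓ Y))
    (d : Irr X χ↾X) (d' : Irr X ψ↾X) (f : ⟪χ↾K, θ↾K⟫ ≠ 0) (f' : ⟪ψ↾K, θ↾K⟫ ≠ 0) (g : χ↾Y = ψ↾Y) : χ↾X = ψ↾X :=
  d.eq_of_inner_ne_zero d' (by
    rw [← inner_res_sup n e a i c d d' f f', ← g, (irr_res_sup n e a i c d f).inner_self]; exact one_ne_zero)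

theorem inner_indA_fac (n : X ≤ nrm K) (e : K ⊔ Y = X) (a : IsClassFunction Y α↾Y) (c : IsClassFunction K β↾K) :
    ⟪(indA Y X α)↾K, β↾K⟫ = ⟪α↾↥(Y ⊓ K), β↾↥(Y ⊓ K)⟫ := by
  have lK : K ≤ X := e ▸ le_sup_left
  have lY : Y ≤ X := e ▸ le_sup_right
  haveI := normal_subgroupOf n
  have := inner_ind_facA (N := K.subgroupOf X) (E := Y.subgroupOf X) (α := α↾X) (β := β↾X)
    (by rw [← Subgroup.subgroupOf_sup lK lY, e, Subgroup.subgroupOf_self])
    (a.comp (Subgroup.subgroupOfEquivOfLe lY).toMonoidHom) (c.comp (Subgroup.subgroupOfEquivOfLe lK).toMonoidHom)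
  rw [← indA_res, inner_sub lK, show Y.subgroupOf X ⊓ K.subgroupOf X = (Y ⊓ K).subgroupOf X from rfl,
    inner_sub (inf_le_left.trans lY)] at this
  exact this

theorem surj_res_sup (n : X ≤ nrm K) (e : K ⊔ Y = X) (a : Irr K θ↾K) (i : X ≤ iA K θ) (c : Irr ↥(K ⊓ Y) θ↾↥(K ⊓ Y))
    (d : Irr Y ψ↾Y) (f : ⟪ψ↾↥(K ⊓ Y), θ↾↥(K ⊓ Y)⟫ ≠ 0) : ∃ χ : Γ → ℂ, Irr X χ↾X ∧ ⟪χ↾K, θ↾K⟫ ≠ 0 ∧ χ↾Y = ψ↾Y := by
  have lY : Y ≤ X := e ▸ le_sup_right
  rw [inf_comm, ← inner_indA_fac n e d.isClassFunction a.isClassFunction] at f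
  obtain ⟨χ, u, v, w⟩ := exists_between (e ▸ le_sup_left) (ch_indA lY d.isCharacter) f
  rw [inner_indA lY u.isClassFunction] at v
  exact ⟨χ, u, w, (d.eq_of_inner_ne_zero (irr_res_sup n e a i c u w) v).symm⟩

theorem exists_sep_step [Fact p.Prime] (h : IsPSolvable p X) (l : L < X) (n : X ≤ nrm L) :
    ∃ K, L < K ∧ K ≤ X ∧ X ≤ nrm K ∧ ((∀ x ∈ K, ∃ k, x ^ p ^ k ∈ L) ∨ (L.relIndex K).Coprime p) := by
  have k : ∀ π, Opi π (im (qm L) X) ≠ ⊥ → L < Omod π L X := fun π o =>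
    (self_le_Omod π l.le n).lt_of_ne fun e => o (by rw [← im_qm_Omod π n, ← e, im_qm_self])
  rcases eq_or_ne (Op' p (im (qm L) X)) ⊥ with e | e
  · refine ⟨_, k {p} fun o => l.not_ge ?_, Omod_le _ _ _, le_nrm_Omod _ _ _,
      Or.inl ((isPGroup_iff_piN_relIndex ((Omod_le _ _ _).trans n)).1 (piN_relIndex_Omod _ n))⟩
    have := ps_chP (ps_im (f := qm L) h n) e
    rw [o, cen_bot, inf_top_eq, le_bot_iff, im_eq_bot_iff n, kr_qm] at this
    exact this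
  · exact ⟨_, k _ e, Omod_le _ _ _, le_nrm_Omod _ _ _, Or.inr (piN_compl_iff.1 (piN_relIndex_Omod _ n))⟩

/-- the McKay-type equality for all smaller configurations inside `Γ` -/
def MKlt (p : ℕ) (b : Prop) (Γ : Type*) [Group Γ] [Finite Γ] (n : ℕ) : Prop :=
  ∀ (X L P : Subgroup Γ) (ν : Γ → ℂ), L.relIndex X < n → IsPSolvable p X → SyM p L P X → X ≤ nrm L → Irr L ν↾L →
    P ≤ iA L ν → (b → Rl L ν) → ov p b X L ν = ov p b (X ⊓ nrm P) L ν

theorem relIndex_lt_left (a : L < K) (c : K ≤ X) : K.relIndex X < L.relIndex X := by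
  rw [← Subgroup.relIndex_mul_relIndex _ _ _ a.le c]
  exact lt_mul_of_one_lt_left (relIndex_pos _ _) ((Nat.one_lt_iff_ne_zero_and_ne_one).2 ⟨(relIndex_pos _ _).ne',
    mt Subgroup.relIndex_eq_one.1 a.not_ge⟩)

theorem relIndex_lt_right (a : L ≤ K) (c : K < X) : L.relIndex K < L.relIndex X := by
  rw [← Subgroup.relIndex_mul_relIndex _ _ _ a c.le]
  exact lt_mul_of_one_lt_right (relIndex_pos _ _) ((Nat.one_lt_iff_ne_zero_and_ne_one).2 ⟨(relIndex_pos _ _).ne',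
    mt Subgroup.relIndex_eq_one.1 c.not_ge⟩)

theorem mk_cliff [hp : Fact p.Prime] (ih : MKlt p b Γ (L.relIndex X)) (s : IsPSolvable p X) (h : SyM p L P X)
    (n : X ≤ nrm L) (a : Irr L ν↾L) (i : P ≤ iA L ν) (r : b → Rl L ν)
    (k : X ≤ iA L ν → ov p b X L ν = ov p b (X ⊓ nrm P) L ν) : ov p b X L ν = ov p b (X ⊓ nrm P) L ν := by
  rcases (inf_le_left : X ⊓ iA L ν ≤ X).eq_or_lt with e | e
  · exact k (inf_eq_left.1 e)
  have lY : P ≤ X ⊓ nrm P := le_inf h.le' (le_nrm_self P)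
  rw [ov_clifford hp.out (h.le.trans h.le') n a r (h.nd' i), ov_clifford hp.out (h.le.trans lY) (inf_le_left.trans n) a r
    ((h.mono lY inf_le_left).nd' i), ih _ L P ν (relIndex_lt_right (h.le.trans (le_inf h.le' i)) e)
    (ps_of_le s inf_le_left) (h.mono (le_inf h.le' i) inf_le_left) (inf_le_left.trans n) a i r, inf_right_comm]

theorem mk_step [hp : Fact p.Prime] (hb : b → p = 2) (ih : MKlt p b Γ (L.relIndex X)) (s : IsPSolvable p X)
    (h : SyM p L P X) (a : Irr L ν↾L) (i : X ≤ iA L ν) (r : b → Rl L ν)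
    (k : ∀ K, L ≤ K → K ≤ X → X ≤ nrm K → (L.relIndex K).Coprime p → X ≤ nrm (K ⊔ P) →
      ov p b X L ν = ov p b (X ⊓ nrm P) L ν) : ov p b X L ν = ov p b (X ⊓ nrm P) L ν := by
  have n := i.trans iA_le_nrm
  rcases (h.le.trans h.le').eq_or_lt with e | e
  · rw [inf_eq_left.2 (n.trans (le_antisymm h.le (h.le'.trans e.ge) ▸ le_rfl))]
  obtain ⟨K, k1, k2, k3, k4⟩ := exists_sep_step s e n
  have h' := h.sup k1.le k2 (h.le'.trans k3)
  have f := ov_fib hb k1.le h' k3 a i fun θ u v w => ih X K _ θ (relIndex_lt_left k1 k2) s h' k3 u v w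
  rcases k4 with k4 | k4
  · rwa [sup_eq_right.2 (h.le_of_pw k1.le k2 k3 n k4)] at f
  rcases (inf_le_left : X ⊓ nrm (K ⊔ P) ≤ X).eq_or_lt with e' | e'
  · exact k K k1.le k2 k3 k4 (inf_eq_left.1 e')
  have l : P ≤ X ⊓ nrm (K ⊔ P) := le_inf h.le' (le_sup_right.trans (le_nrm_self _))
  rw [f, ih _ L P ν (relIndex_lt_right (h.le.trans l) e') (ps_of_le s inf_le_left) (h.mono l inf_le_left)
    (inf_le_left.trans n) a (h.le'.trans i) r]
  exact congrArg (ov p b · L ν) (le_antisymm (inf_le_inf_right _ inf_le_left) (le_inf (le_inf inf_le_left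
    (nrm_sup (inf_le_left.trans k3) inf_le_right)) inf_le_right))

theorem SyM.frattini [Fact p.Prime] (h : SyM p L P X) (n : X ≤ nrm L) (l : K ≤ X) (m : P ≤ nrm K) (k : X ≤ nrm (K ⊔ P)) :
    K ⊔ X ⊓ nrm P = X := by
  refine le_antisymm (sup_le l inf_le_left) fun x u => ?_
  have l' := sup_le l h.le'
  obtain ⟨t, v, w⟩ := ((h.cj (n u) (le_nrm_self X u)).mono (cj_le_of_mem_nrm (k u) le_sup_right) l').conj
    (h.mono le_sup_right l') (l'.trans n)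
  rw [← mul_mem_cancel_left ((sup_le_sup_left (le_inf h.le' (le_nrm_self P)) K) v)]
  exact (le_sup_right : _ ≤ K ⊔ _) ⟨mul_mem (l' v) u, cj_eq_self_iff.1 (by rw [cj_mul, w])⟩

theorem fx_iff : Fx conj K α ↔ Rl K α := Iff.rfl

theorem Ov.over_real (h : Ov 2 True X L ν χ) (l : L ≤ K) (m : K ≤ X) (n : X ≤ nrm K) (n' : K ≤ nrm L)
    (o : Odd (L.relIndex K)) (a : Irr L ν↾L) (r : Rl L ν) (c : Irr K θ↾K) (d : Rl K θ) (e : θ↾L = ν↾L) :
    ⟪χ↾K, θ↾K⟫ ≠ 0 := by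
  obtain ⟨η, u, v, w⟩ := exists_between l (ch_mono h.irr.isCharacter m) h.ne
  obtain ⟨ξ, -, -, -, -, f⟩ := invG_conj.over a (fx_iff.2 r) l n' o
  rwa [f θ c (fx_iff.2 d) (by rw [e, a.inner_self]; exact one_ne_zero),
    ← f η u (fx_iff.2 (rl_of_under m n h.irr h.deg (h.real trivial) u v)) w]

/-- The number of real characters of odd degree over a real character is a McKay-type invariant. -/
theorem mk_real (s : IsPSolvable 2 X) (h : SyM 2 L P X) (n : X ≤ nrm L) (a : Irr L ν↾L) (i : P ≤ iA L ν) (r : Rl L ν) :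
    ov 2 True X L ν = ov 2 True (X ⊓ nrm P) L ν := by
  suffices ∀ m, MKlt 2 True Γ m from this _ X L P ν (Nat.lt_succ_self _) s h n a i fun _ => r
  clear * -
  intro m
  induction m with
  | zero => exact fun _ _ _ _ h => (Nat.not_lt_zero _ h).elim
  | succ m ih =>
  intro X L P ν lt s h n a i r
  have ih' : MKlt 2 True Γ (L.relIndex X) := fun X' L' P' ν' u => ih X' L' P' ν' (by omega)
  refine mk_cliff ih' s h n a i r fun i => mk_step (fun _ => rfl) ih' s h a i r fun K k1 k2 k3 k4 k5 => ?_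
  have o := Nat.coprime_two_right.1 k4
  have e := h.frattini n k2 (h.le'.trans k3) k5
  have lP : P ≤ X ⊓ nrm P := le_inf h.le' (le_nrm_self P)
  generalize X ⊓ nrm P = Y at *
  have lY : Y ≤ X := e ▸ le_sup_right
  have lL := h.le.trans lP
  obtain ⟨θ, t1, t2, t3, t4, t5⟩ := invG_conj.over a (fx_iff.2 (r trivial)) k1 (k2.trans n) o
  replace t4 := t4 (k2.trans i)
  have j : X ≤ iA K θ := fun x u => ⟨k3 u, t5 _ (irr_cf t1 (k3 u)) (t2.cf (k3 u)) (by rwa [inner_cf_left (i u)])⟩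
  have c : Irr ↥(K ⊓ Y) θ↾↥(K ⊓ Y) := irr_of_res (ch_mono t1.isCharacter inf_le_left) (le_inf k1 lL) (t4 ▸ a)
  have ox : ∀ {χ}, Ov 2 True X L ν χ → ⟪χ↾K, θ↾K⟫ ≠ 0 := fun u =>
    u.over_real k1 k2 k3 (k2.trans n) o a (r trivial) t1 t2 t4
  refine ov_eq (k1.trans k2) lL (fun α β => (am α)↾Y = β) (fun α u => ⟨α, ⟨irr_res_sup k3 e t1 j c u.irr (ox u), u.deg,
    fun o => (u.real o).mono lY, u.ne⟩, am_res_res lY⟩) (fun α β β' _ _ _ u v => u.symm.trans v)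
    (fun α α' β u v _ f g => inj_res_sup k3 e t1 j c u.irr v.irr (ox u) (ox v) (by
      rw [am_res_res lY] at f g; exact f.trans g.symm)) fun β u => ?_
  obtain ⟨χ, v1, v2, v3⟩ := surj_res_sup k3 e t1 j c u.irr (u.over_real (le_inf k1 lL) inf_le_right
    (nrm_inf (lY.trans k3) (le_nrm_self Y)) (inf_le_left.trans (k2.trans n))
    (o.of_dvd_nat (Dvd.intro _ (Subgroup.relIndex_mul_relIndex _ _ _ (le_inf k1 lL) inf_le_left))) a (r trivial) c
    (Rl.mono t2 inf_le_left) t4)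
  exact ⟨χ, ⟨v1, dg_of_eq v3 ▸ u.deg, fun o => inj_res_sup k3 e t1 j c (χ := fun x => conj (χ x)) v1.conj v1
    ((fx_iff.1 t2) ▸ inner_conjA v2) v2 ((u.real o).congr v3.symm), res_eq_mono v3 lL ▸ u.ne⟩, (am_res_res lY).trans v3⟩

end
end H3
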