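import Cfsg.Agent.H3.MK2

/-! # Gallagher's count of characters over an invariant character; the Okuyama–Wajima argument -/

open Cfsg H7
open scoped ComplexConjugate commutatorElement
set_option maxSynthPendingDepth 3

namespace H3
open H3
open H2 (IsSylowIn exists_isSylowIn)

noncomputable section

variable {Γ : Type*} [Group Γ] {A B C D E H K L M N P S T W X Y : Subgroup Γ} {α β χ ψ ν θ η ξ φ : Γ → ℂ} {p : ℕ}
  {x : Γ}

/-- `θ ∈ Irr K` extends to `W` -/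
def ExtA (K W : Subgroup Γ) (θ : Γ → ℂ) : Prop := ∃ χ : Γ → ℂ, Irr W χ↾W ∧ χ↾K = θ↾K

theorem ExtA.congr (h : ExtA K W θ) (e : θ↾K = η↾K) : ExtA K W η := let ⟨χ, a, c⟩ := h; ⟨χ, a, c.trans e⟩

theorem le_cmod_symm (n : A ≤ nrm N) (h : B ≤ cmod N A) : A ≤ cmod N B := le_cmod.2 ⟨n, comm_le_of_cmod h⟩

theorem self_le_cmod (n : A ≤ nrm N) : N ≤ cmod N A := le_cmod.2 ⟨le_nrm_self N, comm_le_left n⟩

theorem zpowers_le_cmod (n : x ∈ nrm N) : Subgroup.zpowers x ≤ cmod N (Subgroup.zpowers x) :=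
  le_cmod.2 ⟨Subgroup.zpowers_le.2 n, by
    rw [comm_eq_bot.2 (by rw [cen_zpowers]; exact Subgroup.zpowers_le.2 (self_mem_cen1 x))]; exact bot_le⟩

theorem mem_of_cmod {t k : Γ} (h : t ∈ cmod M (Subgroup.zpowers x)) (a : k ∈ M) : t * (k * x) * t⁻¹ * x⁻¹ ∈ M := by
  have := mul_mem (nconj_mem (mem_cmod.1 h).1 a) ((mem_cmod.1 h).2 x (Subgroup.mem_zpowers x))
  rwa [commutatorElement_def, show t * k * t⁻¹ * (t * x * t⁻¹ * x⁻¹) = t * (k * x) * t⁻¹ * x⁻¹ by group] at this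

theorem comm_mem_iff {t : Γ} (n : t ∈ nrm M) (m : x ∈ nrm M) : ⁅t, x⁆ ∈ M ↔ Commute (ev (qm M) t) (ev (qm M) x) := by
  rw [← commutatorElement_eq_one_iff_commute, ← ev_comm n m, ev_eq_one_iff (by
    rw [commutatorElement_def]; exact mul_mem (mul_mem (mul_mem n m) (inv_mem n)) (inv_mem m)), kr_qm]

theorem cmod_of_comm {t : Γ} (n : t ∈ nrm M) (m : x ∈ nrm M) (h : ⁅t, x⁆ ∈ M) : t ∈ cmod M (Subgroup.zpowers x) :=
  mem_cmod.2 ⟨n, by
    rintro _ ⟨j, rfl⟩
    rw [comm_mem_iff n (zpow_mem m j), ev_zpow m]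
    exact ((comm_mem_iff n m).1 h).zpow_right j⟩

theorem cmod_of_mem {t k : Γ} (n : t ∈ nrm M) (m : x ∈ nrm M) (a : k ∈ M) (h : t * (k * x) * t⁻¹ * x⁻¹ ∈ M) :
    t ∈ cmod M (Subgroup.zpowers x) :=
  cmod_of_comm n m ((mul_mem_cancel_left (nconj_mem n a)).1 (by
    rwa [commutatorElement_def, show t * k * t⁻¹ * (t * x * t⁻¹ * x⁻¹) = t * (k * x) * t⁻¹ * x⁻¹ by group]))

variable [Finite Γ]

theorem ExtA.mono (h : ExtA K W θ) (a : Irr K θ↾K) (l : K ≤ X) (m : X ≤ W) : ExtA K X θ :=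
  let ⟨χ, u, v⟩ := h; ⟨χ, irr_of_res (ch_mono u.isCharacter m) l (v ▸ a), v⟩

open Classical in
/-- cut a function down to the coset `M x` -/
def cut (M : Subgroup Γ) (x : Γ) (ξ : Γ → ℂ) : Γ → ℂ := fun y => if y * x⁻¹ ∈ M then ξ y else 0

theorem inner_cut (l : M ≤ T) (h : x ∈ T) : ord T * ⟪α↾T, (cut M x ξ)↾T⟫ = ord M * av M α ξ x := by
  rw [av, card_mul_inner, card_mul_inner]
  refine (Fintype.sum_of_injective (fun m : M => (⟨m * x, mul_mem (l m.2) h⟩ : T)) (fun a c e =>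
    Subtype.ext (mul_right_cancel (congrArg Subtype.val e))) _ _ (fun y u => ?_) fun m => by simp [cut]).symm
  rw [cut, if_neg fun o => u ⟨⟨_, o⟩, Subtype.ext (by simp)⟩, map_zero, mul_zero]

theorem sum_av_sq (l : M ≤ T) (n : T ≤ nrm M) (h : x ∈ T) :
    ord M * ∑ χ : IrrCharacter T, av M (am χ.1) ξ x * conj (av M (am χ.1) ξ x) =
      ∑ t : ↥(T ⊓ cmod M (Subgroup.zpowers x)), av M (cf t ξ) ξ x := by
  classical
  have c : IsClassFunction T (∑ t : T, (cf (t : Γ) (cut M x ξ))↾T) := fun g y => by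
    rw [Finset.sum_apply, Finset.sum_apply, ← Equiv.sum_comp (Equiv.mulRight y⁻¹)]
    simp [cf_def, mul_assoc]
  have e := c.inner_eq_sum (cut M x ξ)↾T
  have e1 : ∀ χ : IrrCharacter T, ⟪(cut M x ξ)↾T, χ.1⟫ = (ord T : ℂ)⁻¹ * ord M * conj (av M (am χ.1) ξ x) := fun χ => by
    rw [← inner_conj_symm, ← am_res χ.1, (eq_inv_mul_iff_mul_eq₀ (card_ne_zero T)).2 (inner_cut l h), am_res]
    simp [mul_assoc]
  have e2 : ∀ (χ : IrrCharacter T) (t : T), ⟪(cf (t : Γ) (cut M x ξ))↾T, χ.1⟫ = ⟪(cut M x ξ)↾T, χ.1⟫ := fun χ t => by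
    rw [← am_res χ.1, inner_cf_left (self_le_iA (irr_am χ).isClassFunction t.2)]
  have e3 : ∀ t : T, ⟪(cf (t : Γ) (cut M x ξ))↾T, (cut M x ξ)↾T⟫ = (ord T : ℂ)⁻¹ * ord M *
      if (t : Γ) ∈ T ⊓ cmod M (Subgroup.zpowers x) then av M (cf t ξ) ξ x else 0 := fun t => by
    rw [(eq_inv_mul_iff_mul_eq₀ (card_ne_zero T)).2 (inner_cut l h), mul_assoc]
    congr 2
    split_ifs with u
    · exact congrArg (⟪·, _⟫) (funext fun m => if_pos (mem_of_cmod u.2 m.2))
    · rw [av, show (fun m : M => cf (t : Γ) (cut M x ξ) (m * x)) = 0 from funext fun m =>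
        if_neg fun o => u ⟨t.2, cmod_of_mem (n t.2) (n h) m.2 o⟩, inner_zero_left]
  simp only [inner_sum_left, e2, e1, e3, Finset.sum_const, Finset.card_univ, ← Nat.card_eq_fintype_card, nsmul_eq_mul,
    ← Finset.mul_sum, map_mul, map_inv₀, map_natCast, Complex.conj_conj] at e
  rw [← Fintype.sum_of_injective (fun t : ↥(T ⊓ cmod M (Subgroup.zpowers x)) => (⟨t, t.2.1⟩ : T)) (fun a c e =>
    Subtype.ext (congrArg (fun y : T => (y : Γ)) e)) (fun t => av M (cf t ξ) ξ x) _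
    (fun y u => if_neg fun o => u ⟨⟨_, o⟩, rfl⟩) fun t => (if_pos t.2).symm] at e
  refine mul_left_cancel₀ (mul_ne_zero (inv_ne_zero (card_ne_zero T)) (card_ne_zero M)) (Eq.trans ?_ e.symm)
  rw [Finset.mul_sum, Finset.mul_sum]
  refine Finset.sum_congr rfl fun χ _ => ?_
  have := card_ne_zero T
  field_simp

theorem av_smul {u v : ℂ} (a : ∀ k ∈ M, α (k * x) = u * ξ (k * x)) (c : ∀ k ∈ M, β (k * x) = v * η (k * x)) :
    av M α β x = u * conj v * av M ξ η x := by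
  rw [av, show (fun y : M => α (y * x)) = u • fun y : M => ξ (y * x) from funext fun y => a y y.2,
    show (fun y : M => β (y * x)) = v • fun y : M => η (y * x) from funext fun y => c y y.2, inner_smul_left,
    inner_smul_right, mul_assoc]
  rfl

open Classical in
theorem sum_av_over (l : M ≤ T) (a : Irr M η↾M) (i : T ≤ iA M η) (h : x ∈ T) :
    ∑ χ : IrrCharacter T with ⟪(am χ.1)↾M, η↾M⟫ ≠ 0, av M (am χ.1) (am χ.1) x =
      if ∀ t ∈ T ⊓ cmod M (Subgroup.zpowers x), ExtA M (M ⊔ Subgroup.zpowers x ⊔ Subgroup.zpowers t) η then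
        (M.relIndex (T ⊓ cmod M (Subgroup.zpowers x)) : ℂ) else 0 := by
  have n := i.trans iA_le_nrm
  obtain ⟨ξ, u, v⟩ := exists_ext_cyc rfl a (i h)
  generalize e : M ⊔ Subgroup.zpowers x = E at *
  have lE : M ≤ E := e ▸ le_sup_left
  have xE : x ∈ E := e.le ((le_sup_right : _ ≤ M ⊔ _) (Subgroup.mem_zpowers x))
  have ET : E ≤ T := e ▸ sup_le l (Subgroup.zpowers_le.2 h)
  have nE := ET.trans n
  rw [← v] at a
  rw [← iA_congr v] at i
  have o : av M ξ ξ x = 1 := av_self lE nE u.isCharacter a xE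
  have lC : M ≤ T ⊓ cmod M (Subgroup.zpowers x) := le_inf l (self_le_cmod (Subgroup.zpowers_le.2 (n h)))
  generalize eC : T ⊓ cmod M (Subgroup.zpowers x) = C at *
  have nC : C ≤ nrm E := e ▸ le_nrm_of_comm_le (comm_sup_le (le_sup_left.trans (le_nrm_self _))
    (le_sup_right.trans (le_nrm_self _)) ((comm_le_left (eC.ge.trans (inf_le_left.trans n))).trans le_sup_left)
    ((comm_le_of_cmod (eC.ge.trans inf_le_right)).trans le_sup_left))
  have U : ∀ t ∈ C, ∀ k ∈ M, cf t ξ (k * x) = av M (cf t ξ) ξ x * ξ (k * x) := fun t c => by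
    obtain ⟨w, f⟩ := exists_coset_smul lE nE u.isCharacter a (ch_cf u.isCharacter (nC c)) (e := 1)
      (by rw [one_smul]; exact (i (eC.ge c).1).2) xE
    rwa [av_smul f (v := 1) (η := ξ) fun _ _ => (one_mul _).symm, o, map_one, mul_one, mul_one]
  let f : C →* ℂ := ⟨⟨fun t => av M (cf t ξ) ξ x, by simpa [cf_one] using o⟩, fun t s => by
    refine (av_smul (u := av M (cf t ξ) ξ x * av M (cf s ξ) ξ x) (ξ := ξ) (v := 1) (η := ξ) (fun k c => ?_)
      fun _ _ => (one_mul _).symm).trans (by simp [o])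
    have := U t t.2 _ (mem_of_cmod (eC.ge s.2).2 c)
    rw [inv_mul_cancel_right] at this
    rw [mul_assoc, ← U s s.2 k c, Subgroup.coe_mul, ← cf_cf]
    exact this⟩
  have s1 : ∑ χ : IrrCharacter T with ⟪(am χ.1)↾M, η↾M⟫ ≠ 0, av M (am χ.1) (am χ.1) x =
      ∑ χ : IrrCharacter T, av M (am χ.1) ξ x * conj (av M (am χ.1) ξ x) := by
    rw [Finset.sum_filter]
    refine Finset.sum_congr rfl fun χ _ => ?_
    rw [← v]
    split_ifs with c
    · obtain ⟨m, -, -, g⟩ := res_eq_smulA l i (irr_am χ) a c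
      obtain ⟨w, f⟩ := exists_coset_smul lE nE u.isCharacter a (ch_mono (irr_am χ).isCharacter ET) g xE
      rw [av_smul f f, av_smul f (v := 1) (η := ξ) fun _ _ => (one_mul _).symm, o]
      simp
    · rw [of_not_not (mt (inner_ne_of_av lE nE (ch_mono (irr_am χ).isCharacter ET) u.isCharacter xE) c), zero_mul]
  refine mul_left_cancel₀ (card_ne_zero M) ?_
  rw [s1, sum_av_sq l n h, eC, show ∑ t : C, av M (cf t ξ) ξ x = ∑ t, f t from rfl, sum_hom_units, mul_ite, mul_zero,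
    ← Nat.card_eq_fintype_card, ← relIndex_mul_card' lC, mul_comm, Nat.cast_ite, Nat.cast_mul, Nat.cast_zero]
  refine if_congr ⟨fun c t d => ?_, fun c => MonoidHom.ext fun t => ?_⟩ rfl rfl
  · have A := ch_av lE nE (ch_cf u.isCharacter (nC d)) u.isCharacter
    have a1 : av M (cf t ξ) ξ 1 = 1 := by rw [av_one, (i (eC.ge d).1).2, a.inner_self]
    have ax : av M (cf t ξ) ξ x = 1 := by
      have : f ⟨t, d⟩ = 1 := by rw [c]; rfl
      exact this
    have k0 : E ≤ (charKer (av M (cf t ξ) ξ)↾E).map E.subtype := e.ge.trans (sup_le (fun k o => ⟨⟨k, lE o⟩,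
      A.mem_charKer.2 (show av M (cf t ξ) ξ k = av M (cf t ξ) ξ 1 by rw [← av_mul (t := 1) o, mul_one]), rfl⟩)
      (Subgroup.zpowers_le.2 ⟨⟨x, xE⟩, A.mem_charKer.2 (ax.trans a1.symm), rfl⟩))
    have k : ∀ y : E, av M (cf t ξ) ξ y = 1 := fun y => by
      obtain ⟨z, z1, z2⟩ := k0 y.2
      rw [← show (z : Γ) = y from z2, ← a1]
      exact A.mem_charKer.1 z1
    obtain ⟨χ, g1, g2⟩ := exists_ext_cyc rfl u ⟨nC d, (irr_cf u (nC d)).eq_of_inner_ne_zero u (by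
      rw [← mean_av lE]; simp [k])⟩
    exact ⟨χ, g1, (res_eq_mono g2 lE).trans v⟩
  · obtain ⟨χ, g1, g2⟩ := c t t.2
    have g3 := ch_mono g1.isCharacter le_sup_left
    obtain ⟨w, f⟩ := exists_coset_smul lE nE u.isCharacter a g3 (e := 1) (by rw [one_smul, g2, v]) xE
    have w0 : w ≠ 0 := by
      rintro rfl
      simpa using (av_smul f f).symm.trans (av_self lE nE g3 ((g2.trans v.symm).symm ▸ a) xE)
    refine (av_smul (u := 1) (ξ := ξ) (v := 1) (η := ξ) (fun k c => mul_left_cancel₀ w0 ?_)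
      fun _ _ => (one_mul _).symm).trans (by simp [o])
    have := f _ (mem_of_cmod (eC.ge t.2).2 c)
    rw [inv_mul_cancel_right] at this
    rw [one_mul, ← f k c, cf_def, ← this]
    exact cf_apply g1.isClassFunction ((le_sup_right : _ ≤ E ⊔ _) (Subgroup.mem_zpowers _))
      ((le_sup_left : E ≤ _) (mul_mem (lE c) xE))

/-- the number of irreducible characters of `X` over `ν` -/
def cov (X L : Subgroup Γ) (ν : Γ → ℂ) : ℕ := Nat.card {χ : IrrCharacter X // ⟪(am χ.1)↾L, ν↾L⟫ ≠ 0}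

open Classical in
theorem cov_eq_mean (l : M ≤ T) : (cov T M η : ℂ) = (ord T : ℂ)⁻¹ * ∑ x : T,
    ∑ χ : IrrCharacter T with ⟪(am χ.1)↾M, η↾M⟫ ≠ 0, av M (am χ.1) (am χ.1) x := by
  rw [Finset.sum_comm, Finset.mul_sum, Finset.sum_congr rfl fun χ _ => (mean_av l).trans (irr_am χ).inner_self,
    Finset.sum_const, cov, Nat.card_eq_fintype_card, Fintype.card_subtype, nsmul_eq_mul, mul_one]

/-- Gallagher: the number of characters over an invariant character only depends on extendibility to abelian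
sections. -/
theorem cov_eq (e : M ⊔ Y = T) (a : Irr M η↾M) (i : T ≤ iA M η) (a' : Irr ↥(M ⊓ Y) ξ↾↥(M ⊓ Y)) (i' : Y ≤ iA (M ⊓ Y) ξ)
    (h : ∀ W, M ⊓ Y ≤ W → W ≤ Y → ⁅W, W⁆ ≤ M → (ExtA M (M ⊔ W) η ↔ ExtA (M ⊓ Y) W ξ)) :
    cov T M η = cov Y (M ⊓ Y) ξ := by
  classical
  have lM : M ≤ T := e ▸ le_sup_left
  have lY : Y ≤ T := e ▸ le_sup_right
  have n := i.trans iA_le_nrm
  refine Nat.cast_injective (R := ℂ) ?_
  rw [cov_eq_mean lM, cov_eq_mean inf_le_right, mean_eq (lY.trans n) e (F := fun x =>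
    ∑ χ : IrrCharacter T with ⟪(am χ.1)↾M, η↾M⟫ ≠ 0, av M (am χ.1) (am χ.1) x) fun k u y _ => by simp only [av_mul u]]
  refine congrArg _ (Finset.sum_congr rfl fun ⟨y, hy⟩ _ => ?_)
  rw [sum_av_over lM a i (lY hy), sum_av_over inf_le_right a' i' hy]
  have z := Subgroup.zpowers_le.2 hy
  have e1 : Y ⊓ cmod (M ⊓ Y) (Subgroup.zpowers y) = Y ⊓ cmod M (Subgroup.zpowers y) :=
    le_antisymm (le_inf inf_le_left (le_cmod.2 ⟨inf_le_left.trans (lY.trans n),
      (le_cmod.1 inf_le_right).2.trans inf_le_left⟩)) (le_inf inf_le_left (le_cmod.2 ⟨inf_le_left.trans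
        (i'.trans iA_le_nrm), le_inf (le_cmod.1 inf_le_right).2 (comm_le_of_le inf_le_left z)⟩))
  have e2 : T ⊓ cmod M (Subgroup.zpowers y) = M ⊔ Y ⊓ cmod M (Subgroup.zpowers y) := by
    rw [← e, modular' (lY.trans n) (self_le_cmod (z.trans (lY.trans n)))]
  have k : ∀ t ∈ Y ⊓ cmod M (Subgroup.zpowers y), (ExtA M (M ⊔ Subgroup.zpowers y ⊔ Subgroup.zpowers t) η ↔
      ExtA (M ⊓ Y) (M ⊓ Y ⊔ Subgroup.zpowers y ⊔ Subgroup.zpowers t) ξ) := fun t u => by
    have z' := Subgroup.zpowers_le.2 u.1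
    have m := sup_le (sup_le inf_le_right z) z' (a := M ⊓ Y ⊔ _)
    rw [← h _ (le_sup_left.trans le_sup_left) m (le_cmod.1 (sup_le (sup_le (inf_le_left.trans (self_le_cmod
      (m.trans (lY.trans n)))) (le_cmod_symm (z.trans (lY.trans n)) (sup_le (sup_le (inf_le_left.trans (self_le_cmod
      (z.trans (lY.trans n)))) (zpowers_le_cmod (n (lY hy)))) (Subgroup.zpowers_le.2 u.2))))
      (le_cmod_symm (z'.trans (lY.trans n)) (sup_le (sup_le (inf_le_left.trans (self_le_cmod (z'.trans (lY.trans n))))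
      (le_cmod_symm (z.trans (lY.trans n)) (Subgroup.zpowers_le.2 u.2))) (zpowers_le_cmod (n (lY u.1))))))).2,
      ← sup_assoc, ← sup_assoc, sup_inf_self]
  rw [e1, e2, sup_comm M, relIndex_sup_nrm (inf_le_left.trans (lY.trans n)), ← Subgroup.inf_relIndex_right (M ⊓ Y),
    inf_assoc, ← inf_assoc Y, inf_idem, Subgroup.inf_relIndex_right]
  refine if_congr ⟨fun c t u => (k t u).1 (c t (le_sup_left (a := Y ⊓ _) u)), fun c t u => ?_⟩ rfl rfl
  obtain ⟨s, w, m, v, rfl⟩ := (mem_sup_nrm (inf_le_left.trans (lY.trans n))).1 u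
  exact ((k s w).2 (c s w)).mono a (le_sup_left.trans le_sup_left) (sup_le le_sup_left (Subgroup.zpowers_le.2 (mul_mem
    (Subgroup.mem_sup_right (Subgroup.mem_zpowers s)) (Subgroup.mem_sup_left (Subgroup.mem_sup_left v)))))

end
end H3
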