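import Cfsg.Agent.H3.MK3

/-! # The Okuyama–Wajima extension theorem -/

open Cfsg H7
open scoped ComplexConjugate commutatorElement
set_option maxSynthPendingDepth 3

namespace H3
open H3
open H2 (IsSylowIn exists_isSylowIn)

noncomputable section

variable {Γ : Type*} [Group Γ] [Finite Γ] {A B C D E H K L M N P S T W X Y : Subgroup Γ}
  {α β χ ψ ν θ η ξ φ ζ w : Γ → ℂ} {p : ℕ} {x : Γ}

theorem Gl.mul (h : Gl p C α β) (a : Gen C w↾C) : Gl p C (w * α) (w * β) := by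
  obtain ⟨ε, Δ, b, c, d⟩ := h
  refine ⟨ε, w * Δ, b, a.mul c, funext fun x => ?_⟩
  have := congrFun d x
  simp only [Pi.add_apply, Pi.smul_apply, smul_eq_mul, Pi.mul_apply] at this ⊢
  rw [this]; ring

theorem irr_one_res (X : Subgroup Γ) : Irr X (1 : Γ → ℂ)↾X := isIrrCharacter_one

theorem irr_iff_lin (l : K ≤ E) (n : ⁅E, E⁆ ≤ K) (a : Irr E η↾E) : Irr K η↾K ↔
    ∀ w : Γ → ℂ, Irr E w↾E → w↾K = (1 : Γ → ℂ)↾K → (w * η)↾E = η↾E → w↾E = (1 : Γ → ℂ)↾E := by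
  haveI := normal_subgroupOf (le_nrm_of_comm_le' l n)
  refine ⟨fun h w b c d => gallagher_inj (N := K.subgroupOf E) a.isCharacter ((irr_sub l).2 h) b.isCharacter
    (irr_one_res E).isCharacter (fun x hx => (congrFun c ⟨x, hx⟩).trans (congrFun c 1).symm) (fun _ _ => rfl)
    (d.trans (one_mul _).symm), fun h => ?_⟩
  rw [← irr_sub l]
  refine ((ch_sub l).2 (ch_mono a.isCharacter l)).isIrr_of_inner_self ?_
  rw [inner_res_eq_card (commutator_le_sub n) a, Nat.cast_eq_one, Subgroup.card_eq_one, eq_bot_iff]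
  rintro ω ⟨h1, h2⟩
  have := h (am (lf ω)) (by rw [am_res]; exact lf_irr ω) (by
    rw [am_le l]; exact funext fun k => congrArg Units.val (mem_triv.1 h1 ⟨k, l k.2⟩ k.2)) (by
    show (am (lf ω))↾E * η↾E = _
    rw [am_res]; exact h2)
  rw [am_res] at this
  exact MonoidHom.ext fun x => Units.ext (congrFun this x)

/-- a class function on `E` that is `1` on `K` and irreducible is invariant under whatever acts trivially on `E/K` -/
theorem lin_iA (l : K ≤ E) (a : Irr E w↾E) (b : w↾K = (1 : Γ → ℂ)↾K) (nE : S ≤ nrm E) (c : ⁅S, E⁆ ≤ K) : S ≤ iA E w := by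
  obtain ⟨ω, e⟩ := a.isCharacter.exists_lf (congrFun b 1)
  refine fun s hs => mem_iA'.2 ⟨nE hs, fun x hx => ?_⟩
  have h1 : ⁅s, x⁆ ∈ K := c (Subgroup.commutator_mem_commutator hs hx)
  have h2 : w ⁅s, x⁆ = 1 := congrFun b ⟨_, h1⟩
  have h3 : s * x * s⁻¹ = ⁅s, x⁆ * x := by rw [commutatorElement_def]; group
  have h4 : ∀ y : E, w y = ω y := congrFun e
  rw [h3, show w (⁅s, x⁆ * x) = _ from h4 (⟨_, l h1⟩ * ⟨x, hx⟩), map_mul, Units.val_mul, ← h4, ← h4, h2, one_mul]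

theorem irr_mul_lin (a : Irr E w↾E) (b : w 1 = 1) (c : Irr E η↾E) : Irr E (w * η)↾E := by
  obtain ⟨ω, e⟩ := a.isCharacter.exists_lf b
  show Irr E (w↾E * η↾E)
  rw [e]; exact c.lf_mul ω

omit [Finite Γ] in
theorem iA_mul (a : S ≤ iA E w) (c : S ≤ iA E η) : S ≤ iA E (w * η) := fun s hs =>
  mem_iA'.2 ⟨(a hs).1, fun x hx => by rw [Pi.mul_apply, Pi.mul_apply, iA_apply (a hs) hx, iA_apply (c hs) hx]⟩

/-- irreducibility of the restriction to `K` is preserved by the Glauberman correspondence -/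
theorem irr_iff_gl (hp : p.Prime) (h : GlC p E S B) (e : K ⊔ B = E) (nK : B ≤ nrm K) (nE : S ≤ nrm E) (c : ⁅S, E⁆ ≤ K)
    (ab : ⁅B, B⁆ ≤ K) (a : Irr E η↾E) (i : S ≤ iA E η) (b : Irr B ζ↾B) (g : Gl p B η ζ) :
    Irr K η↾K ↔ Irr ↥(K ⊓ B) ζ↾↥(K ⊓ B) := by
  have lK : K ≤ E := e ▸ le_sup_left
  have lB : B ≤ E := e ▸ le_sup_right
  have n : E ≤ nrm K := e ▸ sup_le (le_nrm_self K) nK
  have ab' : ⁅E, E⁆ ≤ K := by
    have : E ≤ cmod K B := e ▸ sup_le (self_le_cmod nK) (le_cmod.2 ⟨nK, ab⟩)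
    have : E ≤ cmod K E := e ▸ sup_le (self_le_cmod (e ▸ n)) (e ▸ le_cmod_symm nK this)
    exact (le_cmod.1 this).2
  have i1 : E ≤ iA K (1 : Γ → ℂ) := le_iA (irr_one_res E).isClassFunction lK n
  have ne : ∀ {Y : Subgroup Γ} {w : Γ → ℂ}, w↾Y = (1 : Γ → ℂ)↾Y → ⟪w↾Y, (1 : Γ → ℂ)↾Y⟫ ≠ 0 := fun {Y w} h => by
    rw [h, (irr_one_res Y).inner_self]; exact one_ne_zero
  rw [irr_iff_lin lK ab' a, irr_iff_lin inf_le_right (le_inf ab (comm_le_left (le_nrm_self B))) b]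
  refine ⟨fun k w w1 w2 w3 => ?_, fun k w w1 w2 w3 => ?_⟩
  · obtain ⟨v, v1, v2, v3⟩ := surj_res_sup n e (irr_one_res K) i1 (irr_one_res _) w1 (ne w2)
    have v0 : v 1 = 1 := (congrFun v3 1).trans (congrFun w2 1)
    have v4 : v↾K = (1 : Γ → ℂ)↾K := funext fun x => (eq_deg_of_overA lK n v1 v2 x.2).trans v0
    rw [← v3]
    refine res_eq_mono (k v v1 v4 (h.inj _ _ ζ (irr_mul_lin v1 v0 a) a (iA_mul (lin_iA lK v1 v4 nE c) i) i b ?_ g)) lB
    refine (g.mul (gen_mono v1.isGen lB)).congr rfl ?_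
    show v↾B * ζ↾B = _
    rw [v3]; exact w3
  · have w0 : w 1 = 1 := congrFun w2 1
    have w4 : Irr B w↾B := irr_res_sup n e (irr_one_res K) i1 (irr_one_res _) w1 (ne w2)
    refine inj_res_sup n e (irr_one_res K) i1 (irr_one_res _) w1 (irr_one_res E) (ne w2) (ne rfl)
      (k w w4 (res_eq_mono w2 inf_le_left) ?_)
    exact ((g.mul w4.isGen).congr (res_eq_mono w3 lB) rfl).unique hp g (irr_mul_lin w4 w0 b) b

theorem ext_cyc_iff (l : K ≤ E) (n : x ∈ nrm E) (a : Irr K θ↾K) :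
    ExtA K (E ⊔ Subgroup.zpowers x) θ ↔ ∃ η : Γ → ℂ, Irr E η↾E ∧ η↾K = θ↾K ∧ x ∈ iA E η := by
  refine ⟨fun ⟨χ, b, c⟩ => ⟨χ, irr_of_res (ch_mono b.isCharacter le_sup_left) l (c ▸ a), c, le_iA b.isClassFunction
    le_sup_left (sup_le (le_nrm_self E) (Subgroup.zpowers_le.2 n)) (Subgroup.mem_sup_right (Subgroup.mem_zpowers x))⟩,
    fun ⟨η, b, c, d⟩ => ?_⟩
  obtain ⟨χ, e, f⟩ := exists_ext_cyc rfl b d
  exact ⟨χ, e, (res_eq_mono f l).trans c⟩

theorem ow_base (hp : p.Prime) (hS : IsPGroup p S) (cK : (ord K).Coprime p) (cB : (ord B).Coprime p) (nK : S ≤ nrm K)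
    (lB : B ≤ cen S) (l : K ⊓ cen S ≤ B) (bK : B ≤ nrm K) (ab : ⁅B, B⁆ ≤ K) (xK : x ∈ nrm K) (xS : x ∈ nrm S)
    (xB : x ∈ nrm B) (a : Irr K θ↾K) (i : S ≤ iA K θ) (b : Irr ↥(K ⊓ cen S) φ↾↥(K ⊓ cen S)) (g : Gl p (K ⊓ cen S) θ φ) :
    ExtA K (K ⊔ B ⊔ Subgroup.zpowers x) θ ↔ ExtA (K ⊓ cen S) (B ⊔ Subgroup.zpowers x) φ := by
  have sB : S ≤ cen B := le_cen_symm lB
  have nE : S ≤ nrm (K ⊔ B) := nrm_sup nK (sB.trans (cen_le_nrm B))
  have e1 : (K ⊔ B) ⊓ cen S = B := by rw [(prm_of_nrm' bK).modular' lB, sup_eq_right.2 l]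
  have e2 : K ⊓ B = K ⊓ cen S := le_antisymm (inf_le_inf_left _ lB) (le_inf inf_le_left l)
  haveI := Fact.mk hp
  have cE : (ord (K ⊔ B)).Coprime p := sup_comm B K ▸ coprime_sup bK cB cK
  have hE : GlC p (K ⊔ B) S B := by
    have := glC hp cE hS nE
    rwa [e1] at this
  have c : ⁅S, K ⊔ B⁆ ≤ K := comm_le_of_cmod (sup_le (self_le_cmod nK) (le_cmod.2 ⟨bK, by
    rw [comm_eq_bot.2 lB]; exact bot_le⟩))
  have xE : x ∈ nrm (K ⊔ B) := nrm_sup (Subgroup.zpowers_le.2 xK) (Subgroup.zpowers_le.2 xB) (Subgroup.mem_zpowers x)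
  have ab' : ⁅K ⊔ B, K ⊔ B⁆ ≤ K := by
    have : K ⊔ B ≤ cmod K B := sup_le (self_le_cmod bK) (le_cmod.2 ⟨bK, ab⟩)
    exact (le_cmod.1 (sup_le (self_le_cmod (sup_le (le_nrm_self K) bK)) (le_cmod_symm bK this))).2
  rw [ext_cyc_iff le_sup_left xE a, ext_cyc_iff l xB b]
  refine ⟨fun ⟨η, a1, a2, a3⟩ => ?_, fun ⟨ζ, a1, a2, a3⟩ => ?_⟩
  · obtain ⟨χ, c1, c2, c3⟩ := exists_over_ab (K := ⊥) nE le_sup_left ab' bot_le (by
      rw [Subgroup.relIndex_bot_left]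
      exact (coprime_of_isPGroup hS (cE.coprime_dvd_left (relIndex_dvd_card' _ _))).symm) a i
    obtain ⟨ω, d1, d2⟩ := exists_lf_mulA le_sup_left ab' c1 a1 (a2 ▸ c3)
    have i' : S ≤ iA (K ⊔ B) η := by
      rw [← iA_congr (α := am (lf ω) * χ) (by show (am (lf ω))↾↥(K ⊔ B) * _ = _; rw [am_res]; exact d2)]
      exact iA_mul (lin_iA le_sup_left (by rw [am_res]; exact lf_irr ω) (by
        rw [am_le le_sup_left]; exact funext fun k => congrArg Units.val (mem_triv.1 d1 ⟨k, _⟩ k.2)) nE c) c2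
    obtain ⟨ζ, f1, f2⟩ := hE.ex η a1 i'
    have := (irr_iff_gl hp hE rfl bK nE c ab a1 i' f1 f2).1 (a2 ▸ a)
    rw [e2] at this
    exact ⟨ζ, f1, ((f2.mono l).congr (res_eq_mono a2 inf_le_left) rfl).unique hp g this b,
      GlC.mem_iA hp f1 f2 le_sup_right xB a3⟩
  · obtain ⟨η, f1, f2, f3⟩ := hE.surj ζ a1
    have := (irr_iff_gl hp hE rfl bK nE c ab f1 f2 a1 f3).2 (by rw [e2, a2]; exact b)
    exact ⟨η, f1, (glC hp cK hS nK).inj _ _ φ this a (fun s hs => iA_mono (f2 hs) le_sup_left (nK hs)) i b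
      ((f3.mono l).congr rfl a2) g, hE.mem_iA' f1 f2 a1 f3 xE xS a3⟩

theorem cyc_of_chief (l : L ≤ S) (n : S ≤ nrm L) (hL : H ≤ nrm L) (hS : H ≤ nrm S) (ab : ⁅S, S⁆ ≤ L)
    (aH : ⁅H, H⁆ ≤ cen S) (c : ∀ M, L ≤ M → M ≤ S → H ≤ nrm M → M = L ∨ M = S) :
    ∃ x ∈ H, H ≤ H ⊓ cmod L S ⊔ Subgroup.zpowers x := by
  have h1 : IsMulCommutative (im (qm L) S) := isComm_iff.2 ((im_le_cen_iff n n).2 (by rwa [kr_qm]))
  have h2 := isCyclic_act_of_irred h1 (im_le_nrm (qm L) hS) (by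
    rw [← im_commutator hL hL]; exact im_le_cen _ aH) fun W w1 w2 => by
      have w3 : pre (qm L) W ≤ S := (pre_mono _ w1).trans (pre_im_of_le n (by rwa [kr_qm])).le
      rcases c _ (by simpa using kr_le_pre (qm L) W) w3 (le_nrm_pre hL w2) with e | e
      · left; rw [← im_pre_of_le w1, e, im_qm_self]
      · right; rw [← im_pre_of_le w1, e]
  obtain ⟨_, hb', h⟩ := cycMod_of_im (im_le_nrm (qm L) hS) h2
  obtain ⟨b, hb, rfl⟩ := (mem_im_of_le hL).1 hb'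
  have h3 : H ⊓ pre (qm L) (cen (im (qm L) S)) ⊔ Subgroup.zpowers b ≤ H := sup_le inf_le_left (Subgroup.zpowers_le.2 hb)
  rw [kr_act, ← im_inf_pre, ← im_zpowers (hL hb), ← im_sup (inf_le_left.trans hL)
    (Subgroup.zpowers_le.2 (hL hb)), im_le_im_iff hL (h3.trans hL), kr_qm] at h
  refine ⟨b, hb, (le_inf h le_rfl).trans ?_⟩
  rw [modular (h3.trans hL) h3]
  refine sup_le (sup_le_sup_right (le_inf inf_le_left (le_cmod.2 ⟨inf_le_left.trans hL, ?_⟩)) _)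
    (le_sup_of_le_left (le_inf inf_le_right (inf_le_left.trans (self_le_cmod n))))
  have := (im_le_cen_iff (f := qm L) (inf_le_left.trans hL) n).1 ((im_inf_pre H _).le.trans inf_le_right)
  rwa [kr_qm] at this

/-- Okuyama–Wajima -/
theorem ow (hp : p.Prime) (hS : IsPGroup p S) (cK : (ord K).Coprime p) (cH : (ord H).Coprime p) (nK : S ≤ nrm K)
    (hK : H ≤ nrm K) (nS : H ≤ nrm S) (l : K ⊓ cen S ≤ H) (ab : ⁅H, H⁆ ≤ K ⊓ cen S) (a : Irr K θ↾K) (i : S ≤ iA K θ)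
    (b : Irr ↥(K ⊓ cen S) φ↾↥(K ⊓ cen S)) (g : Gl p (K ⊓ cen S) θ φ) : ExtA K (K ⊔ H) θ ↔ ExtA (K ⊓ cen S) H φ := by
  haveI := Fact.mk hp
  induction hn : (S ⊓ cen K).relIndex S using Nat.strong_induction_on generalizing K S H θ φ with | _ n ih => ?_
  subst hn
  rcases (inf_le_left : S ⊓ cen K ≤ S).eq_or_lt with e | e
  · have e' : K ⊓ cen S = K := inf_eq_left.2 (le_cen_symm (inf_eq_left.1 e))
    rw [e'] at l b g ⊢
    have := gl_refl.unique hp g a b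
    rw [sup_eq_right.2 l]
    exact ⟨fun h => h.congr this, fun h => h.congr this.symm⟩
  have n0 : S ⊔ H ≤ nrm (S ⊓ cen K) := nrm_inf (sup_le (le_nrm_self S) nS) (nrm_cen (sup_le nK hK))
  obtain ⟨P, p1, p2, p3, p4⟩ := exists_min_inv_gt e (sup_le (le_nrm_self S) nS)
  rcases p2.eq_or_lt with rfl | p5
  · have s1 := (chief_ab (solv_im _ (solv_of_isPGroup hS)) e (le_sup_left.trans n0) p3 n0 p4).1
    obtain ⟨x, x1, x2⟩ := cyc_of_chief inf_le_left (le_sup_left.trans n0) (le_sup_right.trans n0) nS s1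
      (ab.trans inf_le_right) fun M m1 m2 m3 => p4 M m1 m2 (sup_le (le_nrm_of_comm_le' m2 (s1.trans m1)) m3)
    generalize eB : H ⊓ cmod (P ⊓ cen K) P = B at x2
    have b1 : B ≤ H := eB ▸ inf_le_left
    have b2 : H ≤ nrm B := eB ▸ nrm_inf (le_nrm_self H) (nrm_cmod (le_sup_right.trans n0) nS)
    have b3 : K ⊓ cen P ≤ B := eB ▸ le_inf l (le_cmod.2 ⟨l.trans (le_sup_right.trans n0), by
      rw [comm_eq_bot.2 inf_le_right]; exact bot_le⟩)
    have cB := cH.coprime_dvd_left (Subgroup.card_dvd_of_le b1)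
    have e1 : P ⊓ cen K ⊔ P ⊓ cen B = P := (cop_of_pgroup' cB (hS.to_le inf_le_left)
      (b1.trans (le_sup_right.trans n0))).sup_cen_of_comm_le inf_le_left (comm_le_of_cmod (eB ▸ inf_le_right))
    have e2 : K ⊓ cen (P ⊓ cen B) = K ⊓ cen P := le_antisymm (le_inf inf_le_left (by
      conv_rhs => rw [← e1]
      exact le_cen_sup (inf_le_left.trans (le_cen_symm inf_le_right)) inf_le_right))
      (inf_le_inf_left _ (cen_anti inf_le_left))
    have e3 : B ⊔ Subgroup.zpowers x = H := le_antisymm (sup_le b1 (Subgroup.zpowers_le.2 x1)) x2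
    have := ow_base (S := P ⊓ cen B) (θ := θ) (φ := φ) hp (hS.to_le inf_le_left) cK cB (inf_le_left.trans nK)
      (le_cen_symm inf_le_right) (e2 ▸ b3) (b1.trans hK) ((Subgroup.commutator_mono b1 b1).trans (ab.trans inf_le_left))
      (hK x1) (nrm_inf nS (nrm_cen b2) x1) (b2 x1) a (inf_le_left.trans i) (by rwa [e2]) (by rwa [e2])
    rwa [e2, sup_assoc, e3] at this
  · have hP := hS.to_le p2
    have hD : H ≤ nrm (K ⊓ cen P) := nrm_inf hK (nrm_cen (le_sup_right.trans p3))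
    have sD : S ≤ nrm (K ⊓ cen P) := nrm_inf nK (nrm_cen (le_sup_left.trans p3))
    have cD := cK.coprime_dvd_left (Subgroup.card_dvd_of_le (inf_le_left : K ⊓ cen P ≤ K))
    have lC : K ⊓ cen S ≤ K ⊓ cen P := inf_le_inf_left _ (cen_anti p2)
    have eC : K ⊓ cen P ⊓ cen S = K ⊓ cen S := le_antisymm (inf_le_inf_right _ inf_le_left) (le_inf lC inf_le_right)
    obtain ⟨ψ, q1, q2⟩ := (glC hp cK hP (p2.trans nK)).ex θ a (p2.trans i)
    have q3 : S ≤ iA (K ⊓ cen P) ψ := fun s hs => GlC.mem_iA hp q1 q2 inf_le_left (sD hs) (i hs)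
    obtain ⟨φ', r1, r2⟩ := (glC hp cD hS sD).ex ψ q1 q3
    rw [eC] at r1 r2
    have r3 : Gl p (K ⊓ cen S) ψ φ := r2.congr rfl (((q2.mono lC).trans r2).unique hp g r1 b)
    have t1 := ih _ (by
      rw [show P ⊓ cen K = S ⊓ cen K from le_antisymm (inf_le_inf_right _ p2) (le_inf p1.le inf_le_right)]
      exact relIndex_lt_right p1.le p5) hP cK (H := K ⊓ cen P ⊔ H) (sup_comm H _ ▸ coprime_sup hD cH cD) (p2.trans nK)
      (sup_le (inf_le_left.trans (le_nrm_self K)) hK) (sup_le (inf_le_right.trans (cen_le_nrm P)) (le_sup_right.trans p3))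
      le_sup_left (by
        have : K ⊓ cen P ⊔ H ≤ cmod (K ⊓ cen P) H := sup_le (self_le_cmod hD) (le_cmod.2 ⟨hD, ab.trans lC⟩)
        exact (le_cmod.1 (sup_le (self_le_cmod (sup_le (le_nrm_self _) hD)) (le_cmod_symm hD this))).2) a (p2.trans i) q1 q2 rfl
    have t2 := ih _ (((Nat.le_of_dvd (relIndex_pos _ _) (Subgroup.relIndex_dvd_of_le_left _ (le_inf p2
      (le_cen_symm inf_le_right)))).trans_lt (relIndex_lt_left p1 p2))) (φ := φ) hS cD cH sD hD nS (eC ▸ l) (eC ▸ ab) q1 q3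
      (by rwa [eC]) (by rwa [eC]) rfl
    rw [← sup_assoc, sup_eq_left.2 (inf_le_left : K ⊓ cen P ≤ K)] at t1
    rw [eC] at t2
    exact t1.trans t2

end
end H3
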