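import Cfsg.Agent.H3.MK4
import Cfsg.Agent.H3.Jord2

/-! # The final step of the relative McKay count for `p`-solvable groups -/

open Cfsg H7
open scoped ComplexConjugate commutatorElement
set_option maxSynthPendingDepth 3

namespace H3
open H3
open H2 (IsSylowIn exists_isSylowIn)

noncomputable section

variable {Γ : Type*} [Group Γ] [Finite Γ] {A B C D E H K L M M' N P S T W X Y Z : Subgroup Γ}
  {α β χ ψ ν θ η η' ξ ξ' φ ζ μ w : Γ → ℂ} {p : ℕ} {b : Prop} {x : Γ}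

theorem ext_of_ext [hp : Fact p.Prime] [K.Normal] [M.Normal] (l : K ≤ M) (c1 : PiN {p} (K.relIndex M))
    (c2 : M.index.Coprime p) (l' : K ≤ H) (c3 : PiN {p} H.index) (a : Irr M η↾M) (i : ⊤ ≤ iA M η) (c : Irr K η↾K)
    (h : ExtA K H η) : ∃ χ, Irr Γ χ ∧ χ↾M = η↾M := by
  obtain ⟨ψ, h1, h2⟩ := h
  obtain ⟨χ, d, e⟩ := ext_of_sylow c (by
    rw [inertia_eq_iA, eq_top_iff]; exact fun g hg => iA_mono (i hg) l (le_nrm_of_normal _ _ hg)) fun q hq => by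
      rcases eq_or_ne q p with rfl | ne
      · exact ⟨M, l, η↾M, hq.coprime_iff_not_dvd.1 c2.symm, a, fun _ => rfl⟩
      · exact ⟨H, l', ψ↾H, fun o => ne (c3 q hq o), h1, congrFun h2⟩
  haveI : (K.subgroupOf M).Normal := inferInstance
  have f : Irr (K.subgroupOf M) (χ↾M)↾(K.subgroupOf M) := (irr_sub l).2 (e ▸ c)
  have g : Ch M χ↾M := d.isCharacter.res M
  obtain ⟨ω, w1, w2⟩ := exists_lf_of_ext g f a.isCharacter ((eq_sub l).2 e.symm)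
  have w3 : inertia (lf ω) = ⊤ := inertia_lf.2 fun x n => by
    have hx : x ∈ nrm M := le_nrm_of_normal ⊤ _ trivial
    have := gallagher_inj (β := lf (ω.comp (nconj hx).toMonoidHom)) (γ := lf ω) g f (lf_ch _) (lf_ch _)
      (fun k hk => by
        have : ω (nconj hx k) = 1 := mem_triv.1 w1 _ (‹K.Normal›.conj_mem _ hk x)
        simp [lf, this]) (fun k hk => by simp [lf, mem_triv.1 w1 _ hk]) (funext fun k => by
          have h3 := congrFun w2 (nconj hx k)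
          have h4 := congrFun w2 k
          have h5 : η (nconj hx k) = η k := iA_apply (i trivial) k.2
          have h6 : χ (nconj hx k) = χ k := d.isClassFunction _ _
          simp only [Pi.mul_apply] at h3 h4 ⊢
          rw [h4, ← h5, ← h3, h6]; rfl)
    exact Units.ext (congrFun this n)
  obtain ⟨μ, m1, -⟩ := exists_ext_orderOf w3 ((piN_compl_iff.2 c2).coprime' (c1.dvd (orderOf_dvd_of_pow_eq_one
    (pow_index_of_triv w1))) disjoint_compl_left)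
  refine ⟨lf μ * χ, d.lf_mul μ, funext fun n => ?_⟩
  rw [← congrFun w2 n]
  exact congrArg (· * χ n) (congrArg Units.val (m1 n))

theorem ext_iff_ext [hp : Fact p.Prime] (hS : IsPGroup p S) (cH : (ord H).Coprime p) (l : K ≤ H) (nK : S ≤ nrm K)
    (hK : H ≤ nrm K) (i : H ≤ iA (K ⊔ S) η) (a : Irr ↥(K ⊔ S) η↾↥(K ⊔ S)) (c : Irr K η↾K) :
    ExtA K H η ↔ ExtA (K ⊔ S) (K ⊔ S ⊔ H) η := by
  refine ⟨fun ⟨ψ, h1, h2⟩ => ?_, fun ⟨χ, h1, h2⟩ => ⟨χ, irr_of_res (ch_mono h1.isCharacter le_sup_right) l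
    (res_eq_mono h2 le_sup_left ▸ c), res_eq_mono h2 le_sup_left⟩⟩
  have c1 : PiN {p} (K.relIndex (K ⊔ S)) := by
    rw [sup_comm, relIndex_sup_nrm nK]; exact (piN_iff_isPGroup.2 hS).dvd (relIndex_dvd_card' _ _)
  have nM : H ≤ nrm (K ⊔ S) := i.trans iA_le_nrm
  have lK : K ≤ K ⊔ S := le_sup_left
  have n1 : K ⊔ S ≤ nrm K := sup_le (le_nrm_self K) nK
  generalize K ⊔ S = M at *
  have i' : M ⊔ H ≤ iA M η := sup_le (self_le_iA a.isClassFunction) i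
  have c2 : (M.relIndex (M ⊔ H)).Coprime p := by
    rw [sup_comm, relIndex_sup_nrm nM]; exact cH.coprime_dvd_left (relIndex_dvd_card' _ _)
  have c3 : PiN {p} (H.relIndex (M ⊔ H)) := by
    rw [sup_comm, relIndex_sup_eq nM]; exact c1.dvd (Subgroup.relIndex_dvd_of_le_left _ l)
  have n2 : M ⊔ H ≤ nrm K := sup_le n1 hK
  have lM : M ≤ M ⊔ H := le_sup_left
  have lH : H ≤ M ⊔ H := le_sup_right
  generalize M ⊔ H = W at *
  haveI := normal_subgroupOf n2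
  haveI := normal_subgroupOf (i'.trans iA_le_nrm)
  obtain ⟨χ, d, e⟩ := ext_of_ext (η := η↾W) (Subgroup.subgroupOf_mono W lK) (by
    rwa [Subgroup.relIndex_subgroupOf lM]) c2 (Subgroup.subgroupOf_mono W l) c3 ((irr_sub lM).2 a) (by
      rw [← inertia_eq_iA, inertia_sub_top lM i']) ((irr_sub (lK.trans lM)).2 c)
      ⟨ψ↾W, (irr_sub lH).2 h1, (eq_sub (lK.trans lM)).2 h2⟩
  obtain ⟨χ, rfl⟩ := exists_amb χ
  exact ⟨χ, d, (eq_sub lM).1 e⟩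

/-- the determinant of `η↾M`, as a function on the ambient group -/
abbrev dA (M : Subgroup Γ) (η : Γ → ℂ) : Γ → ℂˣ := ev (dt η↾M)

theorem dA_cf (a : Ch M η↾M) {g : Γ} (h : g ∈ nrm M) (hx : x ∈ M) : dA M (cf g η) x = dA M η (g * x * g⁻¹) := by
  rw [dA, dA, cf_res h, ev_eq hx, ev_eq (x := g * x * g⁻¹) (nconj h ⟨x, hx⟩).2]
  exact DFunLike.congr_fun (a.dt_comp (nconj h).toMonoidHom) _

omit [Finite Γ] in
theorem ev_pow_card {f : M →* ℂˣ} (l : S ≤ M) (hx : x ∈ S) : ev f x ^ ord S = 1 := by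
  rw [← ev_pow (l hx), show x ^ ord S = 1 from congrArg Subtype.val (pow_card_eq_one' (x := (⟨x, hx⟩ : S))), ev_one]

theorem eq_of_pow_cop {u v : ℂˣ} {m n : ℕ} (c : m.Coprime n) (a : u ^ m = 1) (d : v ^ m = 1) (e : u ^ n = v ^ n) : u = v := by
  rw [← mul_inv_eq_one]
  exact (Subgroup.mem_bot).1 (mem_of_pow_cop (N := ⊥) c (by rw [mul_pow, inv_pow, a, d]; simp) (by rw [mul_pow, inv_pow, e]; simp))

theorem exists_root [Fact p.Prime] (hS : IsPGroup p S) {n : ℕ} (c : ¬ p ∣ n) (κ : S →* ℂˣ) : ∃ μ, μ ^ n = κ :=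
  let ⟨m, h⟩ := exists_pow_eq_self_of_coprime (x := κ) ((coprime_of_isPGroup hS
    ((Nat.Prime.coprime_iff_not_dvd Fact.out).2 c).symm).coprime_dvd_right (orderOf_lin_dvd_card κ))
  ⟨κ ^ m, by rw [← pow_mul, mul_comm, pow_mul, h]⟩

theorem not_dvd_dg [hp : Fact p.Prime] (cK : (ord K).Coprime p) (a : Irr K θ↾K) : ¬ p ∣ dg θ :=
  hp.out.coprime_iff_not_dvd.1 (cK.coprime_dvd_left (dg_res (α := θ) ▸ a.dg_dvd)).symm

theorem exists_ext_det [hp : Fact p.Prime] (hS : IsPGroup p S) (cK : (ord K).Coprime p) (a : Irr K θ↾K) (i : S ≤ iA K θ)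
    {n : ℕ} (c : ¬ p ∣ n) (κ : S →* ℂˣ) :
    ∃ η : Γ → ℂ, Irr ↥(K ⊔ S) η↾↥(K ⊔ S) ∧ η↾K = θ↾K ∧ ∀ s : S, dA (K ⊔ S) η s ^ n = κ s := by
  have nK := i.trans iA_le_nrm
  have i' : K ⊔ S ≤ iA K θ := sup_le (self_le_iA a.isClassFunction) i
  have n1 := i'.trans iA_le_nrm
  haveI := normal_subgroupOf n1
  have e0 : K ⊓ S = ⊥ := inf_comm S K ▸ inf_eq_bot_of_isPGroup hS cK
  obtain ⟨χ, ⟨d, e, -⟩, -⟩ := exists_canExt_of_coprime ((irr_sub le_sup_left).2 a) (inertia_sub_top le_sup_left i') (by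
    rw [Nat.card_congr (Subgroup.subgroupOfEquivOfLe le_sup_left).toEquiv]
    show (K.relIndex (K ⊔ S)).Coprime _
    rw [sup_comm, relIndex_sup_nrm nK]
    exact ((coprime_of_isPGroup hS cK).coprime_dvd_right (relIndex_dvd_card' _ _)).symm)
  obtain ⟨χ, rfl⟩ := exists_amb χ
  replace e := (eq_sub le_sup_left).1 e
  obtain ⟨κ, rfl⟩ := exists_root hS c κ
  obtain ⟨μ, m⟩ := exists_root hS (not_dvd_dg cK a) (κ * ((dt χ↾↥(K ⊔ S)).comp (Subgroup.inclusion le_sup_right))⁻¹)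
  obtain ⟨v, v1, v2, v3⟩ := surj_res_sup (ψ := am (lf μ)) (θ := 1) n1 rfl (irr_one_res K)
    (le_iA (irr_one_res _).isClassFunction le_sup_left n1) (irr_one_res _) (by rw [am_res]; exact lf_irr μ) (by
      rw [show (am (lf μ))↾↥(K ⊓ S) = (1 : Γ → ℂ)↾↥(K ⊓ S) from funext fun ⟨x, hx⟩ => by
        obtain rfl : x = 1 := by simpa [e0] using hx
        exact (congrFun (am_res (lf μ)) 1).trans (by simp [lf]), (irr_one_res _).inner_self]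
      exact one_ne_zero)
  rw [am_res] at v3
  have v0 : v 1 = 1 := (congrFun v3 1).trans (by simp [lf])
  obtain ⟨ω, w⟩ := v1.isCharacter.exists_lf v0
  refine ⟨v * χ, irr_mul_lin v1 v0 d, funext fun k => ?_, fun s => ?_⟩
  · rw [← congrFun e k]
    show v k * χ k = χ k
    rw [eq_deg_of_overA le_sup_left n1 v1 v2 k.2, v0, one_mul]
  · have h1 : ω ⟨s, Subgroup.mem_sup_right s.2⟩ = μ s := Units.ext ((congrFun w _).symm.trans (congrFun v3 s))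
    have h2 := DFunLike.congr_fun m s
    rw [dA, show (v * χ)↾↥(K ⊔ S) = lf ω * χ↾↥(K ⊔ S) from congrArg (· * χ↾↥(K ⊔ S)) w, d.isCharacter.dt_lf_mul,
      ev_eq (Subgroup.mem_sup_right s.2), MonoidHom.mul_apply, MonoidHom.pow_apply, MonoidHom.pow_apply, h1, dg_res,
      dg_of_eq e, ← MonoidHom.pow_apply, h2]
    simp [Subgroup.inclusion]

theorem eq_of_det [hp : Fact p.Prime] (hS : IsPGroup p S) (cK : (ord K).Coprime p) (nK : S ≤ nrm K)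
    (a : Irr ↥(K ⊔ S) η↾↥(K ⊔ S)) (a' : Irr ↥(K ⊔ S) η'↾↥(K ⊔ S)) (d : Irr K η↾K) (e : η'↾K = η↾K) {n : ℕ} (c : ¬ p ∣ n)
    (h : ∀ s ∈ S, dA (K ⊔ S) η' s ^ n = dA (K ⊔ S) η s ^ n) : η'↾↥(K ⊔ S) = η↾↥(K ⊔ S) := by
  haveI := normal_subgroupOf (sup_le (le_nrm_self K) nK)
  obtain ⟨ω, w1, w2⟩ := exists_lf_of_ext a.isCharacter ((irr_sub le_sup_left).2 d) a'.isCharacter ((eq_sub le_sup_left).2 e)
  have h1 : K ⊔ S ≤ kr ω := sup_le (fun k hk => mem_kr.2 ⟨Subgroup.mem_sup_left hk, by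
    rw [ev_eq (Subgroup.mem_sup_left hk)]; exact mem_triv.1 w1 _ hk⟩) fun s hs => mem_kr.2 ⟨Subgroup.mem_sup_right hs, by
      have h2 := h s hs
      rw [dA, ← w2, a.isCharacter.dt_lf_mul, dA, ev_eq (Subgroup.mem_sup_right hs), ev_eq (Subgroup.mem_sup_right hs),
        MonoidHom.mul_apply, mul_pow, mul_eq_right, MonoidHom.pow_apply, ← pow_mul, ← ev_eq (Subgroup.mem_sup_right hs)] at h2
      refine eq_of_pow_cop (coprime_of_isPGroup hS (hp.out.coprime_iff_not_dvd.2 fun o => (hp.out.dvd_mul.1 o).elim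
        (not_dvd_dg cK d) c).symm).symm (ev_pow_card le_sup_right hs) (one_pow _) (h2.trans (one_pow _).symm)⟩
  rw [← w2]
  exact funext fun x => by
    have := (mem_kr.1 (h1 x.2)).2
    rw [ev_coe] at this
    simp [lf, this]

/-- the natural correspondence between `Irr_{p'}(KS)` and `Irr_{p'}(C_K(S) S)` -/
structure DR (p : ℕ) (K S : Subgroup Γ) (η ξ : Γ → ℂ) : Prop where
  irr : Irr ↥(K ⊔ S) η↾↥(K ⊔ S)
  deg : ¬ p ∣ dg η
  irr' : Irr ↥(K ⊓ cen S ⊔ S) ξ↾↥(K ⊓ cen S ⊔ S)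
  deg' : ¬ p ∣ dg ξ
  gl : Gl p (K ⊓ cen S) η ξ
  det : ∀ s ∈ S, dA (K ⊔ S) η s ^ dg ξ = dA (K ⊓ cen S ⊔ S) ξ s ^ dg η

theorem irr_res_of_deg [hp : Fact p.Prime] (hS : IsPGroup p S) (nK : S ≤ nrm K) (a : Irr ↥(K ⊔ S) η↾↥(K ⊔ S))
    (d : ¬ p ∣ dg η) : Irr K η↾K := by
  haveI := normal_subgroupOf (sup_le (le_nrm_self K) nK)
  refine (irr_sub le_sup_left).1 (res_irr_of_coprime a ?_)
  show (K.relIndex (K ⊔ S)).Coprime (dg η)
  rw [sup_comm, relIndex_sup_nrm nK]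
  exact ((coprime_of_isPGroup hS (hp.out.coprime_iff_not_dvd.2 d).symm).coprime_dvd_right (relIndex_dvd_card' _ _)).symm

theorem iA_of_sup (nK : S ≤ nrm K) (a : Irr ↥(K ⊔ S) η↾↥(K ⊔ S)) : S ≤ iA K η :=
  le_sup_right.trans (le_iA a.isClassFunction le_sup_left (sup_le (le_nrm_self K) nK))

omit [Finite Γ] in
theorem nrm_cK : S ≤ nrm (K ⊓ cen S) := (le_cen_symm inf_le_right).trans (cen_le_nrm _)

theorem DR.congr (h : DR p K S η ξ) (e : η↾↥(K ⊔ S) = η'↾↥(K ⊔ S)) : DR p K S η' ξ :=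
  ⟨e ▸ h.irr, dg_of_eq e ▸ h.deg, h.irr', h.deg', h.gl.congr (res_eq_mono e (inf_le_left.trans le_sup_left)) rfl,
    fun s hs => by rw [dA, ← e, ← dg_of_eq e]; exact h.det s hs⟩

theorem DR.cf (h : DR p K S η ξ) {g : Γ} (a : g ∈ nrm K) (c : g ∈ nrm S) : DR p K S (cf g η) (cf g ξ) := by
  have a' := Subgroup.zpowers_le.2 a
  have c' := Subgroup.zpowers_le.2 c
  have d := nrm_sup a' c' (Subgroup.mem_zpowers g)
  have e := nrm_inf a' (nrm_cen c')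
  have f := nrm_sup e c' (Subgroup.mem_zpowers g)
  refine ⟨irr_cf h.irr d, by rw [dg_cf]; exact h.deg, irr_cf h.irr' f, by rw [dg_cf]; exact h.deg', h.gl.cf (e (Subgroup.mem_zpowers g)), fun s hs => ?_⟩
  rw [dA_cf h.irr.isCharacter d (Subgroup.mem_sup_right hs), dA_cf h.irr'.isCharacter f (Subgroup.mem_sup_right hs),
    dg_cf, dg_cf]
  exact h.det _ ((Subgroup.mem_normalizer_iff.1 c s).1 hs)

theorem exists_dr [hp : Fact p.Prime] (hS : IsPGroup p S) (cK : (ord K).Coprime p) (nK : S ≤ nrm K)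
    (a : Irr ↥(K ⊔ S) η↾↥(K ⊔ S)) (d : ¬ p ∣ dg η) : ∃ ξ, DR p K S η ξ := by
  have cC := cK.coprime_dvd_left (Subgroup.card_dvd_of_le (inf_le_left : K ⊓ cen S ≤ K))
  obtain ⟨φ, f1, f2⟩ := (glC hp.out cK hS nK).ex η (irr_res_of_deg hS nK a d) (iA_of_sup nK a)
  obtain ⟨ξ, x1, x2, x3⟩ := exists_ext_det hS cC f1 ((le_cen_symm inf_le_right).trans cen_le_iA) d
    (((dt η↾↥(K ⊔ S)).comp (Subgroup.inclusion le_sup_right)) ^ dg φ)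
  refine ⟨ξ, a, d, x1, dg_of_eq x2 ▸ not_dvd_dg cC f1, f2.congr rfl x2.symm, fun s hs => ?_⟩
  rw [x3 ⟨s, hs⟩, dg_of_eq x2, dA, ev_eq (Subgroup.mem_sup_right hs)]; rfl

theorem exists_dr' [hp : Fact p.Prime] (hS : IsPGroup p S) (cK : (ord K).Coprime p) (nK : S ≤ nrm K)
    (a : Irr ↥(K ⊓ cen S ⊔ S) ξ↾↥(K ⊓ cen S ⊔ S)) (d : ¬ p ∣ dg ξ) : ∃ η, DR p K S η ξ := by
  obtain ⟨θ, f1, f2, f3⟩ := (glC hp.out cK hS nK).surj ξ (irr_res_of_deg hS nrm_cK a d)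
  obtain ⟨η, x1, x2, x3⟩ := exists_ext_det hS cK f1 f2 d
    (((dt ξ↾↥(K ⊓ cen S ⊔ S)).comp (Subgroup.inclusion le_sup_right)) ^ dg θ)
  refine ⟨η, x1, dg_of_eq x2 ▸ not_dvd_dg cK f1, a, d, f3.congr (res_eq_mono x2.symm inf_le_left) rfl, fun s hs => ?_⟩
  rw [x3 ⟨s, hs⟩, dg_of_eq x2, dA, ev_eq (Subgroup.mem_sup_right hs)]; rfl

theorem DR.iff [hp : Fact p.Prime] (hS : IsPGroup p S) (cK : (ord K).Coprime p) (nK : S ≤ nrm K) (h : DR p K S η ξ)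
    (k : DR p K S η' ξ') : η↾↥(K ⊔ S) = η'↾↥(K ⊔ S) ↔ ξ↾↥(K ⊓ cen S ⊔ S) = ξ'↾↥(K ⊓ cen S ⊔ S) := by
  have cC := cK.coprime_dvd_left (Subgroup.card_dvd_of_le (inf_le_left : K ⊓ cen S ≤ K))
  have a := irr_res_of_deg hS nK h.irr h.deg
  have a' := irr_res_of_deg hS nK k.irr k.deg
  have c := irr_res_of_deg hS nrm_cK h.irr' h.deg'
  have c' := irr_res_of_deg hS nrm_cK k.irr' k.deg'
  refine ⟨fun e => ?_, fun e => ?_⟩
  · have f := (h.congr e).gl.unique hp.out k.gl c c'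
    exact eq_of_det hS cC nrm_cK k.irr' h.irr' c' f k.deg fun s hs => by
      rw [← (h.congr e).det s hs, ← k.det s hs, dg_of_eq f]
  · have f := (glC hp.out cK hS nK).inj _ _ _ a a' (iA_of_sup nK h.irr) (iA_of_sup nK k.irr) c'
      (h.gl.congr rfl (res_eq_mono e le_sup_left)) k.gl
    exact eq_of_det hS cK nK k.irr h.irr a' f k.deg' fun s hs => by
      rw [k.det s hs, ← dg_of_eq e, h.det s hs, dA, e, dg_of_eq f]

theorem mem_charCenterA (a : Irr M η↾M) (hx : x ∈ M) (c : x ∈ cen M) : (⟨x, hx⟩ : M) ∈ charCenter η↾M :=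
  a.center_le_charCenter (Subgroup.mem_center_iff.2 fun g => Subtype.ext (c g g.2))

theorem prop_of_over (l : Z ≤ M) (l' : Z ≤ M') (c : M ≤ cen Z) (c' : M' ≤ cen Z) (a : Irr M η↾M) (a' : Irr M' ξ↾M')
    (m : Irr Z μ↾Z) (d : ⟪η↾Z, μ↾Z⟫ ≠ 0) (d' : ⟪ξ↾Z, μ↾Z⟫ ≠ 0) (hx : x ∈ Z) : η x * ξ 1 = ξ x * η 1 := by
  obtain ⟨e, -, -, f⟩ := res_eq_smulA l (c.trans cen_le_iA) a m d
  obtain ⟨e', -, -, f'⟩ := res_eq_smulA l' (c'.trans cen_le_iA) a' m d'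
  rw [show η x = _ from congrFun f ⟨x, hx⟩, show η 1 = _ from congrFun f 1, show ξ x = _ from congrFun f' ⟨x, hx⟩,
    show ξ 1 = _ from congrFun f' 1]
  simp only [Pi.smul_apply, smul_eq_mul]; ring

theorem DR.prop [hp : Fact p.Prime] (hS : IsSylowIn p S (K ⊔ S)) (cK : (ord K).Coprime p) (nK : S ≤ nrm K)
    (h : DR p K S η ξ) (hx : x ∈ K ⊔ S) (c : x ∈ cen (K ⊔ S)) : x ∈ K ⊓ cen S ⊔ S ∧ η x * ξ 1 = ξ x * η 1 := by
  obtain ⟨u, v, u1, v1, rfl, ⟨k, u2⟩, v2⟩ := H2.exists_p_part (p := p) x (orderOf_pos x).ne'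
  have z : Subgroup.zpowers (u * v) ≤ (K ⊔ S) ⊓ cen (K ⊔ S) := Subgroup.zpowers_le.2 ⟨hx, c⟩
  have lM : K ⊓ cen S ⊔ S ≤ K ⊔ S := sup_le_sup_right inf_le_left _
  have uS : u ∈ S := hS.le_of_le_normalizer (Q := Subgroup.zpowers u) (IsPGroup.of_card (by rw [Nat.card_zpowers, u2]))
    (Subgroup.zpowers_le.2 (z u1).1) (Subgroup.zpowers_le.2 (cen_le_nrm S (cen_anti le_sup_right (z u1).2)))
    (Subgroup.mem_zpowers u)
  have vC : v ∈ K ⊓ cen S := ⟨le_of_piN_relIndex (π := {p}ᶜ) (K := Subgroup.zpowers v) (U := K ⊔ S)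
    (Subgroup.zpowers_le.2 (cen_le_nrm K (cen_anti le_sup_left (z v1).2))) (Subgroup.zpowers_le.2 (z v1).1) le_sup_left
    (by rw [piN_compl_iff]; exact (Nat.card_zpowers v).symm ▸ v2) (by
      rw [compl_compl, sup_comm, relIndex_sup_nrm nK]
      exact (piN_iff_isPGroup.2 hS.isPGroup).dvd (relIndex_dvd_card' _ _)) (Subgroup.mem_zpowers v),
    cen_anti le_sup_right (z v1).2⟩
  have uM : u ∈ K ⊓ cen S ⊔ S := Subgroup.mem_sup_right uS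
  have vM : v ∈ K ⊓ cen S ⊔ S := Subgroup.mem_sup_left vC
  refine ⟨mul_mem uM vM, ?_⟩
  have i := irr_res_of_deg hS.isPGroup nrm_cK h.irr' h.deg'
  have lZ : Subgroup.zpowers v ≤ K ⊓ cen S := Subgroup.zpowers_le.2 vC
  have cZ : K ⊔ S ≤ cen (Subgroup.zpowers v) := le_cen_symm (Subgroup.zpowers_le.2 (z v1).2)
  obtain ⟨μ, m1, m2⟩ := exists_underA lZ i
  have e1 := prop_of_over (lZ.trans (le_sup_left.trans lM)) (lZ.trans le_sup_left) cZ (lM.trans cZ) h.irr h.irr' m1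
    (over_trans lZ (ch_mono h.irr.isCharacter (le_sup_left.trans lM)) i m1.isCharacter
      (fun o => h.gl.not_dvd hp.out i (a := 0) (o.trans Int.cast_zero.symm) (dvd_zero _)) m2) m2 (Subgroup.mem_zpowers v)
  have c1 := mem_charCenterA h.irr (lM uM) (z u1).2
  have c2 := mem_charCenterA h.irr' uM (cen_anti lM (z u1).2)
  obtain ⟨s, s1, s2, s3⟩ := h.irr.dt_center c1
  obtain ⟨t, t1, t2, t3⟩ := h.irr'.dt_center c2
  obtain ⟨s', -, s4⟩ := mem_charCenter.1 c1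
  obtain ⟨t', -, t4⟩ := mem_charCenter.1 c2
  have s5 : s' = s := mul_right_cancel₀ h.irr.deg_ne_zero ((s4 1).symm.trans ((congrArg _ (mul_one _)).trans s1))
  have t5 : t' = t := mul_right_cancel₀ h.irr'.deg_ne_zero ((t4 1).symm.trans ((congrArg _ (mul_one _)).trans t1))
  have e2 := h.det u uS
  rw [dA, dA, ev_eq (lM uM), ev_eq uM, s3, t3, dg_res, dg_res, ← pow_mul, ← pow_mul, mul_comm (dg ξ)] at e2
  rw [Subgroup.orderOf_mk, u2] at s2 t2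
  obtain rfl := eq_of_pow_cop ((hp.out.coprime_iff_not_dvd.2 fun o => (hp.out.dvd_mul.1 o).elim h.deg h.deg').pow_left k)
    s2 t2 e2
  rw [show η (u * v) = _ from s4 ⟨v, lM vM⟩, show ξ (u * v) = _ from t4 ⟨v, vM⟩, s5, t5, mul_assoc, mul_assoc]
  exact congrArg _ e1

theorem DR.nu [hp : Fact p.Prime] (hS : IsSylowIn p S (K ⊔ S)) (cK : (ord K).Coprime p) (nK : S ≤ nrm K)
    (h : DR p K S η ξ) (l : L ≤ K ⊔ S) (c : L ≤ cen (K ⊔ S)) : ⟪η↾L, ν↾L⟫ ≠ 0 ↔ ⟪ξ↾L, ν↾L⟫ ≠ 0 := by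
  have e : ξ 1 • η↾L = η 1 • ξ↾L := funext fun x => by
    have := (h.prop hS cK nK (l x.2) (c x.2)).2
    simp only [Pi.smul_apply, smul_eq_mul]
    rw [mul_comm, this, mul_comm]
  have f := congrArg (fun t => ⟪t, ν↾L⟫) e
  simp only [H3.inner_smul_left] at f
  have h1 : η 1 ≠ 0 := h.irr.deg_ne_zero
  have h2 : ξ 1 ≠ 0 := h.irr'.deg_ne_zero
  exact not_congr ⟨fun o => by simpa [o, h1] using f, fun o => by simpa [o, h2] using f⟩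

theorem Ov.under (h : Ov p b Y L ν χ) (l : L ≤ M) (m : M ≤ Y) (i : Y ≤ iA L ν) (a : Irr L ν↾L) (c : Irr M η↾M)
    (d : ⟪χ↾M, η↾M⟫ ≠ 0) : ⟪η↾L, ν↾L⟫ ≠ 0 := by
  obtain ⟨μ, m1, m2⟩ := exists_underA l c
  obtain ⟨g, g1, g2⟩ := exists_cf_of_under (l.trans m) (i.trans iA_le_nrm) h.irr a m1 h.ne
    (over_trans l (ch_mono h.irr.isCharacter m) c m1.isCharacter d m2)
  rwa [g2, (i g1).2] at m2

theorem card_fib (l : L ≤ M) (m : M ≤ Y) (a : Irr L ν↾L) (c : Irr M η↾M) (d : ⟪η↾L, ν↾L⟫ ≠ 0)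
    (Q : {χ : IrrCharacter Y // Ov p b Y L ν (am χ.1)} → Prop) (h : ∀ u, Q u ↔ ⟪(am u.1.1)↾M, η↾M⟫ ≠ 0) :
    Nat.card {u // Q u} = ov p b Y M η :=
  Nat.card_congr (((Equiv.subtypeEquivRight h).trans (Equiv.subtypeSubtypeEquivSubtypeInter _ fun χ : IrrCharacter Y =>
    ⟪(am χ.1)↾M, η↾M⟫ ≠ 0)).trans (Equiv.subtypeEquivRight fun _ => ⟨fun ⟨u, v⟩ => ⟨u.1, u.2, u.3, v⟩, fun u =>
      ⟨⟨u.1, u.2, u.3, over_trans l (ch_mono u.irr.isCharacter m) c a.isCharacter u.4 d⟩, u.4⟩⟩))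

theorem ov_fib2 (l : L ≤ M) (l' : L ≤ M') (m' : M' ≤ N) (n : X ≤ nrm M) (n' : N ≤ nrm M') (e : M ⊔ N = X)
    (a : Irr L ν↾L) (i : X ≤ iA L ν) (R : (Γ → ℂ) → (Γ → ℂ) → Prop) (hR : ∀ η ξ, R η ξ → Irr M η↾M ∧ Irr M' ξ↾M')
    (cg : ∀ η η' ξ, R η ξ → η↾M = η'↾M → R η' ξ) (ex : ∀ η, Irr M η↾M → ¬ p ∣ dg η → ∃ ξ, R η ξ)
    (sj : ∀ ξ, Irr M' ξ↾M' → ¬ p ∣ dg ξ → ∃ η, R η ξ)
    (bj : ∀ η η' ξ ξ', R η ξ → R η' ξ' → (η↾M = η'↾M ↔ ξ↾M' = ξ'↾M'))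
    (eq : ∀ η ξ, ∀ y ∈ N, R η ξ → R (cf y η) (cf y ξ)) (nu : ∀ η ξ, R η ξ → (⟪η↾L, ν↾L⟫ ≠ 0 ↔ ⟪ξ↾L, ν↾L⟫ ≠ 0))
    (ct : ∀ η ξ, R η ξ → N ⊓ iA M η = N ⊓ iA M' ξ → ov p b X M η = ov p b N M' ξ) : ov p b X L ν = ov p b N L ν := by
  have m : M ≤ X := e ▸ le_sup_left
  have lN : N ≤ X := e ▸ le_sup_right
  have k : ∀ η ξ ξ' (v : {χ : IrrCharacter N // Ov p b N L ν (am χ.1)}), R η ξ → R η ξ' →
      ⟪(am v.1.1)↾M', ξ↾M'⟫ ≠ 0 → ⟪(am v.1.1)↾M', ξ'↾M'⟫ ≠ 0 := fun η ξ ξ' v r r' o => (bj _ _ _ _ r r').1 rfl ▸ o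
  refine card_eq_of_fib (fun θ η : Γ → ℂ => ∃ y ∈ N, η↾M = (cf y θ)↾M) ⟨fun θ => ⟨1, one_mem _, by rw [cf_one]⟩,
    fun ⟨y, c, d⟩ => ⟨y⁻¹, inv_mem c, by rw [cf_congr d (n (lN (inv_mem c))), cf_cf, mul_inv_cancel, cf_one]⟩,
    fun ⟨y, c, d⟩ ⟨z, e, f⟩ => ⟨y * z, mul_mem c e, by rw [f, cf_congr d (n (lN e)), cf_cf]⟩⟩
    (fun u η => Irr M η↾M ∧ ⟪(am u.1.1)↾M, η↾M⟫ ≠ 0) (fun v η => ∃ ξ, R η ξ ∧ ⟪(am v.1.1)↾M', ξ↾M'⟫ ≠ 0)
    (fun u => exists_underA m u.2.irr) (fun u θ η ⟨c, d⟩ => ⟨fun ⟨c', d'⟩ => ?_, fun ⟨y, f, g⟩ => ?_⟩)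
    (fun v => ?_) (fun v θ η ⟨ξ, c, d⟩ => ⟨fun ⟨ξ', c', d'⟩ => ?_, fun ⟨y, f, g⟩ => ?_⟩) fun η => ?_
  · obtain ⟨g, g1, g2⟩ := exists_cf_of_under m n u.2.irr c c' d d'
    rw [← e, sup_comm] at g1
    obtain ⟨y, y1, z, z1, rfl⟩ := (H2.mem_sup_of_le_normalizer (lN.trans n)).1 g1
    refine ⟨y, y1, g2.trans ?_⟩
    rw [← cf_cf]
    exact (self_le_iA (irr_cf c (n (lN y1))).isClassFunction z1).2
  · rw [g, inner_cf_of_mem (le_iA u.2.irr.isClassFunction m n (lN f))]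
    exact ⟨irr_cf c (n (lN f)), d⟩
  · obtain ⟨ξ, x1, x2⟩ := exists_underA m' v.2.irr
    obtain ⟨η, r⟩ := sj ξ x1 (Ov.not_dvd ⟨v.2.1, v.2.2, v.2.3, x2⟩ m' n' x1)
    exact ⟨η, ξ, r, x2⟩
  · obtain ⟨g, g1, g2⟩ := exists_cf_of_under m' n' v.2.irr (hR _ _ c).2 (hR _ _ c').2 d d'
    exact ⟨g, g1, (bj _ _ _ _ c' (eq _ _ g g1 c)).2 g2⟩
  · exact ⟨cf y ξ, cg _ _ _ (eq _ _ y f c) g.symm, by
      rwa [inner_cf_of_mem (le_iA v.2.irr.isClassFunction m' n' f)]⟩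
  rcases em (∃ ξ, R η ξ ∧ ⟪η↾L, ν↾L⟫ ≠ 0) with ⟨ξ, r, o⟩ | o
  · rw [card_fib l m a (hR _ _ r).1 o _ fun u => and_iff_right (hR _ _ r).1, card_fib l' m' a (hR _ _ r).2
      ((nu _ _ r).1 o) _ fun v => ⟨fun ⟨ξ', r', o'⟩ => k _ _ _ v r' r o', fun o' => ⟨ξ, r, o'⟩⟩]
    exact ct _ _ r (Subgroup.ext fun y => and_congr_right fun hy => ⟨fun t => ⟨n' hy, (bj _ _ _ _ (eq _ _ y hy r) r).1 t.2⟩,
      fun t => ⟨n (lN hy), (bj _ _ _ _ (eq _ _ y hy r) r).2 t.2⟩⟩)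
  · rw [Nat.card_eq_zero.2 (Or.inl ⟨fun ⟨u, c, d⟩ => let ⟨ξ, r⟩ := ex η c (Ov.not_dvd ⟨u.2.1, u.2.2, u.2.3, d⟩ m n c)
      o ⟨ξ, r, u.2.under l m i a c d⟩⟩), Nat.card_eq_zero.2 (Or.inl ⟨fun ⟨v, ξ, r, d⟩ =>
        o ⟨ξ, r, (nu _ _ r).2 (v.2.under l' m' (lN.trans i) a (hR _ _ r).2 d)⟩⟩)]

theorem ov_eq_cov [hp : Fact p.Prime] (l : M ≤ X) (n : X ≤ nrm M) (a : Irr M η↾M) (d : ¬ p ∣ dg η)
    (c : ¬ p ∣ M.relIndex X) : ov p False X M η = cov (X ⊓ iA M η) M η := by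
  have l' : M ≤ X ⊓ iA M η := le_inf l (self_le_iA a.isClassFunction)
  rw [ov_clifford hp.out l n a False.elim fun o => c (o.trans (Subgroup.relIndex_dvd_of_le_left _ (l'.trans inf_le_right)))]
  refine Nat.card_congr (Equiv.subtypeEquivRight fun χ => ⟨fun h => h.ne, fun h => ⟨irr_am χ, fun o => ?_, False.elim, h⟩⟩)
  obtain ⟨e, e1, e2⟩ := dg_eq_mulA l' (inf_le_left.trans n) (irr_am χ) a h
  rw [e2] at o
  exact (hp.out.dvd_mul.1 o).elim (fun o => c (o.trans (e1.trans (Dvd.intro _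
    (Subgroup.relIndex_mul_relIndex _ _ _ l' inf_le_left))))) d

theorem mk_final [hp : Fact p.Prime] (hS : IsSylowIn p S X) (cK : (ord K).Coprime p) (lK : K ≤ X) (nK : X ≤ nrm K)
    (nM : X ≤ nrm (K ⊔ S)) (l : L ≤ K ⊔ S) (c : L ≤ cen X) (a : Irr L ν↾L) :
    ov p False X L ν = ov p False (X ⊓ nrm S) L ν := by
  have lM : K ⊔ S ≤ X := sup_le lK hS.le
  have sK := hS.le.trans nK
  have hS' := hS.mono le_sup_right lM
  have c' : L ≤ cen (K ⊔ S) := c.trans (cen_anti lM)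
  have e : K ⊔ S ⊔ X ⊓ nrm S = X := sup_comm (X ⊓ nrm S) _ ▸ syl_frattini hS' lM nM
  have lS : S ≤ X ⊓ nrm S := le_inf hS.le (le_nrm_self S)
  have m' : K ⊓ cen S ⊔ S ≤ X ⊓ nrm S := sup_le (inf_le_inf lK (cen_le_nrm S)) lS
  have nC : X ⊓ nrm S ≤ nrm (K ⊓ cen S) := nrm_inf (inf_le_left.trans nK) (nrm_cen inf_le_right)
  have n' : X ⊓ nrm S ≤ nrm (K ⊓ cen S ⊔ S) := nrm_sup nC inf_le_right
  have e0 : S ⊓ K = ⊥ := inf_eq_bot_of_isPGroup hS.isPGroup cK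
  have e1 : (K ⊔ S) ⊓ nrm S = K ⊓ cen S ⊔ S := by
    rw [(prm_of_nrm' sK).modular' (le_nrm_self S)]
    exact congrArg (· ⊔ S) (le_antisymm (le_inf inf_le_left (comm_eq_bot.1 (eq_bot_iff.2 (e0 ▸ le_inf
      (comm_le_right inf_le_right) ((Subgroup.commutator_mono inf_le_left le_rfl).trans (comm_le_left sK)))))) (inf_le_inf_left _ (cen_le_nrm S)))

  have l' : L ≤ K ⊓ cen S ⊔ S := e1 ▸ le_inf l (c.trans ((cen_anti hS.le).trans (cen_le_nrm S)))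
  refine ov_fib2 l l' m' nM n' e a ((le_cen_symm c).trans cen_le_iA) (DR p K S) (fun _ _ h => ⟨h.irr, h.irr'⟩)
    (fun _ _ _ h => h.congr) (fun _ => exists_dr hS.isPGroup cK sK) (fun _ => exists_dr' hS.isPGroup cK sK)
    (fun _ _ _ _ => DR.iff hS.isPGroup cK sK) (fun _ _ y hy h => h.cf (nK hy.1) hy.2)
    (fun _ _ h => h.nu hS' cK sK l c') fun η ξ h t => ?_
  have d : ∀ A B, S ≤ A → A ≤ B → B ≤ X → ¬ p ∣ A.relIndex B := fun A B a1 a2 a3 o =>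
    (hS.mono (a1.trans a2) a3).not_dvd (o.trans (Subgroup.relIndex_dvd_of_le_left _ a1))
  rw [ov_eq_cov lM nM h.irr h.deg (d _ _ le_sup_right lM le_rfl), ov_eq_cov m' n' h.irr' h.deg'
    (d _ _ le_sup_right m' inf_le_left)]
  generalize eY : X ⊓ nrm S ⊓ iA (K ⊓ cen S ⊔ S) ξ = Y at t
  have y1 : Y ≤ X ⊓ nrm S := eY ▸ inf_le_left
  have y2 : Y ≤ iA (K ⊔ S) η := t ▸ inf_le_right
  have y3 : Y ≤ iA (K ⊓ cen S ⊔ S) ξ := eY ▸ inf_le_right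
  have y4 : (K ⊔ S) ⊓ Y = K ⊓ cen S ⊔ S := le_antisymm (e1 ▸ inf_le_inf_left _ (y1.trans inf_le_right))
    (le_inf (sup_le_sup_right inf_le_left _) (eY ▸ le_inf m' (self_le_iA h.irr'.isClassFunction)))
  have y5 : K ⊔ S ⊔ Y = X ⊓ iA (K ⊔ S) η := by
    conv_rhs => rw [← e]
    rw [modular' (inf_le_left.trans nM) (self_le_iA h.irr.isClassFunction), t]
  have := cov_eq (ξ := ξ) y5 h.irr inf_le_right (y4 ▸ h.irr') (y4 ▸ y3) fun W w1 w2 w3 => ?_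
  · rwa [y4] at this
  rw [y4] at w1 ⊢
  have w4 := w2.trans y1
  obtain ⟨H, h1, -, h2⟩ := exists_compl (le_sup_right.trans w1) (w4.trans inf_le_right) (coprime_of_isPGroup hS.isPGroup
    (hp.out.coprime_iff_not_dvd.2 (d _ _ le_rfl (le_sup_right.trans w1) (w4.trans inf_le_left))).symm).symm
  have lH : K ⊓ cen S ⊔ H ≤ W := sup_le (le_sup_left.trans w1) (h1 ▸ le_sup_left)
  have cC := cK.coprime_dvd_left (Subgroup.card_dvd_of_le (inf_le_left : K ⊓ cen S ≤ K))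
  have cH : (ord (K ⊓ cen S ⊔ H)).Coprime p := sup_comm H _ ▸ coprime_sup ((le_sup_right.trans lH).trans (w4.trans nC))
    (h2 ▸ (hp.out.coprime_iff_not_dvd.2 (d _ _ le_rfl (le_sup_right.trans w1) (w4.trans inf_le_left))).symm) cC
  have eW : S ⊔ (K ⊓ cen S ⊔ H) = W := le_antisymm (sup_le (le_sup_right.trans w1) lH)
    (h1 ▸ sup_le (le_sup_of_le_right le_sup_right) le_sup_left)
  have lC : K ⊓ cen S ≤ K ⊓ cen S ⊔ H := le_sup_left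
  generalize K ⊓ cen S ⊔ H = H at lH cH eW lC
  have hK : H ≤ nrm K := lH.trans (w4.trans (inf_le_left.trans nK))
  have ab : ⁅H, H⁆ ≤ K ⊓ cen S := by
    have : ⁅H, H⁆ ≤ (K ⊓ cen S ⊔ S) ⊓ H := le_inf (y4 ▸ le_inf ((Subgroup.commutator_mono lH lH).trans w3)
      ((comm_le_left (le_nrm_self H)).trans (lH.trans w2))) (comm_le_left (le_nrm_self H))
    rwa [modular' nrm_cK lC, inf_eq_bot_of_isPGroup hS.isPGroup cH, sup_bot_eq] at this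
  have i1 := irr_res_of_deg hS.isPGroup sK h.irr h.deg
  have i2 := irr_res_of_deg hS.isPGroup nrm_cK h.irr' h.deg'
  have t1 := ext_iff_ext (H := K ⊔ H) hS.isPGroup (sup_comm H K ▸ coprime_sup hK cH cK) le_sup_left sK
    (sup_le (le_nrm_self K) hK) (sup_le (le_sup_left.trans (self_le_iA h.irr.isClassFunction)) (lH.trans (w2.trans y2)))
    h.irr i1
  have t2 := ext_iff_ext hS.isPGroup cH lC nrm_cK (lH.trans (w4.trans nC)) (lH.trans (w2.trans y3)) h.irr' i2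
  rw [show K ⊔ S ⊔ (K ⊔ H) = K ⊔ S ⊔ W from by rw [← eW]; ac_rfl] at t1
  rw [sup_assoc, eW, sup_eq_right.2 (le_sup_left.trans w1)] at t2
  exact t1.symm.trans ((ow hp.out hS.isPGroup cK cH sK hK (lH.trans (w4.trans inf_le_right)) lC ab i1
    (iA_of_sup sK h.irr) i2 h.gl).trans t2)

end
end H3
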