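import Cfsg.Agent.H3.MK5

/-! # The relative McKay count for `p`-solvable groups -/

open Cfsg H7
open scoped ComplexConjugate commutatorElement
set_option maxSynthPendingDepth 3

namespace H3
open H3
open H2 (IsSylowIn exists_isSylowIn)

noncomputable section
universe u

variable {Γ : Type*} [Group Γ] [Finite Γ] {A B C D E H K L M N P S T W X Y Z : Subgroup Γ}
  {α β χ ψ ν θ η ξ φ : Γ → ℂ} {p : ℕ} {b : Prop} {x : Γ}

theorem mk_cen [hp : Fact p.Prime] (ih : MKlt p False Γ (L.relIndex X)) (s : IsPSolvable p X) (h : SyM p L P X)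
    (c : L ≤ cen X) (a : Irr L ν↾L) : ov p False X L ν = ov p False (X ⊓ nrm P) L ν := by
  have n : X ≤ nrm L := (le_cen_symm c).trans (cen_le_nrm L)
  refine mk_step False.elim ih s h a ((le_cen_symm c).trans cen_le_iA) False.elim fun K k1 k2 k3 k4 k5 => ?_
  obtain ⟨S, s1, rfl⟩ := h.exists_syl (h.le'.trans n)
  have lL : L ≤ X := h.le.trans h.le'
  have z1 : IsSylowIn p (S ⊓ L) K := by
    have := s1.inf_normal n
    rw [inf_eq_right.2 lL] at this
    exact this.trans k1 (hp.out.coprime_iff_not_dvd.1 k4.symm)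
  have z2 : K ≤ cen (S ⊓ L) := le_cen_symm (inf_le_right.trans (c.trans (cen_anti k2)))
  have z3 := (hp.out.coprime_iff_not_dvd.2 z1.not_dvd).symm
  obtain ⟨H, h1, -, h2⟩ := exists_compl z1.le (z2.trans (cen_le_nrm _)) (coprime_of_isPGroup z1.isPGroup z3).symm
  have h3 : H ≤ Op' p K := le_Op' (h1 ▸ le_sup_left) (h1 ▸ sup_le (le_nrm_self H)
    ((le_cen_symm ((h1 ▸ le_sup_left : H ≤ K).trans z2)).trans (cen_le_nrm H))) (h2 ▸ z3)
  have h4 : K ≤ Op' p K ⊔ S := (h1.symm.le).trans (sup_le_sup h3 inf_le_left)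
  have h5 : Op' p K ⊔ S = K ⊔ (L ⊔ S) := le_antisymm (sup_le_sup (Opi_le _ _) le_sup_right)
    (sup_le h4 (sup_le (k1.trans h4) le_sup_right))
  have h6 : X ⊓ nrm S = X ⊓ nrm (L ⊔ S) := le_antisymm (le_inf inf_le_left (nrm_sup (inf_le_left.trans n) inf_le_right))
    (le_inf inf_le_left (by
      have := nrm_Opi {p} (inf_le_right : X ⊓ nrm (L ⊔ S) ≤ _)
      rwa [Op_eq_of_sylow (s1.mono le_sup_right h.le') (sup_le ((c.trans (cen_anti s1.le)).trans (cen_le_nrm S))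
        (le_nrm_self S))] at this))
  rw [← h6]
  exact mk_final s1 (coprime_Op' p K) ((Opi_le _ _).trans k2) (nrm_Opi _ k3) (h5 ▸ k5) (k1.trans h4) c a

theorem ov_cover [hp : Fact p.Prime] [N.Normal] {Γ' : Type*} [Group Γ'] [Finite Γ'] {π : Γ' →* Γ} {χ : Γ' → ℂ}
    {φ : N.comap π →* ℂˣ} (h : Cov N ν↾N π χ φ) (d : ¬ p ∣ dg ν) (l : N ≤ Y) :
    ov p False Y N ν = ov p False (Y.comap π) (N.comap π) (am (lf φ)) := by
  have k := h.res l
  have l' : N.comap π ≤ Y.comap π := Subgroup.comap_mono l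
  have i : Y.comap π ≤ iA (N.comap π) (am (lf φ)) := by rw [← inertia_eq_iA, am_res, h.inv]; exact le_top
  have lv : ∀ β, Ov p False (Y.comap π) (N.comap π) (am (lf φ)) β → Lov (Cov.sub φ Y) β↾(Y.comap π) := fun β o =>
    (Cov.lov_sub l).2 fun m x => lovA l' i o.irr (by have := o.ne; rwa [am_res] at this) m x.2
  have ne : ∀ β : Γ' → ℂ, Irr (Y.comap π) β↾(Y.comap π) → Lov (Cov.sub φ Y) β↾(Y.comap π) →
      ⟪β↾(N.comap π), (am (lf φ))↾(N.comap π)⟫ ≠ 0 := fun β a o => by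
    rw [am_res, show β↾(N.comap π) = β 1 • lf φ from funext fun m => by
      simpa [lf, mul_comm] using (Cov.lov_sub l).1 o m 1, H3.inner_smul_left, (lf_irr φ).inner_self, mul_one]
    exact a.deg_ne_zero
  have dd : ∀ (α : Γ → ℂ) (β : Γ' → ℂ), Irr Y α↾Y → Irr (Y.comap π) β↾(Y.comap π) →
      (∀ x : Y.comap π, α (π x) = β x * χ x) → dg α = dg β * dg ν := fun α β a c e => dg_eq (by
    have := e 1
    rw [OneMemClass.coe_one, map_one, h.deg, show β 1 = _ from c.deg, show ν ((1 : N) : Γ) = _ from h.irr.deg] at this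
    rw [this, Nat.cast_mul]; rfl)
  refine ov_eq l l' (fun α β => ∀ x : Y.comap π, α ⟨π x, x.2⟩ = β x * χ x) (fun α o => ?_)
    (fun α β β' _ o o' r r' => k.cancel (lv β o) (lv β' o') fun x => (r x).symm.trans (r' x))
    (fun α α' β _ _ _ r r' => funext fun y => ?_) fun β o => ?_
  · obtain ⟨β, b1, b2, b3⟩ := k.up o.irr ((inner_sub l).trans_ne o.ne)
    obtain ⟨β, rfl⟩ := exists_amb β
    exact ⟨β, ⟨b1, fun t => o.deg (dd α β o.irr b1 b3 ▸ t.mul_right _), False.elim, ne β b1 b2⟩, b3⟩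
  · obtain ⟨x, rfl⟩ := k.surj y
    exact (r x).trans (r' x).symm
  · obtain ⟨α, a1, a2, a3⟩ := k.down o.irr (lv β o)
    obtain ⟨α, rfl⟩ := exists_amb α
    refine ⟨α, ⟨a1, fun t => (hp.out.dvd_mul.1 (dd α β a1 o.irr a3 ▸ t)).elim o.deg d, False.elim, ?_⟩, a3⟩
    rw [← inner_sub l, a2, H3.inner_smul_left]
    exact mul_ne_zero o.irr.deg_ne_zero (k.irr.inner_self.trans_ne one_ne_zero)

theorem piSepTo_of_cen {π : Set ℕ} (h : Z ≤ Subgroup.center Γ) : H1.PiSepTo π Z := by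
  induction Z using WellFoundedLT.induction with | _ Z ih => ?_
  rcases eq_or_ne Z ⊥ with rfl | e
  · exact .bot
  obtain ⟨M, -, m1, -, m2⟩ := exists_prime_step (bot_lt_iff_ne_bot.2 e) (le_nrm_of_normal _ _) (solv_im _ (solv_of_comm
    (isComm_iff'.2 fun a ha b _ => (Subgroup.mem_center_iff.1 (h ha) b).symm)))
  refine .step M Z (ih M m1 (m1.le.trans h)) ⟨fun n hn g => by
    rw [Subgroup.mem_center_iff.1 (h hn) g, mul_inv_cancel_right]; exact hn⟩ m1.le ?_
  exact (em (M.relIndex Z ∈ π)).imp (fun o q hq d => (Nat.prime_dvd_prime_iff_eq hq m2).1 d ▸ o)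
    fun o q hq d => (Nat.prime_dvd_prime_iff_eq hq m2).1 d ▸ o

omit [Finite Γ] in
theorem SyM.of_comap {Γ' : Type*} [Group Γ'] {f : Γ' →* Γ} (s : Function.Surjective f)
    (h : SyM p (L.comap f) (P.comap f) (X.comap f)) : SyM p L P X :=
  ⟨(Subgroup.comap_le_comap_of_surjective s).1 h.le, (Subgroup.comap_le_comap_of_surjective s).1 h.le', fun x hx => by
    obtain ⟨x, rfl⟩ := s x
    simpa using h.pw x hx, by
    have := h.nd
    rwa [Subgroup.relIndex_comap, Subgroup.map_comap_eq_self_of_surjective s] at this⟩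

omit [Finite Γ] in
theorem nrm_comap' {Γ' : Type*} [Group Γ'] (f : Γ' →* Γ) (h : P ≤ f.range) : nrm (P.comap f) = (nrm P).comap f :=
  (Subgroup.comap_normalizer_eq_of_le_range h).symm

theorem mk_lin {Γ : Type u} [Group Γ] [Finite Γ] {N P : Subgroup Γ} [hp : Fact p.Prime] [hN : N.Normal]
    (ih : ∀ (Γ : Type u) [Group Γ] [Finite Γ], MKlt p False Γ N.index) (s : IsPSolvable p Γ) (h : SyM p N P ⊤)
    {φ : N →* ℂˣ} (i : inertia (lf φ) = ⊤) : ov p False ⊤ N (am (lf φ)) = ov p False (nrm P) N (am (lf φ)) := by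
  haveI : (φ.ker.map N.subtype).Normal := ⟨by
    rintro _ ⟨n, hn, rfl⟩ g
    exact ⟨⟨_, hN.conj_mem _ n.2 g⟩, (inertia_lf.1 i g n).trans hn, rfl⟩⟩
  let f := QuotientGroup.mk' (φ.ker.map N.subtype)
  have sf : Function.Surjective f := QuotientGroup.mk'_surjective _
  have rf : ∀ A, A ≤ f.range := fun A => le_top.trans (MonoidHom.range_eq_top.2 sf).ge
  have kf : ∀ A, N ≤ A → (A.map f).comap f = A := fun A l => Subgroup.comap_map_eq_self (by
    rw [QuotientGroup.ker_mk']; exact (Subgroup.map_subtype_le _).trans l)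
  let μ : N.map f →* ℂˣ := (f.subgroupMap N).liftOfSurjective (f.subgroupMap_surjective N) ⟨φ, fun n hn => by
    obtain ⟨m, m1, m2⟩ := (QuotientGroup.eq_one_iff _).1 (congrArg Subtype.val hn)
    exact (Subtype.ext m2 : m = n) ▸ m1⟩
  have hμ : ∀ n : N, μ (f.subgroupMap N n) = φ n := fun n => MonoidHom.liftOfRightInverse_comp_apply _ _ _ _ _
  have a : Irr (N.map f) (am (lf μ))↾(N.map f) := by rw [am_res]; exact lf_irr μ
  have e : ∀ Y, N ≤ Y → ov p False Y N (am (lf φ)) = ov p False (Y.map f) (N.map f) (am (lf μ)) := fun Y l => by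
    rw [← ov_comap f (rf _) (Subgroup.map_mono l) a, kf Y l, kf N le_rfl]
    exact ov_congr (funext fun n => (congrFun (am_res _) n).trans ((congrArg Units.val (hμ n).symm).trans
      (congrFun (am_res (lf μ)) (f.subgroupMap N n)).symm))
  have lP : N ≤ nrm P := h.le.trans (le_nrm_self P)
  rw [e ⊤ le_top, e _ lP, Subgroup.map_top_of_surjective f sf, mk_cen (P := P.map f) (by
    rw [Subgroup.relIndex_top_right, ← Subgroup.index_comap_of_surjective _ sf, kf N le_rfl]; exact ih _)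
    (ps_top.2 (ps_of_surj s f sf)) (SyM.of_comap sf (by rwa [kf N le_rfl, kf P h.le, Subgroup.comap_top])) ?_ a, top_inf_eq,
    ← Subgroup.map_comap_eq_self_of_surjective sf (nrm (P.map f)), ← nrm_comap' f (rf _), kf P h.le]
  rintro _ ⟨n, hn, rfl⟩ g -
  obtain ⟨g, rfl⟩ := sf g
  rw [← map_mul, ← map_mul]
  refine QuotientGroup.eq.2 ⟨⟨n, hn⟩⁻¹ * ⟨_, hN.conj_mem _ hn g⁻¹⟩, ?_, by simp [mul_assoc]⟩
  rw [SetLike.mem_coe, MonoidHom.mem_ker, map_mul, map_inv, inertia_lf.1 i g⁻¹ ⟨n, hn⟩, inv_mul_cancel]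

theorem mk_whole {Γ : Type u} [Group Γ] [Finite Γ] {N P : Subgroup Γ} {ν : Γ → ℂ} [hp : Fact p.Prime] [hN : N.Normal]
    (ih : ∀ (Γ : Type u) [Group Γ] [Finite Γ], MKlt p False Γ N.index) (s : IsPSolvable p Γ) (h : SyM p N P ⊤)
    (a : Irr N ν↾N) (i : inertia ν↾N = ⊤) (d : ¬ p ∣ dg ν) : ov p False ⊤ N ν = ov p False (nrm P) N ν := by
  obtain ⟨Γ', _, _, π, χ, φ, k⟩ := exists_cov a i
  have r : ∀ A, A ≤ π.range := fun A => le_top.trans (MonoidHom.range_eq_top.2 k.surj).ge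
  rw [ov_cover k d le_top, ov_cover k d (h.le.trans (le_nrm_self P)), ← nrm_comap' π (r _), Subgroup.comap_top]
  refine mk_lin (k.index ▸ ih) ((H1.isPSolvable_iff_piSep hp.out).2 ?_) (h.comap π (r _)) k.inv
  exact H1.PiSepTo.comap ((H1.isPSolvable_iff_piSep hp.out).1 s) (piSepTo_of_cen k.cen)

theorem mkLt [hp : Fact p.Prime] (n : ℕ) : ∀ (Γ : Type u) [Group Γ] [Finite Γ], MKlt p False Γ n := by
  induction n with
  | zero => exact fun _ _ _ _ _ _ _ h => absurd h (Nat.not_lt_zero _)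
  | succ n ih =>
  intro Γ _ _ X L P ν lt s h nL a i r
  have ih' : ∀ (Γ : Type u) [Group Γ] [Finite Γ], MKlt p False Γ (L.relIndex X) := fun Γ _ _ X' L' P' ν' lt' =>
    ih Γ X' L' P' ν' (lt'.trans_le (Nat.lt_succ_iff.1 lt))
  have l := h.le.trans h.le'
  have l' : L ≤ X ⊓ nrm P := le_inf l (h.le.trans (le_nrm_self P))
  rcases em (p ∣ dg ν) with d | d
  · rw [ov_eq_zero l fun _ o => o.not_dvd l nL a d, ov_eq_zero l' fun _ o => o.not_dvd l' (inf_le_left.trans nL) a d]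
  refine mk_cliff (ih' Γ) s h nL a i r fun j => ?_
  haveI := normal_subgroupOf nL
  have r : ∀ A, A ≤ X → A ≤ X.subtype.range := fun A o => by rwa [Subgroup.range_subtype]
  rw [← ov_sub le_rfl l a, ← ov_sub inf_le_left l' a, Subgroup.subgroupOf_self, Subgroup.inf_subgroupOf_left,
    show (nrm P).subgroupOf X = _ from (nrm_comap' _ (r P h.le')).symm]
  exact mk_whole ih' s (Subgroup.subgroupOf_self X ▸ h.comap X.subtype (r X le_rfl)) ((irr_sub l).2 a)
    (inertia_sub_top l j) d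

/-- relative McKay count for `p`-solvable groups -/
theorem mk_rel [Fact p.Prime] (s : IsPSolvable p X) (h : SyM p L P X) (n : X ≤ nrm L) (a : Irr L ν↾L) (i : P ≤ iA L ν) :
    ov p False X L ν = ov p False (X ⊓ nrm P) L ν := mkLt _ Γ X L P ν (Nat.lt_succ_self _) s h n a i False.elim

end
end H3
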