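import Cfsg.Agent.H3.MK6

/-! # Bridges from the ambient counts `ov` to counts of irreducible characters -/

open Cfsg H7
open scoped ComplexConjugate commutatorElement
set_option maxSynthPendingDepth 3

namespace H3
open H3
open H2 (IsSylowIn exists_isSylowIn)

noncomputable section

variable {Γ : Type*} [Group Γ] {L X : Subgroup Γ} {α ν : Γ → ℂ} {p : ℕ} {b : Prop}

theorem card_top (W : (Γ → ℂ) → Prop) :
    Nat.card {χ : IrrCharacter (⊤ : Subgroup Γ) // W (am χ.1)} = Nat.card {χ : IrrCharacter Γ // W χ.1} := by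
  have e : ∀ χ : Γ → ℂ, am χ↾(⊤ : Subgroup Γ) = χ := fun χ => funext fun x => congrFun (am_res χ↾(⊤ : Subgroup Γ)) ⟨x, trivial⟩
  exact Nat.card_congr (Equiv.subtypeEquiv ⟨fun χ => ⟨am χ.1, irr_top.1 (irr_am χ)⟩, fun χ => ⟨χ.1↾(⊤ : Subgroup Γ), irr_top.2 χ.2⟩,
    fun χ => Subtype.ext (am_res _), fun χ => Subtype.ext (e _)⟩ fun _ => Iff.rfl)

variable [Finite Γ]

theorem ov_top : ov p b ⊤ L ν =
    Nat.card {χ : IrrCharacter Γ // ¬ p ∣ dg χ.1 ∧ (b → (fun x => conj (χ.1 x)) = χ.1) ∧ ⟪χ.1↾L, ν↾L⟫ ≠ 0} :=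
  (card_top (Ov p b ⊤ L ν)).trans (Nat.card_congr (Equiv.subtypeEquivRight fun χ => ⟨fun h => ⟨h.2, fun o =>
    funext fun x => congrFun (h.3 o) ⟨x, trivial⟩, h.4⟩, fun h => ⟨irr_top.2 χ.2, h.1, fun o => funext fun x =>
      congrFun (h.2.1 o) x, h.2.2⟩⟩))

theorem ov_sub' (l : L ≤ X) : ov p b X L ν = Nat.card {χ : IrrCharacter X // ¬ p ∣ dg χ.1 ∧
    (b → (fun x => conj (χ.1 x)) = χ.1) ∧ ⟪fun n : L => χ.1 ⟨n, l n.2⟩, ν↾L⟫ ≠ 0} :=
  Nat.card_congr (Equiv.subtypeEquivRight fun χ => by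
    have e : dg (am χ.1) = dg χ.1 := by rw [← dg_res (X := X), am_res]
    have f : Rl X (am χ.1) ↔ (fun x => conj (χ.1 x)) = χ.1 := by
      unfold Rl
      rw [am_res, show (fun x => conj (am χ.1 x))↾X = fun x => conj ((am χ.1)↾X x) from rfl, am_res]
    exact ⟨fun h => ⟨e ▸ h.2, fun o => f.1 (h.3 o), am_le l χ.1 ▸ h.4⟩,
      fun h => ⟨irr_am χ, e ▸ h.1, fun o => f.2 (h.2.1 o), (am_le l χ.1).symm ▸ h.2.2⟩⟩)

theorem inner_ne_iff_finsum {A : Type*} [Group A] [Fintype A] {f g : A → ℂ} : ⟪f, g⟫ ≠ 0 ↔ ∑ᶠ x, f x * conj (g x) ≠ 0 := by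
  rw [finsum_eq_sum_of_fintype, classInner, mul_ne_zero_iff, and_iff_right (inv_ne_zero (Nat.cast_ne_zero.2 Nat.card_pos.ne'))]

omit [Finite Γ] in
theorem inner_bot {_ : Fintype (⊥ : Subgroup Γ)} (f : (⊥ : Subgroup Γ) → ℂ) : ⟪f, (1 : Γ → ℂ)↾(⊥ : Subgroup Γ)⟫ = f 1 := by
  rw [classInner, Fintype.sum_subsingleton _ 1]; simp

theorem ov_top_bot : ov p b ⊤ ⊥ (1 : Γ → ℂ) =
    Nat.card {χ : IrrCharacter Γ // ¬ p ∣ dg χ.1 ∧ (b → (fun x => conj (χ.1 x)) = χ.1)} :=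
  ov_top.trans (Nat.card_congr (Equiv.subtypeEquivRight fun χ => and_congr_right fun _ => and_iff_left
    ((inner_bot _).trans_ne χ.2.deg_ne_zero)))

theorem ov_bot : ov p b X ⊥ (1 : Γ → ℂ) =
    Nat.card {χ : IrrCharacter X // ¬ p ∣ dg χ.1 ∧ (b → (fun x => conj (χ.1 x)) = χ.1)} :=
  (ov_sub' bot_le).trans (Nat.card_congr (Equiv.subtypeEquivRight fun χ => and_congr_right fun _ => and_iff_left
    ((inner_bot _).trans_ne χ.2.deg_ne_zero)))

theorem sym_syl [Fact p.Prime] (P : Sylow p Γ) : SyM p ⊥ (P : Subgroup Γ) ⊤ := by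
  simpa using sym_of_syl (K := ⊥) (H2.sylow_isSylowIn_top P) bot_le (le_nrm_of_normal _ _)

/-- McKay's equality for `p`-solvable groups -/
theorem mckay [Fact p.Prime] (s : IsPSolvable p Γ) (P : Sylow p Γ) :
    Nat.card {χ : IrrCharacter Γ // ¬ p ∣ dg χ.1} = Nat.card {χ : IrrCharacter (nrm (P : Subgroup Γ)) // ¬ p ∣ dg χ.1} := by
  have := mk_rel (ps_top.2 s) (sym_syl P) (le_nrm_of_normal _ _) (irr_one_res ⊥)
    (le_top.trans (le_iA (irr_one_res ⊤).isClassFunction bot_le (le_nrm_of_normal _ _)))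
  rw [top_inf_eq, ov_top_bot, ov_bot] at this
  simpa using this

theorem mckay_real (s : IsPSolvable 2 Γ) (P : Sylow 2 Γ) :
    Nat.card {χ : IrrCharacter Γ // ¬ 2 ∣ dg χ.1 ∧ (fun x => conj (χ.1 x)) = χ.1} =
      Nat.card {χ : IrrCharacter (nrm (P : Subgroup Γ)) // ¬ 2 ∣ dg χ.1 ∧ (fun x => conj (χ.1 x)) = χ.1} := by
  have := mk_real (ps_top.2 s) (sym_syl P) (le_nrm_of_normal _ _) (irr_one_res ⊥)
    (le_top.trans (le_iA (irr_one_res ⊤).isClassFunction bot_le (le_nrm_of_normal _ _))) (funext fun _ => map_one _)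
  rw [top_inf_eq, ov_top_bot, ov_bot] at this
  simpa using this

theorem forall_iff_card {A : Type*} [Finite A] {P Q : A → Prop} :
    (∀ a, P a → Q a) ↔ Nat.card {a // P a ∧ Q a} = Nat.card {a // P a} := by
  refine ⟨fun h => Nat.card_congr (Equiv.subtypeEquivRight fun a => and_iff_left_of_imp (h a)), fun h a o => ?_⟩
  have := Set.eq_of_subset_of_ncard_le (s := {a | P a ∧ Q a}) (t := {a | P a}) (fun _ h => h.1) h.ge
  exact (this.ge o).2

theorem eq_top_of_odd_real {Q : Subgroup Γ} [Q.Normal] (o : ¬ 2 ∣ Q.index)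
    (h : ∀ χ : IrrCharacter Γ, ¬ 2 ∣ dg χ.1 → (fun x => conj (χ.1 x)) = χ.1) : Q = ⊤ := by
  by_contra n
  obtain ⟨g, hg⟩ : ∃ g, g ∉ Q := not_forall.1 (mt (Subgroup.eq_top_iff' Q).2 n)
  obtain ⟨ψ, a, -, c⟩ := exists_irr_ker_not_mem (⊥ : Subgroup (Γ ⧸ Q)) (g := g) (mt (QuotientGroup.eq_one_iff g).1 hg)
  have := h ⟨_, a.comp_surjective _ (QuotientGroup.mk'_surjective Q)⟩ fun d => o (d.trans a.dg_dvd)
  rw [a.eq_one_of_real (Nat.odd_iff.2 (Nat.two_dvd_ne_zero.1 o)) (funext fun x => by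
    obtain ⟨x, rfl⟩ := QuotientGroup.mk'_surjective Q x
    exact congrFun this x)] at c
  exact c rfl

theorem odd_real_iff (hP : IsPGroup 2 Γ) :
    (∀ χ : IrrCharacter Γ, ¬ 2 ∣ dg χ.1 → (fun x => conj (χ.1 x)) = χ.1) ↔ commutator Γ = frattini Γ := by
  have k : ∀ (l : Γ →* ℂˣ) x, conj (lf l x) = lf l x ↔ l (x ^ 2) = 1 := fun l x => by
    rw [← (lf_ch l).map_inv, map_pow, sq, ← eq_inv_iff_mul_eq_one, ← map_inv, Units.ext_iff]; exact eq_comm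
  refine ⟨fun h => le_antisymm (H2.commutator_le_frattini hP) (H1.frattini_le_of_elementary_quotient Nat.prime_two le_rfl
    fun x => by_contra fun n => ?_), fun h χ d => ?_⟩
  · obtain ⟨l, e⟩ := exists_lin_ne_one n
    exact e ((k l x).1 (congrFun (h ⟨_, lf_irr l⟩ (by rw [dg_lf]; decide)) x))
  · obtain ⟨n, hn⟩ := hP.exists_card_eq
    have e := χ.2.dg_dvd
    rw [hn] at e
    obtain ⟨l, f⟩ := χ.2.isCharacter.exists_lf (χ.2.isCharacter.dg_eq_one.1 (Nat.Coprime.eq_one_of_dvd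
      ((Nat.prime_two.coprime_iff_not_dvd.2 d).symm.pow_right n) e))
    rw [f]
    exact funext fun x => (k l x).2 (lin_commutator l (h ▸ H2.pow_mem_frattini hP x))

end
end H3
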