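import Mathlib
import Cfsg.Prelude.Def_LinearParabolics

/-! # Orders of parabolic subgroups of `GL_n(q)` -/

namespace H3.Par
open Finset Submodule Cfsg
variable {F : Type*} [Field F] {q n : ℕ}

theorem card_adapt [Finite F] {V : Type*} [AddCommGroup V] [Module F V] [Finite V] {k : ℕ} (W : Fin k → Submodule F V) (h : Monotone W) :
    Nat.card {s : Fin k → V // LinearIndependent F s ∧ ∀ i, s i ∈ W i} = ∏ i : Fin k, (Nat.card (W i) - Nat.card F ^ (i : ℕ)) := by
  classical
  induction k with
  | zero => simp [linearIndependent_empty_type]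
  | succ k ih =>
    haveI := Fintype.ofFinite V
    rw [Fin.prod_univ_castSucc, ← Nat.card_congr ((Equiv.subtypeProdEquivSigmaSubtype fun (s : Fin k → V) x => (LinearIndependent F s ∧ ∀ i, s i ∈ W i.castSucc) ∧
      x ∈ (W (.last k) : Set V) \ span F (Set.range s)).symm.trans (((Equiv.prodComm _ _).trans (Fin.snocEquiv fun _ => V)).subtypeEquiv fun x => by
        simp [Fin.snocEquiv, linearIndependent_finSnoc, Fin.forall_fin_succ']; tauto)), Nat.card_sigma]
    simp only [Fin.val_castSucc, Fin.val_last]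
    rw [← ih (fun i => W i.castSucc) (h.comp Fin.strictMono_castSucc.monotone), Nat.card_eq_fintype_card, Fintype.card_subtype, card_eq_sum_ones, sum_mul, sum_filter]
    refine sum_congr rfl fun s _ => ?_
    split_ifs with p
    · simp only [p, true_and, implies_true, one_mul]
      rw [show Nat.card F ^ k = Nat.card (span F (Set.range s)) by rw [Module.natCard_eq_pow_finrank (K := F) (V := span F _), finrank_span_eq_card p.1, Fintype.card_fin]]
      exact Set.ncard_diff (span_le.2 (Set.range_subset_iff.2 fun i => h (Fin.le_last _) (p.2 i)))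
    · simp [p]

/-- the `q`-factorial -/
abbrev qf (q r : ℕ) : ℕ := ∏ j ∈ range r, ∑ l ∈ range (j + 1), q ^ l

theorem prod_qf (hq : 1 ≤ q) (r : ℕ) : ∏ l : Fin r, (q ^ (r - l) - 1) = (q - 1) ^ r * qf q r := by
  rw [Fin.prod_univ_eq_prod_range fun l => q ^ (r - l) - 1, ← prod_range_reflect, pow_eq_prod_const, ← prod_mul_distrib]
  exact prod_congr rfl fun l a => by rw [mul_comm, geom_sum_mul_of_one_le hq]; congr 2; simp at a; omega

theorem lab (μ : Fin n → ℕ) (h : ∑ i, μ i = n) : ∃ E : (Σ j, Fin (μ j)) ≃ Fin n, ∀ x, compLabel μ (E x) = x.1 ∧ E x + μ x.1 = ∑ k with k ≤ x.1, μ k + x.2 := by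
  refine ⟨finSigmaFinEquiv.trans (finCongr h), fun ⟨j, l⟩ => ?_⟩
  have e : ((finSigmaFinEquiv.trans (finCongr h) ⟨j, l⟩ : Fin n) : ℕ) = ∑ k with k < j, μ k + l := by
    simp only [Equiv.trans_apply, finCongr_apply, Fin.val_cast, finSigmaFinEquiv_apply, add_left_inj]
    exact sum_bij (fun i _ => i.castLE j.2.le) (fun i _ => mem_filter.2 ⟨mem_univ _, i.2⟩) (by simp) (fun k a => ⟨⟨k, by simpa using a⟩, by simp⟩) (by simp)
  have t : ∑ k with k ≤ j, μ k = ∑ k with k < j, μ k + μ j := by
    rw [add_comm, ← sum_insert (by simp)]; congr; ext; simp [le_iff_lt_or_eq, or_comm]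
  refine ⟨?_, by simp only [e, t]; omega⟩
  rw [compLabel, e]
  refine (congrArg card (Finset.ext fun i => ?_)).trans (Fin.card_Iio j)
  simp only [mem_filter, mem_univ, true_and, mem_Iio]
  refine ⟨fun a => lt_of_not_ge fun b => ?_, fun a => le_add_right (sum_le_sum_of_subset fun k => by simpa using fun b => b.trans_lt a)⟩
  have : ∑ k with k ≤ j, μ k ≤ ∑ k with k ≤ i, μ k := sum_le_sum_of_subset fun k => by simpa using fun c => c.trans b
  omega

variable [Fintype F] (hq : Fintype.card F = q)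
include hq

theorem card_par (μ : Fin n → ℕ) (h : ∑ i, μ i = n) : Nat.card (parabolicGL n F μ) = (∏ i : Fin n, q ^ (i : ℕ)) * ((q - 1) ^ n * ∏ i, qf q (μ i)) := by
  obtain ⟨E, e⟩ := lab μ h
  refine (Nat.card_congr ((Matrix.equiv_GL_linearindependent (𝔽 := F) n).subtypeEquiv (p := (· ∈ parabolicGL n F μ)) (q := fun s => ∀ j, s.1 j ∈ Submodule.pi {i | compLabel μ j < compLabel μ i} fun _ => (⊥ : Submodule F F))
    (fun g => ⟨fun a j i b => @a i j b, fun a i j b => a j i b⟩) |>.trans (Equiv.subtypeSubtypeEquivSubtypeInter _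
      fun s : Fin n → Fin n → F => ∀ j, s j ∈ Submodule.pi {i | compLabel μ j < compLabel μ i} fun _ => (⊥ : Submodule F F)))).trans ((card_adapt (F := F) (V := Fin n → F) (fun j => Submodule.pi {i | compLabel μ j < compLabel μ i} fun _ => ⊥) fun i j a v b k c => b k (lt_of_le_of_lt
      (card_le_card fun x => by simpa using fun d => d.trans a) c)).trans ?_)
  have : (q - 1) ^ n * ∏ i, qf q (μ i) = ∏ x : Σ j, Fin (μ j), (q ^ (μ x.1 - x.2) - 1) := by
    simp only [Fintype.prod_sigma, prod_qf (hq ▸ Fintype.card_pos), prod_mul_distrib, prod_pow_eq_pow_sum, h]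
  rw [this, ← E.prod_comp, ← E.prod_comp, ← prod_mul_distrib]
  refine prod_congr rfl fun x _ => ?_
  rw [Nat.mul_sub_one, ← pow_add, Nat.card_eq_fintype_card (α := F), hq, show E x + (μ x.1 - x.2) = ∑ k with k ≤ x.1, μ k by have := (e x).2; omega]
  refine congrArg (· - _) ((Nat.card_congr (Equiv.subtypePiEquivPi (p := fun i (c : F) => compLabel μ (E x) < compLabel μ i → c = 0))).trans ?_)
  rw [Nat.card_pi, ← E.prod_comp, Fintype.prod_sigma, ← prod_pow_eq_pow_sum, prod_filter]
  refine prod_congr rfl fun j _ => ?_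
  by_cases k : j ≤ x.1 <;> simp [(e _).1, k, hq, not_le.1, Fintype.card_unique]

theorem index_par (μ : Fin n → ℕ) (h : ∑ i, μ i = n) : Nat.card (GL (Fin n) F ⧸ parabolicGL n F μ) * ∏ i, qf q (μ i) = qf q n := by
  have q1 : 1 < q := hq ▸ Fintype.one_lt_card
  have := Subgroup.card_eq_card_quotient_mul_card_subgroup (parabolicGL n F μ)
  rw [card_par hq μ h, Matrix.card_GL_field, hq, prod_congr rfl fun (i : Fin n) _ => show q ^ n - q ^ (i : ℕ) = q ^ (i : ℕ) * (q ^ (n - i) - 1) by
    rw [Nat.mul_sub_one, ← pow_add, Nat.add_sub_cancel' i.2.le], prod_mul_distrib, prod_qf q1.le, mul_left_comm (Nat.card _), mul_left_comm (Nat.card _)] at this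
  exact (mul_left_cancel₀ (pow_ne_zero _ (by omega)) (mul_left_cancel₀ (by positivity) this)).symm

end H3.Par
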