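import Cfsg.Agent.H3.Par
import Cfsg.Agent.H3.Gen

/-! # Bruhat decomposition of `GL_n`, Jacobi-Trudi identity, orthonormality of the unipotent characters -/

namespace H3.Par
open Finset MulAction Matrix _root_.Cfsg

universe u in
theorem burn {G : Type u} [Group G] [Fintype G] (H K : Subgroup G) : ∃ (Ω : Type u) (f : G → Ω), Function.Surjective f ∧ (∀ a b, f a = f b ↔ ∃ h ∈ H, ∃ k ∈ K, h * b = a * k) ∧
    (Nat.card G : ℂ)⁻¹ * ∑ g, fixedPointCharacter H g * fixedPointCharacter K g = Nat.card Ω := by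
  classical
  refine ⟨orbitRel.Quotient G ((G ⧸ H) × G ⧸ K), fun g => .mk _ ((1 : G), g), ?_, fun a b => ?_, ?_⟩
  · rintro ⟨⟨x⟩, ⟨y⟩⟩
    exact ⟨x⁻¹ * y, Quotient.sound ⟨x⁻¹, Prod.ext (congrArg QuotientGroup.mk (inv_mul_cancel x)) rfl⟩⟩
  · refine (Quotient.eq.trans mem_orbit_iff).trans ⟨fun ⟨h, e⟩ => ⟨h, by simpa using QuotientGroup.eq.1 (congrArg Prod.fst e).symm, _, QuotientGroup.eq.1 (congrArg Prod.snd e).symm, by simp⟩,
      fun ⟨h, p, k, r, e⟩ => ⟨h, Prod.ext (QuotientGroup.eq.2 (by simpa)) (QuotientGroup.eq.2 (by simpa [e])).symm⟩⟩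
  · have := congrArg (Nat.cast (R := ℂ)) (sum_card_fixedBy_eq_card_orbits_mul_card_group G ((G ⧸ H) × G ⧸ K))
    simp only [← Nat.card_eq_fintype_card, Nat.cast_mul, Nat.cast_sum] at this
    rw [inv_mul_eq_iff_eq_mul₀ (Nat.cast_ne_zero.2 Nat.card_pos.ne'), mul_comm, ← this]
    refine sum_congr rfl fun g _ => ?_
    rw [fixedPointCharacter, fixedPointCharacter, ← Nat.cast_mul, ← Nat.card_prod]
    exact congrArg _ (Nat.card_congr (Equiv.subtypeProdEquivProd.symm.trans (Equiv.subtypeEquivRight fun x => (Prod.ext_iff (x := g • x) (y := x)).symm)))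

theorem bruhat {F : Type*} [Field F] {n : ℕ} (g : GL (Fin n) F) : ∃ (b c : GL (Fin n) F) (w : Equiv.Perm (Fin n)), b.1.BlockTriangular id ∧ c.1.BlockTriangular id ∧
    b * permMatrixHom.toHomUnits w = g * c := by
  classical
  have ex : ∀ j : Fin n, ∃ t : ℕ, ∃ c : Fin n → F, c j = 1 ∧ (∀ k, j < k → c k = 0) ∧ ∀ i : Fin n, t ≤ i → (g.1 *ᵥ c) i = 0 := fun j =>
    ⟨n, Pi.single j 1, by simp, fun k h => by simp [h.ne'], fun i h => absurd i.2 h.not_gt⟩
  choose c c1 c2 c3 using fun j => Nat.find_spec (ex j)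
  have p : ∀ j, Nat.find (ex j) ≠ 0 := fun j z => one_ne_zero ((c1 j).symm.trans (congrFun (mulVec_injective_of_isUnit g.isUnit (show g.1 *ᵥ c j = g.1 *ᵥ 0 from
    _root_.funext fun i => by simp [c3 j i (by simp [z])])) j))
  have l : ∀ j, Nat.find (ex j) - 1 < n := fun j => by
    have := Nat.find_min' (ex j) ⟨Pi.single j 1, by simp, fun k h => by simp [h.ne'], fun i (h : n ≤ i) => absurd i.2 h.not_gt⟩
    have := p j; omega
  let w : Fin n → Fin n := fun j => ⟨_, l j⟩
  have m : ∀ j, ∀ d : Fin n → F, d j = 1 → (∀ k, j < k → d k = 0) → (∀ i : Fin n, Nat.find (ex j) ≤ i → (g.1 *ᵥ d) i = 0) → (g.1 *ᵥ d) (w j) ≠ 0 := fun j d a b e z =>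
    Nat.find_min (ex j) (Nat.sub_one_lt (p j)) ⟨d, a, b, fun i h => h.eq_or_lt.elim (fun h => (Fin.ext h : w j = i) ▸ z) fun h => e i (by omega)⟩
  have i : Function.Injective w := Function.Injective.of_lt_imp_ne fun k j h e => by
    have e' : Nat.find (ex k) = Nat.find (ex j) := by have := congrArg Fin.val e; have := p j; have := p k; simp only [w] at *; omega
    refine m j (c j - ((g.1 *ᵥ c j) (w j) / (g.1 *ᵥ c k) (w k)) • c k) (by simp [c1, c2 k j h]) (fun i a => by simp [c2 j i a, c2 k i (h.trans a)])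
      (fun i a => by simp [mulVec_sub, mulVec_smul, c3 j i a, c3 k i (e' ▸ a)]) ?_
    simp [mulVec_sub, mulVec_smul, ← e, m k _ (c1 k) (c2 k) (c3 k)]
  let W := Equiv.ofBijective w i.bijective_of_finite
  have t : (of fun i j => c j i).BlockTriangular id := fun i j h => c2 j i h
  let C := GeneralLinearGroup.mkOfDetNeZero (of fun i j => c j i) (by simp [det_of_upperTriangular t, c1])
  refine ⟨g * C * (permMatrixHom.toHomUnits W)⁻¹, C, W, fun i j h => ?_, t, inv_mul_cancel_right _ _⟩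
  obtain ⟨j, rfl⟩ := W.surjective j
  rw [← map_inv]
  refine Eq.trans ?_ (c3 j i (by have : Nat.find (ex j) - 1 < i := h; omega))
  rw [Units.val_mul, MonoidHom.coe_toHomUnits, permMatrixHom_apply, PEquiv.mul_toMatrix_toPEquiv]
  simp [mul_apply, mulVec, dotProduct, C]

theorem card_ker {S Ω Ω' : Type*} {f : S → Ω} {g : S → Ω'} (s : Function.Surjective f) (s' : Function.Surjective g) (h : ∀ a b, f a = f b ↔ g a = g b) :
    Nat.card Ω = Nat.card Ω' :=
  Nat.card_congr ((Setoid.quotientKerEquivOfSurjective _ s).symm.trans ((Quotient.congrRight h).trans (Setoid.quotientKerEquivOfSurjective _ s')))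

variable {n : ℕ}

theorem gl_burn (F : Type*) [Field F] [Fintype (GL (Fin n) F)] (ν μ : Fin n → ℕ) {Ω' : Type*} {f' : Equiv.Perm (Fin n) → Ω'} (s' : Function.Surjective f')
    (e' : ∀ a b, f' a = f' b ↔ ∃ h ∈ youngSubgroup ν, ∃ k ∈ youngSubgroup μ, h * b = a * k) : (Nat.card (GL (Fin n) F) : ℂ)⁻¹ *
    ∑ g, fixedPointCharacter (parabolicGL n F ν) g * fixedPointCharacter (parabolicGL n F μ) g = Nat.card Ω' := by
  obtain ⟨Ω, f, s, e, h⟩ := burn (parabolicGL n F ν) (parabolicGL n F μ)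
  let π : Equiv.Perm (Fin n) →* GL (Fin n) F := permMatrixHom.toHomUnits
  have mo : ∀ (μ : Fin n → ℕ) (b : GL (Fin n) F), b.1.BlockTriangular id → b ∈ parabolicGL n F μ := fun μ b h i j k => h (lt_of_not_ge fun a => k.not_ge
    (card_le_card fun x => by simpa using fun d => d.trans a))
  have y : ∀ μ : Fin n → ℕ, ∀ a ∈ youngSubgroup μ, π a ∈ parabolicGL n F μ := fun μ a h i j k => by
    have : a j ≠ i := fun z => k.ne (z ▸ h j).symm
    simp [π, permMatrixHom_apply, Equiv.Perm.permMatrix, PEquiv.toMatrix_apply, Equiv.symm_apply_eq, this.symm]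
  rw [h, card_ker (f := f ∘ π) (fun x => ?_) s' fun a b => (e _ _).trans (.trans ⟨fun ⟨p, hp, k, hk, z⟩ => ?_, fun ⟨p, hp, k, hk, z⟩ =>
      ⟨_, y _ _ hp, _, y _ _ hk, by rw [← map_mul, z, map_mul]⟩⟩ (e' _ _).symm)]
  swap
  · obtain ⟨τ, -, t⟩ := exists_ne_zero_of_sum_ne_zero ((det_apply' _).symm.trans_ne (p * π b).det_ne_zero)
    have t := fun j => prod_ne_zero_iff.1 (right_ne_zero_of_mul t) j (mem_univ j)
    have a1 : ∀ j, compLabel ν (τ j) ≤ compLabel ν (b j) := fun j => le_of_not_gt fun c => t j (by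
      simpa [π, permMatrixHom_apply, Equiv.Perm.permMatrix, PEquiv.mul_toMatrix_toPEquiv, Equiv.Perm.inv_def] using hp c)
    have a2 : ∀ j, compLabel μ (a⁻¹ (τ j)) ≤ compLabel μ j := fun j => le_of_not_gt fun c => t j (by
      simpa [z, π, permMatrixHom_apply, Equiv.Perm.permMatrix, PEquiv.toMatrix_toPEquiv_mul] using hk c)
    refine ⟨τ * b⁻¹, fun j => ?_, a⁻¹ * τ, fun j => (sum_eq_sum_iff_of_le fun j _ => a2 j).1 (Equiv.sum_comp (a⁻¹ * τ) _) j (mem_univ j), by group⟩
    simpa using (sum_eq_sum_iff_of_le fun j _ => a1 j).1 ((Equiv.sum_comp τ _).trans (Equiv.sum_comp b _).symm) (b⁻¹ j) (mem_univ _)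
  · obtain ⟨g, rfl⟩ := s x
    obtain ⟨b, c, w, p, r, z⟩ := bruhat g
    exact ⟨w, ((e _ _).2 ⟨b, mo _ _ p, c, mo _ _ r, z⟩).symm⟩

theorem fib {X Y I : Type*} [Fintype X] [Fintype Y] [DecidableEq I] {u : X → I} {v : Y → I} (h : ∀ i, #{x | u x = i} = #{y | v y = i}) : ∃ e : X ≃ Y, ∀ x, v (e x) = u x :=
  ⟨_, Equiv.ofFiberEquiv_map fun i => Fintype.equivOfCardEq (by simpa only [Fintype.card_subtype] using h i)⟩

theorem card_sig {I J : Type*} [Fintype I] [DecidableEq J] (A : I → ℕ) (u : I → J) (j : J) : #{z : Σ i, Fin (A i) | u z.1 = j} = ∑ i, if u i = j then A i else 0 := by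
  rw [card_filter, Fintype.sum_sigma]; exact sum_congr rfl fun i _ => by split_ifs <;> simp [*]

theorem lab' (μ : Fin n → ℕ) (h : ∑ i, μ i = n) : ∃ L : Fin n → Fin n, (∀ x, compLabel μ x = L x) ∧ ∀ i, #{x | L x = i} = μ i := by
  obtain ⟨E, e⟩ := lab μ h
  refine ⟨fun x => (E.symm x).1, fun x => by rw [← (e _).1, E.apply_symm_apply], fun i => ?_⟩
  rw [card_filter, ← E.sum_comp]
  simpa using card_sig μ id i

theorem tab (ν μ : Fin n → ℕ) (hν : ∑ i, ν i = n) (hμ : ∑ i, μ i = n) :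
    ∃ f : Equiv.Perm (Fin n) → ({A ∈ Fintype.piFinset fun i => finsuppAntidiag univ (ν i) | ∑ i, A i = Finsupp.equivFunOnFinite.symm μ} : Finset (Fin n → Fin n →₀ ℕ)),
      Function.Surjective f ∧
      ∀ a b, f a = f b ↔ ∃ h ∈ youngSubgroup ν, ∃ k ∈ youngSubgroup μ, h * b = a * k := by
  obtain ⟨L, l, c⟩ := lab' ν hν
  obtain ⟨M, m, d⟩ := lab' μ hμ
  have y : ∀ a, a ∈ youngSubgroup ν ↔ ∀ x, L (a x) = L x := fun a => forall_congr' fun x => by rw [l, l, Fin.val_inj]
  have z : ∀ a, a ∈ youngSubgroup μ ↔ ∀ x, M (a x) = M x := fun a => forall_congr' fun x => by rw [m, m, Fin.val_inj]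
  refine ⟨fun a => ⟨fun i => Finsupp.equivFunOnFinite.symm fun j => #{x | (L (a x), M x) = (i, j)}, by
    simp only [mem_filter, Fintype.mem_piFinset, mem_finsuppAntidiag, subset_univ, and_true, Finsupp.ext_iff, Finsupp.finsetSum_apply, Finsupp.equivFunOnFinite_symm_apply_apply]
    refine ⟨fun i => ?_, fun j => ?_⟩
    · rw [← c, card_filter (fun x => L x = i), ← Equiv.sum_comp a fun x => if L x = i then 1 else 0]
      simp only [Finsupp.coe_equivFunOnFinite_symm, card_filter]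
      exact sum_comm.trans (sum_congr rfl fun x _ => by simp [ite_and])
    · simp only [← d, card_filter]
      exact sum_comm.trans (sum_congr rfl fun x _ => by simp [ite_and])⟩, fun ⟨A, h⟩ => ?_, fun a b => ?_⟩
  · simp only [mem_filter, Fintype.mem_piFinset, mem_finsuppAntidiag, subset_univ, and_true, Finsupp.ext_iff, Finsupp.finsetSum_apply, Finsupp.equivFunOnFinite_symm_apply_apply] at h
    obtain ⟨e, p⟩ := fib (u := fun z : Σ p : Fin n × Fin n, Fin (A p.1 p.2) => z.1.1) (v := L) fun i => by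
      rw [c, ← h.1, card_sig (fun p : Fin n × Fin n => A p.1 p.2) Prod.fst]; simp [Fintype.sum_prod_type]
    obtain ⟨e', p'⟩ := fib (u := fun z : Σ p : Fin n × Fin n, Fin (A p.1 p.2) => z.1.2) (v := M) fun i => by
      rw [d, ← h.2, card_sig (fun p : Fin n × Fin n => A p.1 p.2) Prod.snd]; simp [Fintype.sum_prod_type]
    refine ⟨e'.symm.trans e, Subtype.ext (_root_.funext fun i => Finsupp.ext fun j => ?_)⟩
    rw [Finsupp.equivFunOnFinite_symm_apply_apply, card_filter, ← e'.sum_comp]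
    simpa [p, p', -Prod.mk.injEq] using card_sig (fun p : Fin n × Fin n => A p.1 p.2) id (i, j)
  · refine ⟨fun h => ?_, fun ⟨h, p, k, r, e⟩ => Subtype.ext (_root_.funext fun i => congrArg Finsupp.equivFunOnFinite.symm (_root_.funext fun j => ?_))⟩
    · obtain ⟨k, e⟩ := fib (u := fun x => (L (b x), M x)) (v := fun x => (L (a x), M x)) fun p => (DFunLike.congr_fun (congrFun (congrArg Subtype.val h) p.1) p.2).symm
      exact ⟨a * k * b⁻¹, (y _).2 fun x => by simpa using congrArg Prod.fst (e (b⁻¹ x)), k, (z _).2 fun x => congrArg Prod.snd (e x), by simp⟩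
    · rw [card_filter, card_filter, ← Equiv.sum_comp k]
      simp only [← Equiv.Perm.mul_apply a, ← e, Equiv.Perm.mul_apply h, (y _).1 p, (z _).1 r]

/-- complete homogeneous symmetric functions -/
noncomputable def hh {R : Type*} [CommRing R] (x : Fin n → R) (r : ℕ) : R := PowerSeries.coeff r (∏ k, PowerSeries.mk fun r => x k ^ r)

open Polynomial in
theorem jt {R : Type*} [CommRing R] (x : Fin n → R) (v : Fin n → ℕ) :
    (of fun i (l : Fin n) => if l ≤ v i then hh x (v i - l) else 0).det * (of fun (i k : Fin n) => x k ^ (i : ℕ)).det = (of fun i k => x k ^ v i).det := by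
  let E : Fin n → R[X] := fun k => ∏ l ∈ univ.erase k, (1 - C (x l) * X)
  have m : ∀ v : Fin n → ℕ, (of fun i k => x k ^ v i) = (of fun i (l : Fin n) => if l ≤ v i then hh x (v i - l) else 0) * of fun (l k : Fin n) => (E k).coeff l := fun v => by
    ext i k
    have d : (E k).natDegree < n := ((natDegree_prod_le _ _).trans (sum_le_card_nsmul _ _ 1 fun l _ => by compute_degree)).trans_lt (by simpa using k.pos)
    have P : (∏ k, PowerSeries.mk fun r => x k ^ r) * coeToPowerSeries.ringHom (E k) = PowerSeries.mk fun r => x k ^ r := by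
      rw [← mul_prod_erase _ _ (mem_univ k), map_prod, mul_assoc, ← prod_mul_distrib, prod_eq_one fun l _ => ?_, mul_one]
      simpa [PowerSeries.rescale_mk, PowerSeries.rescale_X] using congrArg (PowerSeries.rescale (x l)) (PowerSeries.mk_one_mul_one_sub_eq_one R)
    have := congrArg (PowerSeries.coeff (v i)) P
    rw [as_sum_range_C_mul_X_pow' _ d, ← Fin.sum_univ_eq_sum_range fun i => C ((E k).coeff i) * X ^ i] at this
    simpa [mul_sum, mul_left_comm _ (PowerSeries.C _), PowerSeries.coeff_mul_X_pow', mul_apply, hh, mul_comm ((E k).coeff _)] using this.symm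
  rw [m v, m (·), det_mul, det_mul, det_of_lowerTriangular (of fun (i l : Fin n) => if (l : ℕ) ≤ i then hh x (i - l) else 0) fun i j h => if_neg (not_le.2 h)]
  simp [hh, map_prod]

open MvPolynomial in
theorem alt (v : Fin n → ℕ) : (of fun i k => (X k : MvPolynomial (Fin n) ℂ) ^ v i).det =
    ∑ σ : Equiv.Perm (Fin n), monomial (Finsupp.equivFunOnFinite.symm (v ∘ σ)) ((Equiv.Perm.sign σ : ℤ) : ℂ) := by
  rw [det_apply']
  exact sum_congr rfl fun σ _ => by rw [monomial_eq, Finsupp.prod_fintype _ _ (by simp)]; simp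

open MvPolynomial in
theorem coeff_hh (ν : Fin n → ℕ) (β : Fin n →₀ ℕ) : coeff β (∏ i, hh (X : Fin n → MvPolynomial (Fin n) ℂ) (ν i)) =
    #{A ∈ Fintype.piFinset fun i => finsuppAntidiag univ (ν i) | ∑ i, A i = β} := by
  have : ∀ l : Fin n →₀ ℕ, ∏ k, (X k : MvPolynomial (Fin n) ℂ) ^ l k = monomial l 1 := fun l => by rw [monomial_eq, Finsupp.prod_fintype _ _ (by simp)]; simp
  simp [hh, PowerSeries.coeff_prod, this, prod_univ_sum, ← monomial_sum_one, coeff_sum, coeff_monomial]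

theorem uni_inner (F : Type*) [Field F] [Fintype (GL (Fin n) F)] {ν μ : Fin n → ℕ} (a : Monotone ν) (b : Monotone μ) (hν : ∑ i, ν i = n) (hμ : ∑ i, μ i = n) :
    classInner (unipotentCharacterGL n F ν) (unipotentCharacterGL n F μ) = if ν = μ then 1 else 0 := by
  have S : ∀ (ν : Fin n → ℕ) (κ : Equiv.Perm (Fin n)), ∑ i, ν i = n → (∀ i, (κ i : ℕ) ≤ ν i + i) → ∑ i, (ν i + i - κ i) = n := fun ν κ e h => by
    have := sum_congr rfl fun i (_ : i ∈ univ) => Nat.sub_add_cancel (h i)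
    rw [sum_add_distrib, sum_add_distrib, Equiv.sum_comp κ fun i => (i : ℕ)] at this
    omega
  have m : ∀ {ν : Fin n → ℕ}, Monotone ν → StrictMono fun i => ν i + (i : ℕ) := fun h => h.add_strictMono Fin.val_strictMono
  have := congrArg (MvPolynomial.coeff (Finsupp.equivFunOnFinite.symm fun i => μ i + (i : ℕ))) (jt (MvPolynomial.X (R := ℂ)) fun i => ν i + i)
  rw [alt, alt, ← det_transpose, det_apply', sum_mul_sum, MvPolynomial.coeff_sum, MvPolynomial.coeff_sum, sum_eq_single (1 : Equiv.Perm (Fin n)) (f := fun σ => MvPolynomial.coeff _ (MvPolynomial.monomial _ _)) (fun σ _ h => by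
    rw [MvPolynomial.coeff_monomial, if_neg fun e => h ?_]
    have e : ∀ i, ν (σ i) + σ i = μ i + i := congrFun (Finsupp.equivFunOnFinite.symm.injective e)
    exact Equiv.ext fun i => Fin.ext (Fin.coe_orderIso_apply (StrictMono.orderIsoOfSurjective σ (fun i j k => (m a).lt_iff_lt.1 (by simpa only [e] using m b k)) σ.surjective) i))
    (by simp)] at this
  refine Eq.trans ?_ (this.trans (by simp [MvPolynomial.coeff_monomial, funext_iff]))
  simp only [classInner, unipotentCharacterGL, map_sum, sum_mul_sum]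
  rw [sum_comm, mul_sum]
  refine sum_congr rfl fun κ _ => ?_
  rw [sum_comm, mul_sum]
  rw [MvPolynomial.coeff_sum]
  refine sum_congr rfl fun τ _ => ?_
  rw [MvPolynomial.coeff_mul_monomial']
  by_cases p : ∀ i, (κ i : ℕ) ≤ ν i + i
  swap
  · obtain ⟨i, h⟩ := not_forall.1 p
    rw [prod_eq_zero (mem_univ i) (by exact if_neg h)]
    simp [p]
  by_cases r : ∀ i, (τ i : ℕ) ≤ μ i + i
  swap
  · rw [if_neg (c := LE.le _ _) fun h => r h]; simp [r]
  obtain ⟨f, s, e⟩ := tab _ _ (S ν κ hν p) (S μ τ hμ r)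
  have g := gl_burn F _ _ s e
  rw [Nat.card_eq_fintype_card (α := Subtype _), Fintype.card_coe, ← coeff_hh] at g
  rw [if_pos (c := LE.le (α := Finsupp _ _) _ _) fun h => r h, ← map_intCast (MvPolynomial.C (σ := Fin n) (R := ℂ)), MvPolynomial.coeff_C_mul]
  simp only [if_pos r, transpose_apply, of_apply, p, if_true, implies_true]
  rw [show (Finsupp.equivFunOnFinite.symm fun i => μ i + (i : ℕ)) - Finsupp.equivFunOnFinite.symm (Fin.val ∘ τ) = Finsupp.equivFunOnFinite.symm fun i => μ i + i - τ i from Finsupp.ext fun _ => rfl, ← g]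
  simp only [mul_sum, sum_mul, map_mul, map_intCast, fixedPointCharacter, map_natCast]
  exact sum_congr rfl fun _ _ => by ring

theorem uni_gen (F : Type*) [Field F] [Finite (GL (Fin n) F)] (ν : Fin n → ℕ) : IsGeneralizedCharacter _ (unipotentCharacterGL n F ν) := by
  rw [show unipotentCharacterGL n F ν = ∑ κ : Equiv.Perm (Fin n), if ∀ i : Fin n, (κ i).val ≤ ν i + i.val then
    ((Equiv.Perm.sign κ : ℤ) : ℂ) • fixedPointCharacter (parabolicGL n F fun i => ν i + i.val - (κ i).val) else 0 by ext; simp [unipotentCharacterGL, ite_apply]]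
  exact isGen_sum _ _ fun κ _ => by split_ifs; exacts [H3.Cfsg.IsGeneralizedCharacter.intCast_smul (H3.Cfsg.IsCharacter.isGen (isCharacter_fixedBy _)) _, isGen_zero]

end H3.Par
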