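import Cfsg.Agent.H3.Cls

/-! # The relative Glauberman correspondence for a `p`-group acting on `K/N` of `p'`-order -/

open Cfsg H7
open scoped ComplexConjugate commutatorElement
set_option maxSynthPendingDepth 3

namespace H3
open H3

noncomputable section

section unitvec
variable {X : Type*} [Group X] [Fintype X] {f e : X → ℂ}

theorem inner_sub_proj (hf : ⟪f, f⟫ = 1) (he : ⟪e, e⟫ = 1) :
    ⟪f - ⟪f, e⟫ • e, f - ⟪f, e⟫ • e⟫ = ((1 - ‖⟪f, e⟫‖ ^ 2 : ℝ) : ℂ) := by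
  rw [inner_sub_left, inner_sub_right, inner_sub_right, inner_smul_left, inner_smul_left, inner_smul_right,
    inner_smul_right, hf, he, ← inner_conj_symm f e]
  push_cast
  rw [← Complex.mul_conj']
  ring

theorem norm_inner_le_one (hf : ⟪f, f⟫ = 1) (he : ⟪e, e⟫ = 1) : ‖⟪f, e⟫‖ ≤ 1 := by
  have := inner_self_re_nonneg (f - ⟪f, e⟫ • e)
  rw [inner_sub_proj hf he, Complex.ofReal_re] at this
  nlinarith [norm_nonneg ⟪f, e⟫]

theorem eq_smul_of_norm (hf : ⟪f, f⟫ = 1) (he : ⟪e, e⟫ = 1) (h : ‖⟪f, e⟫‖ = 1) : f = ⟪f, e⟫ • e :=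
  sub_eq_zero.1 (inner_self_eq_zero.1 (by rw [inner_sub_proj hf he, h]; simp))

theorem inner_ne_of_unit {f' : X → ℂ} (hf : ⟪f, f⟫ = 1) (hf' : ⟪f', f'⟫ = 1) (he : ⟪e, e⟫ = 1) (h : ‖⟪f, e⟫‖ = 1)
    (h' : ‖⟪f', e⟫‖ = 1) : ⟪f, f'⟫ ≠ 0 := by
  rw [eq_smul_of_norm hf he h, inner_smul_left, ← inner_conj_symm f' e]
  refine mul_ne_zero ?_ ((map_ne_zero _).2 ?_) <;> rw [← norm_ne_zero_iff] <;> simp [*]

end unitvec

variable {Γ : Type*} [Group Γ] [Finite Γ] {C D E K N P S X Z : Subgroup Γ} {α β γ χ ψ η ξ : Γ → ℂ} {s t : Γ} {p : ℕ}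

/-- inner product of the slices along the coset `X t` -/
def av (X : Subgroup Γ) (α β : Γ → ℂ) (t : Γ) : ℂ := ⟪fun x : X => α (x * t), fun x : X => β (x * t)⟫

theorem av_one : av X α β 1 = ⟪α↾X, β↾X⟫ := by simp [av]

theorem av_res (l : X ≤ E) : (av X α β)↾E = avg (X.subgroupOf E) (α↾E * fun g => conj (β↾E g)) := by
  ext t
  rw [av, ← inner_comp_equiv (Subgroup.subgroupOfEquivOfLe l).toEquiv]
  rfl

theorem ch_av (l : X ≤ E) (n : E ≤ nrm X) (a : Ch E α↾E) (b : Ch E β↾E) : Ch E (av X α β)↾E := by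
  haveI := normal_subgroupOf n
  rw [av_res l]
  exact (a.mul b.conj).avg

theorem av_self (l : X ≤ E) (n : E ≤ nrm X) (a : Ch E α↾E) (b : Irr X α↾X) (h : t ∈ E) : av X α α t = 1 := by
  haveI := normal_subgroupOf n
  exact (congrFun (av_res l) ⟨t, h⟩).trans (congrFun (avg_normSq a ((irr_sub l).2 b)) ⟨t, h⟩)

theorem inner_ne_of_av (l : X ≤ E) (n : E ≤ nrm X) (a : Ch E α↾E) (b : Ch E β↾E) (h : t ∈ E) (e : av X α β t ≠ 0) :
    ⟪α↾X, β↾X⟫ ≠ 0 := fun o =>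
  e (congrFun ((ch_av l n a b).eq_zero_of_deg (av_one.trans o)) ⟨t, h⟩)

theorem av_eq (l : C ≤ K) (m : K ≤ E) (h : t ∈ E) (n : t ∈ nrm K)
    (k : ∀ g ∈ K, ∀ c ∈ C, ∀ d ∈ C, g * (c * t) * g⁻¹ = d * t → g ∈ C) (a : IsClassFunction E α↾E)
    (b : IsClassFunction E β↾E) : av C α β t = av K α β t := by
  have := sum_coset_eq l n k (F := extendByZero E (α↾E * fun g => conj (β↾E g))) fun g u x =>
    ext0_conj_mem (a.mul b.conj) (m u) x
  simp only [fun g : K => ext0_of_mem (α↾E * fun g => conj (β↾E g)) (mul_mem (m g.2) h),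
    fun g : C => ext0_of_mem (α↾E * fun g => conj (β↾E g)) (mul_mem (m (l g.2)) h), Pi.mul_apply] at this
  rw [av, av, classInner, classInner, this, ← relIndex_mul_card' l,
    Nat.cast_mul, mul_inv, mul_mul_mul_comm, inv_mul_cancel₀ (Nat.cast_ne_zero.2 (relIndex_pos _ _).ne'), one_mul]

omit [Finite Γ] in
theorem comm_le_of_cyc (n : s ∈ nrm X) : ⁅X ⊔ Subgroup.zpowers s, X ⊔ Subgroup.zpowers s⁆ ≤ X := by
  have o := Subgroup.zpowers_le.2 n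
  have c : ⁅Subgroup.zpowers s, Subgroup.zpowers s⁆ ≤ X := by
    rw [comm_eq_bot.2 (by rw [cen_zpowers]; exact Subgroup.zpowers_le.2 (self_mem_cen1 s))]; exact bot_le
  exact comm_sup_le (le_nrm_self X) o (comm_le_left (sup_le (le_nrm_self X) o))
    (comm_sup_le' (le_nrm_self X) o (comm_le_right o) c)

theorem irr_of_ne_zero (n : s ∈ nrm X) (e : E = X ⊔ Subgroup.zpowers s) (a : Irr E η↾E) {x : Γ} (hx : x ∈ X)
    (h : η (x * s) ≠ 0) : Irr X η↾X := by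
  have l : X ≤ E := e ▸ le_sup_left
  have m : s ∈ E := e.ge ((le_sup_right : _ ≤ X ⊔ _) (Subgroup.mem_zpowers s))
  haveI := normal_subgroupOf (e.le.trans (sup_le (le_nrm_self X) (Subgroup.zpowers_le.2 n)))
  refine (irr_sub l).1 ((a.isCharacter.res _).isIrr_of_inner_self ?_)
  rw [inner_res_eq_card (commutator_le_sub (e ▸ comm_le_of_cyc n)) a, (Subgroup.eq_bot_iff_forall
    (triv (X.subgroupOf E) ⊓ lstab η↾E)).2, Subgroup.card_bot, Nat.cast_one]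
  intro ω ⟨u, v⟩
  have w : ω ⟨s, m⟩ = 1 := by
    by_contra c
    refine h (eq_zero_of_lstab v (g := ⟨x * s, mul_mem (l hx) m⟩) ?_)
    rwa [show (⟨x * s, mul_mem (l hx) m⟩ : E) = ⟨x, l hx⟩ * ⟨s, m⟩ from rfl, map_mul, mem_triv.1 u ⟨x, l hx⟩ hx, one_mul]
  ext ⟨y, hy⟩
  obtain ⟨a, a1, _, ⟨j, rfl⟩, rfl⟩ := (mem_sup_nrm' (Subgroup.zpowers_le.2 n)).1 (e.le hy)
  rw [show (⟨a * (fun x => s ^ x) j, hy⟩ : E) = ⟨a, l a1⟩ * ⟨s, m⟩ ^ j from rfl, map_mul, mem_triv.1 u ⟨a, l a1⟩ a1,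
    map_zpow, w]
  simp

theorem exists_ext_cyc (e : E = X ⊔ Subgroup.zpowers s) (a : Irr X α↾X) (i : s ∈ iA X α) :
    ∃ η : Γ → ℂ, Irr E η↾E ∧ η↾X = α↾X := by
  have l : X ≤ E := e ▸ le_sup_left
  have m : s ∈ E := e.ge ((le_sup_right : _ ≤ X ⊔ _) (Subgroup.mem_zpowers s))
  have o : E ≤ iA X α := e.le.trans (sup_le (self_le_iA a.isClassFunction) (Subgroup.zpowers_le.2 i))
  haveI := normal_subgroupOf (o.trans iA_le_nrm)
  obtain ⟨χ, u, v⟩ := ext_of_cyclic (N := X.subgroupOf E) ⟨(⟨s, m⟩ : E), fun y => by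
    obtain ⟨⟨y, hy⟩, rfl⟩ := QuotientGroup.mk_surjective y
    obtain ⟨a, a1, _, ⟨j, rfl⟩, rfl⟩ := (mem_sup_nrm' (Subgroup.zpowers_le.2 i.1)).1 (e.le hy)
    refine ⟨j, ?_⟩
    rw [show (⟨a * (fun x => s ^ x) j, hy⟩ : E) = ⟨a, l a1⟩ * ⟨s, m⟩ ^ j from rfl, QuotientGroup.mk_mul,
      (QuotientGroup.eq_one_iff _).2 (show (⟨a, l a1⟩ : E) ∈ X.subgroupOf E from a1), one_mul]
    rfl⟩ ((irr_sub l).2 a) (inertia_sub_top l o)
  obtain ⟨η, rfl⟩ := exists_amb χ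
  exact ⟨η, u, (eq_sub l).1 v⟩

theorem exists_av_ne (l : C ≤ E) (h : s ∈ E) {c : Γ} (hc : c ∈ C) (o : η (c * s) ≠ 0)
    (k : ∀ d ∈ C, ∀ g ∈ E, g * (c * s) * g⁻¹ = d * s → η (d * s) = η (c * s)) :
    ∃ χ : Γ → ℂ, Irr E χ↾E ∧ av C η χ s ≠ 0 := by
  classical
  by_contra! H
  let a : E := ⟨c * s, mul_mem (l hc) h⟩
  let F : C → ℂ := fun d => classInd a ⟨d * s, mul_mem (l d.2) h⟩
  have e : ⟪fun d : C => η (d * s), F⟫ = 0 := by
    rw [show F = ∑ χ : IrrCharacter E, ⟪classInd a, χ.1⟫ • fun d : C => am χ.1 (d * s) from funext fun d => by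
      simpa [fun χ : E → ℂ => congrFun (am_res χ) ⟨d * s, mul_mem (l d.2) h⟩] using
        (isClassFunction_classInd a).apply_eq_sum ⟨d * s, mul_mem (l d.2) h⟩, inner_sum_right]
    exact Finset.sum_eq_zero fun χ _ => by
      rw [inner_smul_right, show ⟪_, _⟫ = av C η (am χ.1) s from rfl, H _ (irr_am χ), mul_zero]
  rw [classInner, Finset.sum_congr rfl (g := fun d : C => if IsConj a ⟨d * s, mul_mem (l d.2) h⟩ then η (c * s) else 0)
    fun d _ => by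
      simp only [F, classInd]
      split_ifs with u
      · obtain ⟨g, u1, u2⟩ := isConj_sub.1 u
        simp [k d d.2 g u1 u2]
      · simp, ← Finset.sum_filter, Finset.sum_const, nsmul_eq_mul] at e
  refine mul_ne_zero (inv_ne_zero (card_ne_zero _)) (mul_ne_zero (Nat.cast_ne_zero.2 (Finset.card_ne_zero.2
    ⟨⟨c, hc⟩, ?_⟩)) o) e
  simp only [Finset.mem_filter, Finset.mem_univ, true_and]
  exact IsConj.refl a

theorem exists_ne_of_av (h : av C α β s ≠ 0) : ∃ c ∈ C, α (c * s) ≠ 0 ∧ β (c * s) ≠ 0 := by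
  by_contra! H
  refine h ?_
  rw [av, classInner, Finset.sum_eq_zero fun c _ => ?_, mul_zero]
  rcases eq_or_ne (α (c * s)) 0 with u | u
  · simp [u]
  · simp [H c c.2 u]

/-- integer multiplicity -/
def mi (C : Subgroup Γ) (α β : Γ → ℂ) : ℤ := ⌊(⟪α↾C, β↾C⟫).re⌋

theorem mi_eq (a : Gen C α↾C) (b : Gen C β↾C) : ⟪α↾C, β↾C⟫ = mi C α β := by
  obtain ⟨n, e⟩ := a.inner_int b
  simp [mi, e]

theorem mi_congr {α' β' : Γ → ℂ} (a : α↾C = α'↾C) (b : β↾C = β'↾C) : mi C α β = mi C α' β' := by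
  rw [mi, mi, a, b]

theorem mi_cf {g : Γ} (h : g ∈ nrm C) : mi C (cf g α) (cf g β) = mi C α β := by rw [mi, mi, inner_cf h]

theorem mi_self (a : Irr C α↾C) : mi C α α = 1 := by simp [mi, a.inner_self]

theorem eq_of_mi (a : Irr C α↾C) (b : Irr C β↾C) (h : ¬ (p : ℤ) ∣ mi C α β) : α↾C = β↾C :=
  a.eq_of_inner_ne_zero b fun e => h (by simp [mi, e])

theorem av_cases (hp : p.Prime) {n : ℕ} (hs : s ^ p ^ n = 1) (l : C ≤ D) (m : D ≤ nrm C) (h : s ∈ D) (a : Ch D χ↾D)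
    (b : Ch D η↾D) (c : Irr C η↾C) (u : ∀ j : ℕ, j.Coprime (orderOf s) → av C χ χ (s ^ j) = 1) :
    av C χ η s = 0 ∧ (p : ℤ) ∣ mi C χ η ∨ ‖av C χ η s‖ = 1 ∧ (p : ℤ) ∣ mi C χ η ^ 2 - 1 := by
  have A := ch_av l m a b
  have d : av C χ η 1 = mi C χ η := av_one.trans (mi_eq (ch_mono a l).isGen c.isGen)
  have hs' : (⟨s, h⟩ : D) ^ p ^ n = 1 := Subtype.ext hs
  rcases eq_or_ne (av C χ η s) 0 with e | e
  · exact Or.inl ⟨e, by simpa using A.isGen.dvd_sub_deg hp hs' (a := 0) (by simpa using e) d⟩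
  have f : ‖av C χ η s‖ = 1 := norm_eq_one_of_conj_le_one (A.isIntegral ⟨s, h⟩) e fun σ => by
    obtain ⟨j, j1, j2⟩ := exists_pow_of_ringHom (σ : ℂ →+* ℂ) (orderOf_pos s).ne'
    have := A.gal_eq_pow (σ : ℂ →+* ℂ) (g := ⟨s, h⟩) (k := j) (by rwa [Subgroup.orderOf_mk])
    rw [show σ (av C χ η s) = av C χ η (s ^ j) from this]
    exact norm_inner_le_one (u j j1) (av_self l m b c (pow_mem h j))
  refine Or.inr ⟨f, dvd_sub_comm.1 ((A.mul A.conj).isGen.dvd_sub_deg hp hs' (a := 1) ?_ ?_)⟩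
  · simp [Complex.mul_conj', f]
  · simp [d, sq]

theorem not_dvd_of_sq (hp : p.Prime) {m : ℤ} (h : (p : ℤ) ∣ m ^ 2 - 1) : ¬ (p : ℤ) ∣ m := fun e =>
  (Nat.prime_iff_prime_int.1 hp).not_dvd_one (by simpa using dvd_sub (dvd_pow e two_ne_zero) h)

/-- the relative Glauberman correspondence `Irr_S(K) → Irr_S(C)`, given by multiplicity prime to `p` -/
structure RG (p : ℕ) (K S C : Subgroup Γ) : Prop where
  ex : ∀ α, Irr K α↾K → S ≤ iA K α → ∃ β, Irr C β↾C ∧ S ≤ iA C β ∧ ¬ (p : ℤ) ∣ mi C α β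
  un : ∀ α β β', Irr K α↾K → S ≤ iA K α → Irr C β↾C → S ≤ iA C β → Irr C β'↾C → S ≤ iA C β' →
    ¬ (p : ℤ) ∣ mi C α β → ¬ (p : ℤ) ∣ mi C α β' → β↾C = β'↾C
  inj : ∀ α α' β, Irr K α↾K → S ≤ iA K α → Irr K α'↾K → S ≤ iA K α' → Irr C β↾C → S ≤ iA C β →
    ¬ (p : ℤ) ∣ mi C α β → ¬ (p : ℤ) ∣ mi C α' β → α↾K = α'↾K
  surj : ∀ β, Irr C β↾C → S ≤ iA C β → ∃ α, Irr K α↾K ∧ S ≤ iA K α ∧ ¬ (p : ℤ) ∣ mi C α β
  pm : ∀ α β, Irr K α↾K → S ≤ iA K α → Irr C β↾C → S ≤ iA C β → ¬ (p : ℤ) ∣ mi C α β → (p : ℤ) ∣ mi C α β ^ 2 - 1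

theorem rg_cyc (hp : p.Prime) {n : ℕ} (hs : s ^ p ^ n = 1) (l : C ≤ K) (nK : s ∈ nrm K) (nC : s ∈ nrm C)
    (k : ∀ j : ℕ, j.Coprime (orderOf s) → ∀ g ∈ K, ∀ c ∈ C, ∀ d ∈ C, g * (c * s ^ j) * g⁻¹ = d * s ^ j → g ∈ C) :
    RG p K (Subgroup.zpowers s) C := by
  generalize eE : K ⊔ Subgroup.zpowers s = E
  generalize eD : C ⊔ Subgroup.zpowers s = D
  have lE : K ≤ E := eE ▸ le_sup_left
  have lD : C ≤ D := eD ▸ le_sup_left
  have zE : Subgroup.zpowers s ≤ E := eE ▸ le_sup_right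
  have zD : Subgroup.zpowers s ≤ D := eD ▸ le_sup_right
  have sE := zE (Subgroup.mem_zpowers s)
  have sD := zD (Subgroup.mem_zpowers s)
  have nE : E ≤ nrm K := eE ▸ sup_le (le_nrm_self K) (Subgroup.zpowers_le.2 nK)
  have nD : D ≤ nrm C := eD ▸ sup_le (le_nrm_self C) (Subgroup.zpowers_le.2 nC)
  have DE : D ≤ E := eD ▸ sup_le (l.trans lE) zE
  have k1 := k 1 (Nat.coprime_one_left _)
  rw [pow_one] at k1
  have u : ∀ χ : Γ → ℂ, Ch E χ↾E → Irr K χ↾K → ∀ j : ℕ, j.Coprime (orderOf s) → av C χ χ (s ^ j) = 1 := fun χ a b j c =>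
    (av_eq l lE (pow_mem sE j) (pow_mem nK j) (k j c) a.isClassFunction a.isClassFunction).trans
      (av_self lE nE a b (pow_mem sE j))
  have u1 : ∀ χ : Γ → ℂ, Ch E χ↾E → Irr K χ↾K → av C χ χ s = 1 := fun χ a b => by
    simpa using u χ a b 1 (Nat.coprime_one_left _)
  have cs : ∀ χ η : Γ → ℂ, Ch E χ↾E → Irr K χ↾K → Ch D η↾D → Irr C η↾C → av C χ η s = 0 ∧ (p : ℤ) ∣ mi C χ η ∨
      ‖av C χ η s‖ = 1 ∧ (p : ℤ) ∣ mi C χ η ^ 2 - 1 := fun χ η a b c d =>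
    av_cases hp hs lD nD sD (ch_mono a DE) c d (u χ a b)
  have xK : ∀ α : Γ → ℂ, Irr K α↾K → Subgroup.zpowers s ≤ iA K α → ∃ χ : Γ → ℂ, Ch E χ↾E ∧ Irr K χ↾K ∧ χ↾K = α↾K :=
    fun α a b => let ⟨χ, c, d⟩ := exists_ext_cyc eE.symm a (b (Subgroup.mem_zpowers s)); ⟨χ, c.isCharacter, d ▸ a, d⟩
  have xC : ∀ α : Γ → ℂ, Irr C α↾C → Subgroup.zpowers s ≤ iA C α → ∃ χ : Γ → ℂ, Ch D χ↾D ∧ Irr C χ↾C ∧ χ↾C = α↾C :=
    fun α a b => let ⟨χ, c, d⟩ := exists_ext_cyc eD.symm a (b (Subgroup.mem_zpowers s)); ⟨χ, c.isCharacter, d ▸ a, d⟩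
  have nm : ∀ χ η : Γ → ℂ, Ch E χ↾E → Irr K χ↾K → Ch D η↾D → Irr C η↾C → ¬ (p : ℤ) ∣ mi C χ η → ‖av C χ η s‖ = 1 :=
    fun χ η a b c d e => ((cs χ η a b c d).resolve_left fun f => e f.2).1
  refine ⟨fun α a b => ?_, fun α β β' a b c d c' d' e e' => ?_, fun α α' β a b a' b' c d e e' => ?_, fun β a b => ?_,
    fun α β a b c d e => ?_⟩
  · obtain ⟨χ, c, d, e⟩ := xK α a b
    obtain ⟨x, x1, x2, -⟩ := exists_ne_of_av (u1 χ c d ▸ one_ne_zero : av C χ χ s ≠ 0)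
    obtain ⟨η, f, g⟩ := exists_av_ne lD sD x1 x2 fun y _ g g1 g2 =>
      g2 ▸ cf_apply c.isClassFunction (DE g1) (mul_mem (lE (l x1)) sE)
    obtain ⟨y, y1, -, y2⟩ := exists_ne_of_av g
    have i := irr_of_ne_zero nC eD.symm f y1 y2
    exact ⟨η, i, zD.trans (le_iA f.isClassFunction lD nD), mi_congr (res_eq_mono e l) rfl ▸
      not_dvd_of_sq hp ((cs χ η c d f.isCharacter i).resolve_left fun o => g o.1).2⟩
  · obtain ⟨χ, f1, f2, f3⟩ := xK α a b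
    obtain ⟨η, g1, g2, g3⟩ := xC β c d
    obtain ⟨η', i1, i2, i3⟩ := xC β' c' d'
    rw [← mi_congr (res_eq_mono f3 l) g3] at e
    rw [← mi_congr (res_eq_mono f3 l) i3] at e'
    rw [← g3, ← i3]
    refine g2.eq_of_inner_ne_zero i2 (inner_ne_of_av lD nD g1 i1 sD (inner_ne_of_unit (av_self lD nD g1 g2 sD)
      (av_self lD nD i1 i2 sD) (u1 χ f1 f2) ?_ ?_))
    · rw [← inner_conj_symm, Complex.norm_conj]; exact nm χ η f1 f2 g1 g2 e
    · rw [← inner_conj_symm, Complex.norm_conj]; exact nm χ η' f1 f2 i1 i2 e'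
  · obtain ⟨χ, f1, f2, f3⟩ := xK α a b
    obtain ⟨χ', i1, i2, i3⟩ := xK α' a' b'
    obtain ⟨η, g1, g2, g3⟩ := xC β c d
    rw [← mi_congr (res_eq_mono f3 l) g3] at e
    rw [← mi_congr (res_eq_mono i3 l) g3] at e'
    rw [← f3, ← i3]
    refine f2.eq_of_inner_ne_zero i2 (inner_ne_of_av lE nE f1 i1 sE ?_)
    rw [← av_eq l lE sE nK k1 f1.isClassFunction i1.isClassFunction]
    exact inner_ne_of_unit (u1 χ f1 f2) (u1 χ' i1 i2) (av_self lD nD g1 g2 sD) (nm χ η f1 f2 g1 g2 e)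
      (nm χ' η i1 i2 g1 g2 e')
  · obtain ⟨η, c, d, e⟩ := xC β a b
    obtain ⟨x, x1, x2, -⟩ := exists_ne_of_av (av_self lD nD c d sD ▸ one_ne_zero : av C η η s ≠ 0)
    obtain ⟨χ, f, g⟩ := exists_av_ne (lD.trans DE) sE x1 x2 fun y y1 g g1 g2 => by
      obtain ⟨a, a1, z, z1, rfl⟩ := (mem_sup_nrm' (Subgroup.zpowers_le.2 nK)).1 (eE.ge g1)
      have z2 : z * s = s * z := by obtain ⟨j, rfl⟩ := z1; exact (Commute.refl s).zpow_left j
      have := k1 a a1 _ (nconj_mem (nD (zD z1)) x1) y y1 (by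
        rw [← g2, mul_assoc (z * x), show z⁻¹ * s = s * z⁻¹ from (Commute.inv_left z2).eq]; group)
      exact g2 ▸ cf_apply c.isClassFunction (mul_mem (lD this) (zD z1)) (mul_mem (lD x1) sD)
    obtain ⟨y, y1, -, y2⟩ := exists_ne_of_av g
    have i := irr_of_ne_zero nK eE.symm f (l y1) y2
    refine ⟨χ, i, zE.trans (le_iA f.isClassFunction lE nE), mi_congr rfl e ▸
      not_dvd_of_sq hp ((cs χ η f.isCharacter i c d).resolve_left fun o => g ?_).2⟩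
    exact inner_eq_zero_comm.1 o.1
  · obtain ⟨χ, f1, f2, f3⟩ := xK α a b
    obtain ⟨η, g1, g2, g3⟩ := xC β c d
    rw [← mi_congr (res_eq_mono f3 l) g3] at e ⊢
    exact ((cs χ η f1 f2 g1 g2).resolve_left fun o => e o.2).2

theorem fix_of_unique (hp : p.Prime) (hP : IsPGroup p P) (n : P ≤ nrm C) (z : Z ≤ P) (R : (C → ℂ) → Prop)
    (hR : ∀ g ∈ P, ∀ β : Γ → ℂ, R β↾C → R (cf g β)↾C) (b : Irr C β↾C) (i : Z ≤ iA C β) (r : R β↾C)
    (u : ∀ β' : Γ → ℂ, Irr C β'↾C → Z ≤ iA C β' → R β'↾C → β'↾C = β↾C) : P ≤ iA C β := by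
  classical
  haveI := Fact.mk hp
  have hf : ∀ {L : Subgroup Γ} (l : L ≤ P) (g : L) (ψ : IrrCharacter C), (letI := irrAct (l.trans n)
      ((if R (g • ψ).1 then 1 else 0 : ℤ) = if R ψ.1 then 1 else 0)) := fun l g ψ => by
    refine if_congr ?_ rfl rfl
    rw [irrAct_val]
    refine ⟨fun a => ?_, fun a => hR _ (inv_mem (l g.2)) _ (by rwa [am_res])⟩
    simpa [cf_cf, cf_one, am_res] using hR _ (l g.2) _ a
  by_contra H
  have e1 := (letI := irrAct n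
    dvd_sum_of_fixed hP (fun ψ : IrrCharacter C => if R ψ.1 then 1 else 0) (hf le_rfl) fun ψ f => by
      rw [irrAct_fix] at f
      split_ifs with a
      · exact (H (iA_congr (u _ (irr_am ψ) (z.trans f) (by rwa [am_res])) ▸ f)).elim
      · simp)
  have e2 := (letI := irrAct (z.trans n)
    dvd_sum_sub_fixed (hP.to_le z) (fun ψ : IrrCharacter C => if R ψ.1 then 1 else 0) (hf z))
  rw [Finset.sum_eq_single_of_mem (s := Finset.univ.filter _) (⟨_, b⟩ : IrrCharacter C) (Finset.mem_filter.2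
    ⟨Finset.mem_univ _, (irrAct_fix _ _).2 (iA_am.ge.trans' i)⟩) fun ψ f e => if_neg fun a => e (Subtype.ext
      ((am_res ψ.1).symm.trans (u _ (irr_am ψ) ((irrAct_fix _ _).1 (Finset.mem_filter.1 f).2) (by rwa [am_res])))),
    if_pos r] at e2
  exact (Nat.prime_iff_prime_int.1 hp).not_dvd_one (by simpa using dvd_sub e1 e2)

theorem mi_cong (hp : p.Prime) (hZ : IsPGroup p Z) (l : C ≤ D) (a : Gen D χ↾D) (a' : Z ≤ iA D χ) (b : Irr D ψ↾D)
    (b' : Z ≤ iA D ψ) (c : Gen C ξ↾C) (c' : Z ≤ iA C ξ)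
    (u : ∀ η : Γ → ℂ, Irr D η↾D → Z ≤ iA D η → ¬ (p : ℤ) ∣ mi D χ η → η↾D = ψ↾D) :
    (p : ℤ) ∣ mi C χ ξ - mi D χ ψ * mi C ψ ξ := by
  classical
  haveI := Fact.mk hp
  have n := a'.trans iA_le_nrm
  letI := irrAct n
  have e1 : mi C χ ξ = ∑ η : IrrCharacter D, mi D χ (am η.1) * mi C (am η.1) ξ := by
    have := (mi_eq (gen_mono a l) c).symm
    rw [show χ↾C = ∑ η : IrrCharacter D, (mi D χ (am η.1) : ℂ) • (am η.1)↾C from funext fun x => by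
      simpa [← fun η : IrrCharacter D => mi_eq a (irr_am η).isGen, am_res, am_le l] using
        a.isClassFunction.apply_eq_sum ⟨x, l x.2⟩, inner_sum_left] at this
    simp only [inner_smul_left, fun η : IrrCharacter D => mi_eq (gen_mono (irr_am η).isGen l) c] at this
    exact_mod_cast this
  let t : IrrCharacter D := ⟨_, b⟩
  have := dvd_sum_of_fixed hZ (fun η : IrrCharacter D => if η = t then 0 else mi D χ (am η.1) * mi C (am η.1) ξ)
    (fun g η => ?_) fun η f => ?_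
  · rw [← Finset.add_sum_erase _ _ (Finset.mem_univ t), if_pos rfl, zero_add,
      Finset.sum_congr rfl fun ψ a => if_neg (Finset.ne_of_mem_erase a)] at this
    rwa [e1, ← Finset.add_sum_erase _ _ (Finset.mem_univ t), mi_congr rfl (am_res ψ↾D),
      mi_congr (res_eq_mono (am_res ψ↾D) l) rfl, add_sub_cancel_left]
  · have f : g • t = t := (irrAct_eq n g t).2 (iA_am.ge (b' g.2))
    refine if_congr (by rw [← smul_left_cancel_iff g (x := η), f]) rfl ?_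
    have v := (am_res (g • η).1).trans (irrAct_val n g η)
    rw [mi_congr (a' (inv_mem g.2)).2.symm v, mi_cf (n (inv_mem g.2)),
      mi_congr (res_eq_mono v l) (c' (inv_mem g.2)).2.symm, mi_cf (c' (inv_mem g.2)).1]
  · split_ifs with e
    · simp
    · exact Dvd.dvd.mul_right (by_contra fun o => e (Subtype.ext ((am_res η.1).symm.trans
        (u _ (irr_am η) ((irrAct_fix _ _).1 f) o)))) _

theorem rg_refl (hp : p.Prime) : RG p K S K :=
  ⟨fun α a b => ⟨α, a, b, mi_self a ▸ (Nat.prime_iff_prime_int.1 hp).not_dvd_one⟩,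
    fun _ _ _ a _ c _ c' _ e e' => (eq_of_mi a c e).symm.trans (eq_of_mi a c' e'),
    fun _ _ _ a _ a' _ c _ e e' => (eq_of_mi a c e).trans (eq_of_mi a' c e').symm,
    fun α a b => ⟨α, a, b, mi_self a ▸ (Nat.prime_iff_prime_int.1 hp).not_dvd_one⟩,
    fun _ _ a _ c _ e => by rw [← mi_congr rfl (eq_of_mi a c e), mi_self a]; simp⟩

theorem RG.up (h : RG p K Z D) (hp : p.Prime) (hP : IsPGroup p P) (z : Z ≤ P) (l : D ≤ K) (nK : P ≤ nrm K)
    (nD : P ≤ nrm D) : RG p K P D := by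
  refine ⟨fun α a b => ?_, fun α β β' a b c d c' d' => h.un α β β' a (z.trans b) c (z.trans d) c' (z.trans d'),
    fun α α' β a b a' b' c d => h.inj α α' β a (z.trans b) a' (z.trans b') c (z.trans d), fun β a b => ?_,
    fun α β a b c d => h.pm α β a (z.trans b) c (z.trans d)⟩
  · obtain ⟨β, c, d, e⟩ := h.ex α a (z.trans b)
    refine ⟨β, c, fix_of_unique hp hP nD z (fun θ => ¬ (p : ℤ) ∣ mi D α (am θ)) (fun g g1 γ f => ?_) c d
      (by rwa [mi_congr rfl (am_res _)]) fun γ f g i => h.un α γ β a (z.trans b) f g c d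
        (by rwa [mi_congr rfl (am_res _)] at i) e, e⟩
    rw [mi_congr rfl (am_res _)] at f ⊢
    rwa [mi_congr (res_eq_mono (b g1).2 l).symm rfl, mi_cf (nD g1)]
  · obtain ⟨α, c, d, e⟩ := h.surj β a (z.trans b)
    refine ⟨α, c, fix_of_unique hp hP nK z (fun θ => ¬ (p : ℤ) ∣ mi D (am θ) β) (fun g g1 γ f => ?_) c d
      (by rwa [mi_congr (res_eq_mono (am_res _) l) rfl]) fun γ f g i => h.inj γ α β f g c d a (z.trans b)
        (by rwa [mi_congr (res_eq_mono (am_res _) l) rfl] at i) e, e⟩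
    rw [mi_congr (res_eq_mono (am_res _) l) rfl] at f ⊢
    rwa [mi_congr rfl (b g1).2.symm, mi_cf (nD g1)]

theorem RG.cong (h : RG p K P D) (hp : p.Prime) (hP : IsPGroup p P) (l : D ≤ K) (m : C ≤ D) (a : Irr K α↾K)
    (b : P ≤ iA K α) (c : Irr D β↾D) (d : P ≤ iA D β) (e : ¬ (p : ℤ) ∣ mi D α β) (f : Gen C ξ↾C) (g : P ≤ iA C ξ) :
    (p : ℤ) ∣ mi C α ξ - mi D α β * mi C β ξ :=
  mi_cong hp hP m (gen_mono a.isGen l) (fun x u => iA_mono (b u) l (d u).1) c d f g fun η u v w =>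
    h.un α η β a b u v c d w e

theorem RG.trans (h : RG p K P D) (k : RG p D P C) (hp : p.Prime) (hP : IsPGroup p P) (l : D ≤ K) (m : C ≤ D) :
    RG p K P C := by
  have q := Nat.prime_iff_prime_int.1 hp
  have t : ∀ α β ξ, Irr K α↾K → P ≤ iA K α → Irr D β↾D → P ≤ iA D β → ¬ (p : ℤ) ∣ mi D α β → Irr C ξ↾C →
      P ≤ iA C ξ → ((p : ℤ) ∣ mi C α ξ ↔ (p : ℤ) ∣ mi C β ξ) := fun α β ξ a b c d e f g => by
    rw [dvd_iff_dvd_of_dvd_sub (h.cong hp hP l m a b c d e f.isGen g), q.dvd_mul, or_iff_right e]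
  refine ⟨fun α a b => ?_, fun α ξ ξ' a b c d c' d' e e' => ?_, fun α α' ξ a b a' b' c d e e' => ?_, fun ξ a b => ?_,
    fun α ξ a b c d e => ?_⟩
  · obtain ⟨β, c, d, e⟩ := h.ex α a b
    obtain ⟨ξ, f, g, i⟩ := k.ex β c d
    exact ⟨ξ, f, g, mt (t α β ξ a b c d e f g).1 i⟩
  · obtain ⟨β, f, g, i⟩ := h.ex α a b
    exact k.un β ξ ξ' f g c d c' d' (mt (t α β ξ a b f g i c d).2 e) (mt (t α β ξ' a b f g i c' d').2 e')
  · obtain ⟨β, f, g, i⟩ := h.ex α a b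
    obtain ⟨β', f', g', i'⟩ := h.ex α' a' b'
    refine h.inj α α' β a b a' b' f g i ?_
    rwa [mi_congr rfl (k.inj β β' ξ f g f' g' c d (mt (t α β ξ a b f g i c d).2 e)
      (mt (t α' β' ξ a' b' f' g' i' c d).2 e'))]
  · obtain ⟨β, c, d, e⟩ := k.surj ξ a b
    obtain ⟨α, f, g, i⟩ := h.surj β c d
    exact ⟨α, f, g, mt (t α β ξ f g c d i a b).1 e⟩
  · obtain ⟨β, f, g, i⟩ := h.ex α a b
    obtain ⟨x, u⟩ := h.cong hp hP l m a b f g i c.isGen d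
    obtain ⟨y, v⟩ := h.pm α β a b f g i
    obtain ⟨z, w⟩ := k.pm β ξ f g c d (mt (t α β ξ a b f g i c d).2 e)
    exact ⟨x * (mi C α ξ + mi D α β * mi C β ξ) + y * mi C β ξ ^ 2 + z, by
      linear_combination (mi C α ξ + mi D α β * mi C β ξ) * u + mi C β ξ ^ 2 * v + w⟩

theorem RG.deg (h : RG p K P D) (hp : p.Prime) (hP : IsPGroup p P) (l : D ≤ K) (a : Irr K α↾K)
    (b : P ≤ iA K α) (c : Irr D β↾D) (d : P ≤ iA D β) (e : ¬ (p : ℤ) ∣ mi D α β) :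
    (p : ℤ) ∣ dg α - mi D α β * dg β := by
  have t : ∀ {X : Subgroup Γ} {γ : Γ → ℂ}, Irr X γ↾X → mi ⊥ γ (fun _ => 1) = dg γ := fun {X γ} u => by
    have : γ 1 = dg γ := u.deg
    rw [mi, inner_congr_fintype _ Subgroup.fintypeBot, inner_one_right, Fintype.sum_unique]
    simp [show ((default : (⊥ : Subgroup Γ)) : Γ) = 1 from (default : (⊥ : Subgroup Γ)).2, this]
  have := h.cong hp hP l bot_le a b c d e (ξ := fun _ => 1) isGen_one fun x _ => mem_iA'.2 ⟨by simp [nrm_bot], fun _ _ => rfl⟩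
  rwa [t a, t c] at this

theorem rg_cyc' (hp : p.Prime) {n : ℕ} (hs : s ^ p ^ n = 1) (nK : s ∈ nrm K) (nN : s ∈ nrm N) (m : K ≤ nrm N)
    (c : (N.relIndex K).Coprime p) : RG p K (Subgroup.zpowers s) (K ⊓ cmod N (Subgroup.zpowers s)) := by
  have o := Subgroup.zpowers_le.2 nN
  have mem : ∀ {x}, x ∈ K → (x ∈ K ⊓ cmod N (Subgroup.zpowers s) ↔ ev (qm N) x ∈ cen1 (ev (qm N) s)) := fun {x} u => by
    rw [Subgroup.mem_inf, and_iff_right u, ← Subgroup.zpowers_le, le_cmod, and_iff_right (Subgroup.zpowers_le.2 (m u)),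
      ← cen_zpowers, ← Subgroup.zpowers_le, ← im_zpowers (m u), ← im_zpowers nN,
      im_le_cen_iff (Subgroup.zpowers_le.2 (m u)) o, kr_qm]
  refine rg_cyc hp hs inf_le_left nK (nrm_inf (Subgroup.zpowers_le.2 nK) (nrm_cmod o (le_nrm_self _))
    (Subgroup.mem_zpowers s)) fun j e g a x b y d f => (mem a).2 ?_
  have z : cen1 (ev (qm N) s ^ j) = cen1 (ev (qm N) s) := by
    rw [← cen_zpowers, ← cen_zpowers, ← ev_pow nN, ← im_zpowers nN, ← im_zpowers (pow_mem nN j),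
      le_antisymm (Subgroup.zpowers_le.2 (pow_mem (Subgroup.mem_zpowers s) j))
        (Subgroup.zpowers_le.2 (mem_zpowers_pow_iff.2 e))]
  rw [← z]
  refine mem_cen1_of_conj (G := im (qm N) K) ?_ (c := ev (qm N) x) (d := ev (qm N) y) ⟨ev_mem_im b.1, z.ge ((mem b.1).1 b)⟩
    ⟨ev_mem_im d.1, z.ge ((mem d.1).1 d)⟩ ?_
  · rw [card_qm m]
    exact (c.pow_right n).coprime_dvd_right (orderOf_dvd_of_pow_eq_one (by
      rw [← pow_mul, mul_comm, pow_mul, ← ev_pow nN, hs, ev_one, one_pow]))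
  · rw [← ev_pow nN, ← ev_mul (m b.1) (pow_mem nN j), ← ev_mul (m d.1) (pow_mem nN j),
      ← ev_conj (m a) (mul_mem (m b.1) (pow_mem nN j)), f]

omit [Finite Γ] in
theorem cmod_anti (h : S ≤ P) : cmod N P ≤ cmod N S := fun _ a =>
  mem_cmod.2 ⟨(mem_cmod.1 a).1, fun c b => (mem_cmod.1 a).2 c (h b)⟩

omit [Finite Γ] in
theorem comm_le_of_cmod (h : X ≤ cmod N S) : ⁅S, X⁆ ≤ N := (Subgroup.commutator_comm S X).le.trans (le_cmod.1 h).2

/-- The relative Glauberman correspondence. -/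
theorem rg (hp : p.Prime) (hP : IsPGroup p P) (nK : P ≤ nrm K) (nN : P ≤ nrm N) (l : N ≤ K) (m : K ≤ nrm N)
    (c : (N.relIndex K).Coprime p) : RG p K P (K ⊓ cmod N P) := by
  haveI := Fact.mk hp
  induction K using WellFoundedLT.induction with
  | ind K ih =>
  rcases (inf_le_left : P ⊓ cmod N K ≤ P).eq_or_lt with e | e
  · rw [inf_eq_left.2 (le_cmod.2 ⟨m, comm_le_of_cmod (inf_eq_left.1 e)⟩)]
    exact rg_refl hp
  have n1 : P ≤ nrm (P ⊓ cmod N K) := nrm_inf (le_nrm_self P) (nrm_cmod nN nK)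
  obtain ⟨s, s1, s2, s3, -⟩ := H1.exists_central_mod_of_isPGroup hP e le_rfl n1 (le_nrm_self P)
  obtain ⟨n, hn⟩ := isPGroup_iff_mem.1 hP s s1
  have z := Subgroup.zpowers_le.2 s1
  have nD : P ≤ nrm (K ⊓ cmod N (Subgroup.zpowers s)) := by
    have : K ⊓ cmod N (Subgroup.zpowers s) = K ⊓ cmod N (P ⊓ cmod N K ⊔ Subgroup.zpowers s) :=
      le_antisymm (le_inf inf_le_left (le_cmod.2 ⟨inf_le_left.trans m, comm_sup_le' (inf_le_left.trans nN) (z.trans nN)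
        ((Subgroup.commutator_mono inf_le_left le_rfl).trans (comm_le_of_cmod inf_le_right))
        (le_cmod.1 inf_le_right).2⟩)) (inf_le_inf_left _ (cmod_anti le_sup_right))
    rw [this]
    exact nrm_inf nK (nrm_cmod nN (le_nrm_of_comm_le (comm_sup_le (le_sup_left.trans (le_nrm_self _))
      (le_sup_right.trans (le_nrm_self _)) ((comm_le_left n1).trans le_sup_left) (s3.trans le_sup_left))))
  have lD : N ≤ K ⊓ cmod N (Subgroup.zpowers s) := le_inf l (le_cmod.2 ⟨le_nrm_self N, comm_le_left (z.trans nN)⟩)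
  have k := ih (K ⊓ cmod N (Subgroup.zpowers s)) (inf_le_left.lt_of_ne fun o => s2 ⟨s1, mem_cmod.2 ⟨nN s1, fun x u =>
    comm_le_of_cmod (o.ge.trans inf_le_right) (Subgroup.commutator_mem_commutator (Subgroup.mem_zpowers s) u)⟩⟩) nD lD
    (inf_le_left.trans m) (c.coprime_dvd_left (Dvd.intro _ (Subgroup.relIndex_mul_relIndex _ _ _ lD inf_le_left)))
  rw [inf_assoc, inf_eq_right.2 (cmod_anti z)] at k
  exact ((rg_cyc' hp hn (nK s1) (nN s1) m c).up hp hP z inf_le_left nK nD).trans k hp hP inf_le_left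
    (inf_le_inf_left _ (cmod_anti z))

theorem zmod_pm [Fact p.Prime] {m : ℤ} (h : (p : ℤ) ∣ m ^ 2 - 1) : (m : ZMod p) = 1 ∨ (m : ZMod p) = -1 := by
  rw [← ZMod.intCast_zmod_eq_zero_iff_dvd] at h
  push_cast at h
  exact mul_self_eq_one_iff.1 (by rw [← sq]; exact sub_eq_zero.1 h)

end
end H3
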