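import Cfsg.Agent.H7.Cop
import Cfsg.Agent.H1.Two5

/-! # Wreath-type subgroups and elementary abelian quotients `P/P'` of Sylow subgroups -/

open Cfsg H7
open scoped commutatorElement
set_option maxSynthPendingDepth 3

namespace H3
open Subgroup Equiv
open H2 (cj)
open scoped H2

noncomputable section
variable {G G' : Type*} [Group G] [Group G'] {A K M N P R T W : Subgroup G} {p : ℕ} {x y : G}

/-- `P/P'` has exponent dividing `p` -/
def EP (p : ℕ) (P : Subgroup G) : Prop := ∀ x ∈ P, x ^ p ∈ ⁅P, P⁆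

/-- the preimage of `Ω₁(P/P')` -/
def Mp (p : ℕ) (P : Subgroup G) : Subgroup G :=
  ((powMonoidHom p).comp (Abelianization.of (G := P))).ker.map P.subtype

theorem mem_comm_sub {x : P} : x ∈ commutator P ↔ (x : G) ∈ ⁅P, P⁆ := by
  rw [← map_subtype_commutator]; exact (mem_map_iff_mem P.subtype_injective).symm

theorem mem_Mp : x ∈ Mp p P ↔ x ∈ P ∧ x ^ p ∈ ⁅P, P⁆ := by
  have : ∀ y : P, y ∈ ((powMonoidHom p).comp (Abelianization.of (G := P))).ker ↔ (y : G) ^ p ∈ ⁅P, P⁆ := fun y => by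
    rw [MonoidHom.mem_ker, MonoidHom.comp_apply, powMonoidHom_apply, ← map_pow, ← MonoidHom.mem_ker,
      Abelianization.ker_of, mem_comm_sub]; rfl
  exact ⟨fun ⟨y, a, b⟩ => b ▸ ⟨y.2, (this y).1 a⟩, fun ⟨a, b⟩ => ⟨⟨x, a⟩, (this _).2 b, rfl⟩⟩

theorem Mp_le : Mp p P ≤ P := fun _ h => (mem_Mp.1 h).1
theorem ep_of_le (h : P ≤ Mp p P) : EP p P := fun _ m => (mem_Mp.1 (h m)).2
theorem EP.le_Mp (h : EP p A) (l : A ≤ P) : A ≤ Mp p P := fun x m => mem_Mp.2 ⟨l m, commutator_mono l l (h x m)⟩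
theorem mem_Mp_of_pow (m : x ∈ P) (h : x ^ p = 1) : x ∈ Mp p P := mem_Mp.2 ⟨m, h ▸ one_mem _⟩

theorem nrm_Mp (h : A ≤ nrm P) : A ≤ nrm (Mp p P) := le_nrm_iff_conj.2 fun a ha x m => mem_Mp.2
  ⟨conj_mem h ha (Mp_le m), by rw [conj_pow]; exact conj_mem (nrm_commutator h h) ha (mem_Mp.1 m).2⟩

theorem EP.map (h : EP p P) (f : G →* G') : EP p (P.map f) := by
  rintro _ ⟨x, m, rfl⟩
  rw [← map_pow, ← map_commutator]; exact mem_map_of_mem f (h x m)

theorem EP.of_map {f : G →* G'} (i : Function.Injective f) (h : EP p (P.map f)) : EP p P := fun x m => by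
  have := h _ (mem_map_of_mem f m)
  rwa [← map_pow, ← map_commutator, mem_map_iff_mem i] at this

theorem ep_inf [N.Normal] (l : R ≤ W) (i : R ⊓ N = ⊥) (h : W ≤ Mp p (W ⊓ N) ⊔ R) : EP p (W ⊓ N) := ep_of_le fun x m => by
  obtain ⟨a, a1, r, r1, rfl⟩ := (mem_sup_nrm' (l.trans (nrm_Mp (nrm_inf (le_nrm_self W) (le_nrm_of_normal W N))))).1 (h m.1)
  rw [mem_bot.1 (i.le ⟨r1, (N.mul_mem_cancel_left (Mp_le a1).2).1 m.2⟩), mul_one]
  exact a1

theorem mul_mem_Mp {B : Type*} [Group B] {φ : G →* B} (hx : x ∈ W) (hy : y ∈ W) (x2 : x * x = 1) (y2 : y * y = 1)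
    (c : Commute x y) (e : φ x = φ y) : x * y ∈ Mp 2 (W ⊓ φ.ker) :=
  mem_Mp_of_pow ⟨mul_mem hx hy, show φ _ = 1 by rw [map_mul, e, ← map_mul, y2, map_one]⟩
    (by rw [c.mul_pow, pow_two, pow_two, x2, y2, mul_one])

theorem sylow_of_val [Finite G] [hp : Fact p.Prime] (h : IsPGroup p W)
    (v : padicValNat p (Nat.card G) ≤ padicValNat p (ord W)) : ∃ S : Sylow p G, S.1 = W := by
  refine ⟨h.toSylow fun z => ?_, rfl⟩
  rw [← W.card_mul_index, padicValNat.mul (card_pos' W).ne' index_ne_zero_of_finite] at v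
  have := one_le_padicValNat_of_dvd index_ne_zero_of_finite z
  omega

theorem EP.sylow' [Finite G] [hp : Fact p.Prime] [N.Normal] (S : Sylow p G) (e : EP p (S.1 ⊓ N))
    {j : G' →* G} (i : Function.Injective j) (r : j.range = N) (P : Sylow p G') : EP p P.1 := by
  obtain ⟨Q, hQ⟩ := P.exists_comap_eq_of_injective i
  obtain ⟨g, rfl⟩ := MulAction.exists_smul_eq G S Q
  refine EP.of_map i ?_
  rw [← hQ, map_comap_eq, r, inf_comm, Sylow.coe_subgroup_smul, ← cj_eq_smul, ← cj_normal g N, ← cj_inf]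
  exact e.map _

theorem EP.sylow [Finite G] [hp : Fact p.Prime] [N.Normal] (h : IsPGroup p W)
    (v : padicValNat p (Nat.card G) ≤ padicValNat p (ord W)) (e : EP p (W ⊓ N))
    {j : G' →* G} (i : Function.Injective j) (r : j.range = N) (P : Sylow p G') (x : P.1) : x ^ p ∈ commutator P.1 := by
  obtain ⟨S, rfl⟩ := sylow_of_val h v
  exact mem_comm_sub.2 (e.sylow' S i r P x x.2)

/-- generated by elements of order dividing `p` -/
def GP (p : ℕ) (T : Subgroup G) : Prop := T ≤ closure {x | x ∈ T ∧ x ^ p = 1}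

theorem GP.le (h : GP p T) (k : ∀ t ∈ T, t ^ p = 1 → t ∈ K) : T ≤ K :=
  h.trans ((closure_le _).2 fun t m => k t m.1 m.2)

theorem GP.ep (h : GP p T) : EP p T := ep_of_le (h.le fun _ => mem_Mp_of_pow)

/-- wreath-product data -/
structure Wr (I D Z G : Type*) [Group D] [Group Z] [Group G] where
  /-- base group -/
  Δ : (I → D) × Z →* G
  /-- top group -/
  π : Perm I →* G
  inj : Function.Injective Δ
  cnj : ∀ σ d z, π σ * Δ (d, z) = Δ (fun i => d (σ⁻¹ i), z) * π σ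
  ind : ∀ σ x, π σ = Δ x → σ = 1

namespace Wr
variable {I D Z D' Z' : Type*} [Group D] [Group Z] [Group D'] [Group Z'] (w : Wr I D Z G) {T : Subgroup (Perm I)}
  {i j : I} {d e : D} {z : Z}

/-- push forward -/
def map (f : G →* G') (h : Function.Injective f) : Wr I D Z G' where
  Δ := f.comp w.Δ
  π := f.comp w.π
  inj := h.comp w.inj
  cnj σ d z := by simp only [MonoidHom.comp_apply, ← map_mul, w.cnj]
  ind σ x e := w.ind σ x (h e)

/-- pull back -/
def comp (f : D' →* D) (g : Z' →* Z) (h : Function.Injective f) (k : Function.Injective g) : Wr I D' Z' G where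
  Δ := w.Δ.comp ((f.compLeft I).prodMap g)
  π := w.π
  inj := w.inj.comp ((h.comp_left).prodMap k)
  cnj σ d z := w.cnj σ _ _
  ind σ _ e := w.ind σ _ e

/-- restrict the codomain -/
def cod (S : Subgroup G) (h : ∀ x, w.Δ x ∈ S) (k : ∀ σ, w.π σ ∈ S) : Wr I D Z S where
  Δ := w.Δ.codRestrict S h
  π := w.π.codRestrict S k
  inj _ _ e := w.inj (congrArg Subtype.val e)
  cnj σ d z := Subtype.ext (w.cnj σ d z)
  ind σ x e := w.ind σ x (congrArg Subtype.val e)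

/-- the wreath subgroup -/
def WG (T : Subgroup (Perm I)) : Subgroup G := w.Δ.range ⊔ T.map w.π
/-- the extra factor -/
def ζ : Z →* G := w.Δ.comp (.inr _ _)

theorem π_inj : Function.Injective w.π := (injective_iff_map_eq_one _).2 fun σ h => w.ind σ 1 (h.trans (map_one _).symm)

theorem nrm_Δ : T.map w.π ≤ nrm w.Δ.range := le_nrm_iff_conj.2 <| by
  rintro _ ⟨σ, -, rfl⟩ _ ⟨⟨d, z⟩, rfl⟩
  exact ⟨_, eq_mul_inv_of_mul_eq (w.cnj σ d z).symm⟩

theorem card_W [Finite G] [Finite I] : ord (w.WG T) = Nat.card D ^ Nat.card I * Nat.card Z * ord T := by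
  rw [WG, sup_comm, card_sup_of_inf_eq_bot w.nrm_Δ, card_map_of_injective w.π_inj, mul_comm,
    ← Nat.card_congr (w.Δ.ofInjective w.inj).toEquiv, Nat.card_prod, Nat.card_fun]
  refine eq_bot_iff.2 ?_
  rintro _ ⟨⟨σ, -, rfl⟩, x, e⟩
  rw [w.ind σ x e.symm, map_one]; exact one_mem _

theorem val_W [Finite G] [Finite I] [Fact p.Prime] {a b c : ℕ} (h : Nat.card D = p ^ a) (k : Nat.card Z = p ^ b)
    (t : ord T = p ^ c) : IsPGroup p (w.WG T) ∧ padicValNat p (ord (w.WG T)) = Nat.card I * a + b + c := by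
  have : ord (w.WG T) = p ^ (Nat.card I * a + b + c) := by rw [card_W, h, k, t]; ring
  exact ⟨.of_card this, by rw [this, padicValNat.prime_pow]⟩

theorem ζ_mem : w.ζ z ∈ w.WG T := mem_sup_left ⟨_, rfl⟩
theorem π_mem {t : Perm I} (h : t ∈ T) : w.π t ∈ w.WG T := mem_sup_right (mem_map_of_mem _ h)

variable [DecidableEq I]
/-- the `i`-th factor of the base group -/
def δ (i : I) : D →* G := w.Δ.comp ((MonoidHom.inl _ _).comp (MonoidHom.mulSingle (fun _ => D) i))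

theorem δ_apply : w.δ i d = w.Δ (Pi.mulSingle i d, 1) := rfl
theorem δ_mem : w.δ i d ∈ w.WG T := mem_sup_left ⟨_, rfl⟩
theorem δ_inj : Function.Injective (w.δ i) :=
  w.inj.comp (Prod.mk_left_injective 1 |>.comp (Pi.mulSingle_injective (M := fun _ => D) i))

theorem δ_comm (h : i ≠ j) : Commute (w.δ i d) (w.δ j e) :=
  ((Pi.mulSingle_commute (f := fun _ => D) h d e).map (MonoidHom.inl _ Z)).map w.Δ

theorem ζ_comm : Commute (w.ζ z) (w.δ i d) := (MonoidHom.commute_inl_inr _ z).symm.map w.Δ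

theorem π_δ (σ : Perm I) : w.π σ * w.δ i d * (w.π σ)⁻¹ = w.δ (σ i) d := by
  rw [δ_apply, w.cnj, mul_inv_cancel_right, δ_apply]
  congr 2; ext k
  simp only [Pi.mulSingle_apply, Perm.inv_eq_iff_eq]

theorem φ_δ {B : Type*} [CommGroup B] (φ : G →* B) (i j : I) : φ (w.δ i d) = φ (w.δ j d) := by
  rw [← swap_apply_left i j, ← π_δ, map_mul, map_mul, map_inv, mul_inv_cancel_comm]

theorem W_le [Finite I] (a : ∀ i d, w.δ i d ∈ K) (b : ∀ z, w.ζ z ∈ K) (c : ∀ t ∈ T, w.π t ∈ K) : w.WG T ≤ K := by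
  refine sup_le ?_ (map_le_iff_le_comap.2 c)
  rintro _ ⟨⟨d, z⟩, rfl⟩
  rw [← Prod.fst_mul_snd (d, z), map_mul]
  exact mul_mem (pi_mem_of_mulSingle_mem (H := K.comap (w.Δ.comp (.inl _ _))) d fun i => a i _) (b z)

theorem π_le (h : GP p T) (c : ∀ t ∈ T, t ^ p = 1 → w.π t ∈ K) : ∀ t ∈ T, w.π t ∈ K := h.le (K := K.comap w.π) c

theorem gp [Finite I] (h : GP p T) (a : ∀ d : D, d ^ p = 1) (b : ∀ z : Z, z ^ p = 1) : GP p (w.WG T) :=
  w.W_le (fun _ d => subset_closure ⟨w.δ_mem, by rw [← map_pow, a, map_one]⟩)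
    (fun z => subset_closure ⟨w.ζ_mem, by rw [← map_pow, b, map_one]⟩)
    (w.π_le h fun _ m e => subset_closure ⟨w.π_mem m, by rw [← map_pow, e, map_one]⟩)

theorem ep [Finite I] (h : GP p T) (a : EP p (⊤ : Subgroup D)) (b : EP p (⊤ : Subgroup Z)) : EP p (w.WG T) :=
  ep_of_le (w.W_le (fun i d => (a.map (w.δ i)).le_Mp (map_le_iff_le_comap.2 fun _ _ => w.δ_mem) ⟨d, mem_top _, rfl⟩)
    (fun z => (b.map w.ζ).le_Mp (map_le_iff_le_comap.2 fun _ _ => w.ζ_mem) ⟨z, mem_top _, rfl⟩)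
    (w.π_le h fun _ m e => mem_Mp_of_pow (w.π_mem m) (by rw [← map_pow, e, map_one])))

variable {B : Type*} [CommGroup B] {φ : G →* B}

theorem π_Mp (h : GP p T) (c : ∀ t ∈ T, t ^ p = 1 → φ (w.π t) = 1) :
    ∀ t ∈ T, w.π t ∈ Mp p (w.WG T ⊓ φ.ker) ⊔ R :=
  w.π_le h fun t m e => mem_sup_left (mem_Mp_of_pow ⟨w.π_mem m, c t m e⟩ (by rw [← map_pow, e, map_one]))

/-- one extra involution -/
theorem ep_one [Finite I] (h : GP 2 T) (c : ∀ t ∈ T, t ^ 2 = 1 → φ (w.π t) = 1) (i : I) {r : D} (r2 : r * r = 1)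
    (r1 : φ (w.δ i r) ≠ 1) {D₁ : Subgroup D} (a : EP 2 D₁) (a1 : ∀ d ∈ D₁, φ (w.δ i d) = 1)
    (a2 : D₁ ⊔ zpowers r = ⊤) (b : ∀ z : Z, z * z = 1 ∧ (z = 1 ∨ φ (w.ζ z) = φ (w.δ i r))) :
    EP 2 (w.WG T ⊓ φ.ker) := by
  have s : ∀ j, w.δ j r * w.δ j r = 1 := fun j => by rw [← map_mul, r2, map_one]
  have k : ∀ {x}, x * w.δ i r ∈ Mp 2 (w.WG T ⊓ φ.ker) → x ∈ Mp 2 (w.WG T ⊓ φ.ker) ⊔ zpowers (w.δ i r) := fun m =>
    (mul_mem_cancel_right (mem_sup_right (mem_zpowers _))).1 (mem_sup_left m)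
  refine ep_inf (R := zpowers (w.δ i r)) (zpowers_le.2 w.δ_mem) (eq_bot_iff.2 fun x m => ?_)
    (w.W_le (fun j d => ?_) (fun z => ?_) (w.π_Mp h c))
  · rcases (H1B.mem_zp_two (orderOf_eq_prime (by rw [pow_two, s]) fun e => r1 (by rw [e, map_one]))).1 m.1 with e | e
    exacts [e, (r1 (e ▸ m.2)).elim]
  · refine mem_comap.1 (a2.ge.trans (sup_le (fun d m => mem_comap.2 (mem_sup_left ((a.map (w.δ j)).le_Mp
      (map_le_iff_le_comap.2 fun d m => mem_comap.2 (mem_inf.2 ⟨w.δ_mem, (w.φ_δ φ j i).trans (a1 d m)⟩)) ⟨d, m, rfl⟩)))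
      (zpowers_le.2 (mem_comap.2 (k ?_)))) (mem_top d))
    by_cases e : j = i
    · rw [e, s]; exact one_mem _
    · exact mul_mem_Mp w.δ_mem w.δ_mem (s _) (s _) (w.δ_comm e) (w.φ_δ φ j i)
  · rcases (b z).2 with e | e
    · rw [e, map_one]; exact one_mem _
    · exact k (mul_mem_Mp w.ζ_mem w.δ_mem (by rw [← map_mul, (b z).1, map_one]) (s _) w.ζ_comm e)

/-- two extra involutions -/
theorem ep_two [Finite I] (h : GP 2 T) (c : ∀ t ∈ T, t ^ 2 = 1 → φ (w.π t) = 1) {i j : I} (n : i ≠ j) {r s : D}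
    (r2 : r * r = 1) (s2 : s * s = 1) (r1 : φ (w.δ i r) ≠ 1) (s1 : φ (w.δ i s) ≠ 1) (rs : φ (w.δ i r) ≠ φ (w.δ i s))
    (a : ⊤ ≤ closure {d | d * d = 1 ∧ (φ (w.δ i d) = φ (w.δ i r) ∨ φ (w.δ i d) = φ (w.δ i s))})
    (b : ∀ z : Z, z * z = 1 ∧ (z = 1 ∨ φ (w.ζ z) = φ (w.δ i r) ∨ φ (w.ζ z) = φ (w.δ i s) ∨
      φ (w.ζ z) = φ (w.δ i r) * φ (w.δ i s))) : EP 2 (w.WG T ⊓ φ.ker) := by
  have q : ∀ {d}, d * d = 1 → ∀ j, w.δ j d * w.δ j d = 1 := fun e j => by rw [← map_mul, e, map_one]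
  have js := w.φ_δ (d := s) φ j i
  have k : ∀ {x y}, y ∈ zpowers (w.δ i r) ⊔ zpowers (w.δ j s) → x * y ∈ Mp 2 (w.WG T ⊓ φ.ker) →
      x ∈ Mp 2 (w.WG T ⊓ φ.ker) ⊔ (zpowers (w.δ i r) ⊔ zpowers (w.δ j s)) := fun a m =>
    (mul_mem_cancel_right (mem_sup_right a)).1 (mem_sup_left m)
  have mr : w.δ i r ∈ zpowers (w.δ i r) ⊔ zpowers (w.δ j s) := mem_sup_left (mem_zpowers _)
  have ms : w.δ j s ∈ zpowers (w.δ i r) ⊔ zpowers (w.δ j s) := mem_sup_right (mem_zpowers _)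
  have f : ∀ {d e} (u v), d * d = 1 → e * e = 1 → φ (w.δ u d) = φ (w.δ v e) →
      w.δ u d * w.δ v e ∈ Mp 2 (w.WG T ⊓ φ.ker) := fun {d e} u v d2 e2 z => by
    by_cases m : u = v
    · subst m
      obtain ⟨t, m⟩ : ∃ t, t ≠ u := by
        by_cases m : i = u
        exacts [⟨j, m ▸ n.symm⟩, ⟨i, m⟩]
      have := mul_mem (mul_mem_Mp (W := w.WG T) w.δ_mem w.δ_mem (q d2 u) (q d2 t) (w.δ_comm m.symm) (w.φ_δ φ u t))
        (mul_mem_Mp w.δ_mem w.δ_mem (q d2 t) (q e2 u) (w.δ_comm m) ((w.φ_δ φ t u).trans z))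
      rwa [mul_assoc, ← mul_assoc (w.δ t d), q d2, one_mul] at this
    · exact mul_mem_Mp w.δ_mem w.δ_mem (q d2 _) (q e2 _) (w.δ_comm m) z
  have cm := w.δ_comm (d := r) (e := s) n
  refine ep_inf (R := zpowers (w.δ i r) ⊔ zpowers (w.δ j s))
    (sup_le (zpowers_le.2 w.δ_mem) (zpowers_le.2 w.δ_mem)) (eq_bot_iff.2 fun x m => ?_)
    (w.W_le (fun u d => ?_) (fun z => ?_) (w.π_Mp h c))
  · have o := @H1B.mem_zp_two _ _ (z := w.δ i r) (hz := orderOf_eq_prime (by rw [pow_two, q r2]) fun e => r1 (by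
      rw [e, map_one]))
    have m2 : φ x = 1 := m.2
    rcases (H1B.mem_sup_zp (cen_le_nrm _ (by rw [cen_zpowers]; exact mem_cen1.2 cm.symm.eq))
      (by rw [q s2]; exact one_mem _)).1 m.1 with e | e <;> rcases (o _).1 e with e | e
    · exact e
    · exact (r1 (e ▸ m2)).elim
    · exact (s1 (by rw [← js, ← mul_inv_eq_one.1 e, m2])).elim
    · refine (rs ?_).elim
      rw [← e, map_mul, m2, one_mul, map_inv, js, inv_eq_iff_mul_eq_one, ← map_mul, q s2, map_one]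
  · refine mem_comap.1 (a.trans ((closure_le _).2 fun d m => mem_comap.2 ?_) (mem_top d))
    rcases m.2 with e | e
    exacts [k mr (f u i m.1 r2 ((w.φ_δ φ u i).trans e)), k ms (f u j m.1 s2 ((w.φ_δ φ u i).trans (e.trans js.symm)))]
  · have z2 : w.ζ z * w.ζ z = 1 := by rw [← map_mul, (b z).1, map_one]
    rcases (b z).2 with e | e | e | e
    · rw [e, map_one]; exact one_mem _
    · exact k mr (mul_mem_Mp w.ζ_mem w.δ_mem z2 (q r2 _) w.ζ_comm e)
    · exact k ms (mul_mem_Mp w.ζ_mem w.δ_mem z2 (q s2 _) w.ζ_comm (e.trans js.symm))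
    · exact k (mul_mem mr ms) (mul_mem_Mp w.ζ_mem (mul_mem w.δ_mem w.δ_mem) z2
        (by rw [cm.symm.mul_mul_mul_comm, q r2, q s2, one_mul]) (w.ζ_comm.mul_right w.ζ_comm) (by rw [e, map_mul, js]))

end Wr

/-- imprimitive permutation groups -/
def wrP (I U J : Type*) [Nonempty U] : Wr I (Perm U) (Perm J) (Perm (I × U ⊕ J)) where
  Δ := MonoidHom.mk' (fun x => sumCongr (prodCongrRight x.1) x.2) fun _ _ => by ext (_ | _) <;> rfl
  π := MonoidHom.mk' (fun σ => sumCongr (prodCongr σ (.refl U)) (.refl J)) fun _ _ => by ext (_ | _) <;> rfl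
  inj x y e := Prod.ext (funext fun i => Equiv.ext fun u => by simpa using DFunLike.congr_fun e (.inl (i, u)))
    (Equiv.ext fun u => by simpa using DFunLike.congr_fun e (.inr u))
  cnj σ d z := by ext (⟨i, u⟩ | _) <;> simp
  ind σ x e := Equiv.ext fun i => by
    simpa using congrArg (Sum.elim Prod.fst fun _ => i) (DFunLike.congr_fun e (.inl (i, Classical.arbitrary U)))

theorem exists_wrP [hp : Fact p.Prime] (m r : ℕ) : ∃ w : Wr (Fin m) (zpowers (finRotate p)) Unit (Perm (Fin (p * m + r))),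
    (∀ σ, Perm.sign (w.π σ) = Perm.sign σ ^ p) ∧ ∀ i d, Perm.sign (w.δ i d) = Perm.sign d.1 := by
  haveI : Nonempty (Fin p) := ⟨⟨0, hp.out.pos⟩⟩
  let e : Fin m × Fin p ⊕ Fin r ≃ Fin (p * m + r) := Fintype.equivFinOfCardEq (by simp [mul_comm])
  refine ⟨((wrP (Fin m) (Fin p) (Fin r)).map e.permCongrHom.toMonoidHom e.permCongrHom.injective).comp
    (Subgroup.subtype _) 1 Subtype.val_injective fun _ _ _ => rfl, fun σ => ?_, fun i d => ?_⟩
  · refine (Perm.sign_permCongr e _).trans ((Perm.sign_sumCongr _ _).trans ?_)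
    rw [show prodCongr σ (.refl (Fin p)) = prodCongrLeft fun _ => σ from rfl, Perm.sign_prodCongrLeft]
    simp
  · refine (Perm.sign_permCongr e _).trans ((Perm.sign_sumCongr _ _).trans ?_)
    rw [Perm.sign_prodCongrRight, Finset.prod_eq_single i (fun j _ n => by simp [n]) (by simp)]
    simp

theorem card_rot [hp : Fact p.Prime] : ord (zpowers (finRotate p)) = p ^ 1 := by
  rw [Nat.card_zpowers, (isCycle_finRotate_of_le hp.out.two_le).orderOf, support_finRotate_of_le hp.out.two_le]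
  simp

theorem val_fact [hp : Fact p.Prime] (n : ℕ) :
    padicValNat p n.factorial = n / p + padicValNat p (n / p).factorial := by
  rw [padicValNat_mul_div_factorial n |>.symm, padicValNat_factorial_mul, add_comm]

theorem rot_pow [Fact p.Prime] (d : zpowers (finRotate p)) : d ^ p = 1 := by
  have := pow_card_eq_one' (x := d)
  rwa [card_rot, pow_one] at this

theorem exists_gp (p : ℕ) [hp : Fact p.Prime] (n : ℕ) :
    ∃ T : Subgroup (Perm (Fin n)), ord T = p ^ padicValNat p n.factorial ∧ GP p T := by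
  induction n using Nat.strong_induction_on with
  | _ n ih =>
  rcases n.eq_zero_or_pos with rfl | h
  · exact ⟨⊥, by simp, bot_le⟩
  obtain ⟨T, a, b⟩ := ih _ (Nat.div_lt_self h hp.out.one_lt)
  rw [val_fact]
  generalize n / p = m, (Nat.div_add_mod n p) = e at *
  obtain ⟨w, -⟩ := exists_wrP (p := p) m (n % p)
  rw [e] at w
  refine ⟨w.WG T, ?_, w.gp b rot_pow fun _ => rfl⟩
  rw [w.card_W, card_rot, a]; simp [pow_add]

end
end H3
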