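import Cfsg.Agent.H3.SylA
import Cfsg.Agent.H3.GL2e
import Cfsg.Agent.H4.Disc
import Cfsg.Agent.H4.Cover
import Cfsg.Agent.H8.PermMod

/-! # Sylow 2-subgroups of classical groups in odd characteristic -/

open Cfsg H7
open scoped commutatorElement MatrixGroups
set_option maxSynthPendingDepth 3

namespace H3
open Subgroup Equiv Module Finset
open H4 (Form Kind quadKind altKind)
open H2 (cj)
open scoped H2

noncomputable section
local notation "v₂" => padicValNat 2

section arith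
variable {q : ℕ}

theorem val_odd {x : ℕ} (h : Odd x) : v₂ x = 0 := padicValNat.eq_zero_of_not_dvd h.not_two_dvd_nat

theorem val_two {x : ℕ} (h : x % 4 = 2) : v₂ x = 1 := by
  obtain ⟨k, rfl⟩ : ∃ k, x = 2 * (2 * k + 1) := ⟨x / 4, by omega⟩
  rw [padicValNat.mul two_ne_zero (by omega), val_odd (odd_two_mul_add_one k)]; simp

theorem pow_sub_ne (h : 1 < q) (k : ℕ) : q ^ (k + 1) - 1 ≠ 0 := (Nat.sub_pos_of_lt (Nat.one_lt_pow k.succ_ne_zero h)).ne'

theorem val_sq (h : 1 < q) : v₂ (q ^ 2 - 1) = v₂ (q + 1) + v₂ (q - 1) := by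
  rw [← padicValNat.mul (by omega) (by omega), ← Nat.sq_sub_sq, one_pow]

theorem val_pow_even (o : Odd q) (h : 1 < q) (k : ℕ) : v₂ (q ^ (2 * (k + 1)) - 1) = v₂ (q ^ 2 - 1) + v₂ (k + 1) := by
  have := padicValNat.pow_two_sub_pow h (by obtain ⟨a, rfl⟩ := o; simp) o.not_two_dvd_nat (n := 2 * (k + 1)) (by omega)
    (even_two_mul _)
  rw [one_pow, padicValNat.mul two_ne_zero (by omega : k + 1 ≠ 0), padicValNat_self, ← val_sq h] at this
  omega

theorem val_pow_odd (o : Odd q) (h : 1 < q) (k : ℕ) : v₂ (q ^ (2 * k + 1) - 1) = v₂ (q - 1) := by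
  have a : Odd (∑ i ∈ range (2 * k + 1), q ^ i) := by
    rw [Finset.odd_sum_iff_odd_card_odd, filter_true_of_mem fun i _ => o.pow]; simp
  rw [← Nat.div_mul_cancel (Nat.sub_one_dvd_pow_sub_one q _), ← Nat.geomSum_eq h,
    padicValNat.mul a.pos.ne' (by omega), val_odd a, zero_add]

theorem val_prod (o : Odd q) (h : 1 < q) (m : ℕ) :
    v₂ (∏ i ∈ range m, (q ^ (2 * (i + 1)) - 1)) = m * v₂ (q ^ 2 - 1) + v₂ m.factorial := by
  induction m with
  | zero => simp
  | succ m ih =>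
    have z : ∀ i, q ^ (2 * (i + 1)) - 1 ≠ 0 := fun i => pow_sub_ne h (2 * i + 1)
    rw [prod_range_succ, padicValNat.mul (prod_ne_zero_iff.2 fun i _ => z i) (z m), ih,
      val_pow_even o h, Nat.factorial_succ, padicValNat.mul (by omega : m + 1 ≠ 0) m.factorial_ne_zero]
    ring

theorem val_gl (o : Odd q) (h : 1 < q) (n : ℕ) :
    v₂ (∏ i : Fin n, (q ^ n - q ^ (i : ℕ))) = v₂ (∏ i ∈ range n, (q ^ (i + 1) - 1)) := by
  rw [Fin.prod_univ_eq_prod_range (fun i => q ^ n - q ^ i), ← prod_range_reflect, prod_congr rfl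
    (g := fun i => q ^ (n - 1 - i) * (q ^ (i + 1) - 1)) fun i m => by
      rw [Nat.mul_sub, mul_one, ← pow_add]; congr 2; have := mem_range.1 m; omega,
    prod_mul_distrib, padicValNat.mul (prod_ne_zero_iff.2 fun i _ => by positivity)
      (prod_ne_zero_iff.2 fun i _ => pow_sub_ne h _), val_odd (Finset.prod_induction _ Odd (fun _ _ => Odd.mul) odd_one
        fun i _ => o.pow), zero_add]

theorem val_gl' (o : Odd q) (h : 1 < q) (m : ℕ) {r : ℕ} (l : r ≤ 1) : v₂ (∏ i ∈ range (2 * m + r), (q ^ (i + 1) - 1)) =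
    m * (v₂ (q - 1) + v₂ (q ^ 2 - 1)) + r * v₂ (q - 1) + v₂ m.factorial := by
  have k : ∀ m, v₂ (∏ i ∈ range (2 * m + 1), (q ^ (i + 1) - 1)) =
      v₂ (∏ i ∈ range (2 * m), (q ^ (i + 1) - 1)) + v₂ (q - 1) := fun m => by
    rw [prod_range_succ, padicValNat.mul (prod_ne_zero_iff.2 fun i _ => pow_sub_ne h _) (pow_sub_ne h _), val_pow_odd o h]
  have e : v₂ (∏ i ∈ range (2 * m), (q ^ (i + 1) - 1)) = m * (v₂ (q - 1) + v₂ (q ^ 2 - 1)) + v₂ m.factorial := by
    induction m with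
    | zero => simp
    | succ m ih =>
      rw [show 2 * (m + 1) = 2 * m + 1 + 1 by ring, prod_range_succ,
        padicValNat.mul (prod_ne_zero_iff.2 fun i _ => pow_sub_ne h _) (pow_sub_ne h _), k, ih,
        show 2 * m + 1 + 1 = 2 * (m + 1) by ring, val_pow_even o h, Nat.factorial_succ,
        padicValNat.mul m.succ_ne_zero m.factorial_ne_zero]
      ring
  rcases Nat.le_one_iff_eq_zero_or_eq_one.1 l with rfl | rfl
  · simpa using e
  · rw [k, e]; ring
end arith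

section grp
variable {G G' : Type*} [Group G] [Group G'] {N : Subgroup G} {p : ℕ}

theorem card_sylow [Finite G] [Fact p.Prime] (S : Sylow p G) : ord S.1 = p ^ padicValNat p (Nat.card G) := by
  rw [S.card_eq_multiplicity, Nat.factorization_def _ Fact.out]

theorem ep_inf_of_sylow [Finite G] [Fact p.Prime] [N.Normal] (S : Sylow p G) {j : G' →* G} (i : Function.Injective j)
    (r : j.range = N) (h : ∀ P : Sylow p G', EP p P.1) : EP p (S.1 ⊓ N) := by
  obtain ⟨P⟩ : Nonempty (Sylow p G') := inferInstance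
  obtain ⟨Q, hQ⟩ := P.exists_comap_eq_of_injective i
  obtain ⟨g, rfl⟩ := MulAction.exists_smul_eq G Q S
  have := ((h P).map j).map (MulAut.conj g).toMonoidHom
  rw [← hQ, map_comap_eq, r, inf_comm] at this
  rwa [Sylow.coe_subgroup_smul, ← cj_eq_smul, ← cj_normal g N, ← cj_inf]

theorem EP.top {P : Subgroup G} (h : EP p P) : EP p (⊤ : Subgroup P) :=
  .of_map P.subtype_injective (by rwa [map_subtype_top])

theorem EP.sub {P K : Subgroup G} (h : EP p (P ⊓ K)) : EP p (K.subgroupOf P) :=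
  .of_map P.subtype_injective (by rwa [subgroupOf_map_subtype, inf_comm])

theorem Wr.comp_δ {I D Z D' Z' : Type*} [Group D] [Group Z] [Group D'] [Group Z'] [DecidableEq I] (w : Wr I D Z G)
    (f : D' →* D) (g : Z' →* Z) (h k) (i : I) (d : D') : (w.comp f g h k).δ i d = w.δ i (f d) :=
  congrArg w.Δ (Prod.ext (funext fun j => Pi.apply_mulSingle (fun _ => f) (fun _ => f.map_one) i d j) g.map_one)

theorem Wr.comp_ζ {I D Z D' Z' : Type*} [Group D] [Group Z] [Group D'] [Group Z'] (w : Wr I D Z G)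
    (f : D' →* D) (g : Z' →* Z) (h k) (z : Z') : (w.comp f g h k).ζ z = w.ζ (g z) :=
  congrArg w.Δ (Prod.ext (funext fun _ => f.map_one) rfl)

theorem Wr.ep_mono {I D Z B : Type*} [CommGroup D] [Group Z] [CommGroup B] [Finite I] [DecidableEq I] (w : Wr I D Z G)
    {T : Subgroup (Perm I)} {φ : G →* B} (h : GP 2 T) (i : I) (tr : ∀ j, ∃ t ∈ T, t i = j)
    (a : ∀ d, φ (w.δ i d) = 1 → d = 1) (b : ∀ z : Z, z = 1)
    (c : ∀ t ∈ T, t ^ 2 = 1 → ∃ u : D, u ^ 4 = 1 ∧ φ (w.π t * w.δ i (u * u)) = 1) : EP 2 (w.WG T ⊓ φ.ker) := by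
  have cm : ∀ j k d e, Commute (w.δ j d) (w.δ k e) := fun j k d e => by
    by_cases z : j = k
    exacts [z ▸ (Commute.all d e).map _, w.δ_comm z]
  have hP : ∀ j k d, w.δ j d * w.δ k d⁻¹ ∈ w.WG T ⊓ φ.ker := fun j k d => ⟨mul_mem w.δ_mem w.δ_mem,
    show φ _ = 1 by rw [map_mul, w.φ_δ φ k j, ← map_mul, ← map_mul, mul_inv_cancel, map_one, map_one]⟩
  have A : ∀ t ∈ T, t ^ 2 = 1 → ∀ j d, (w.δ j d * w.δ (t j) d⁻¹) ^ 2 ∈ ⁅w.WG T ⊓ φ.ker, w.WG T ⊓ φ.ker⁆ :=
    fun t m e j d => by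
      obtain ⟨u, -, u1⟩ := c t m e
      convert commutator_mem_commutator (hP j (t j) d) (show w.π t * w.δ i (u * u) ∈ w.WG T ⊓ φ.ker from
        ⟨mul_mem (w.π_mem m) w.δ_mem, u1⟩) using 1
      refine (fun (x y : G) (e : x = y * x⁻¹ * y⁻¹) => show x ^ 2 = ⁅x, y⁆ by
        rw [commutatorElement_def, pow_two, mul_assoc, mul_assoc, ← mul_assoc y, ← e]) _ _ ?_
      rw [mul_assoc (w.π t), ((cm _ _ _ _).mul_right (cm _ _ _ _)).inv_right.eq, mul_inv_rev (w.π t), ← mul_assoc,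
        ← mul_assoc, mul_inv_cancel_right, ← conj_inv, ← conj_mul, w.π_δ, w.π_δ, ← Perm.mul_apply, ← pow_two, e,
        mul_inv_rev, ← map_inv, ← map_inv, inv_inv, Perm.one_apply]
  let K : Subgroup (Perm I) :=
    { carrier := {σ | ∀ j d, w.δ j d * w.δ (σ j) d⁻¹ ∈ Mp 2 (w.WG T ⊓ φ.ker)}
      one_mem' := fun j d => by rw [Perm.one_apply, ← map_mul, mul_inv_cancel, map_one]; exact one_mem _
      mul_mem' := fun {σ τ} s t j d => by
        have := mul_mem (t j d) (s (τ j) d)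
        rwa [mul_assoc, ← mul_assoc (w.δ (τ j) d⁻¹), ← map_mul, inv_mul_cancel, map_one, one_mul] at this
      inv_mem' := fun {σ} s j d => by
        have := inv_mem (s (σ⁻¹ j) d)
        rwa [mul_inv_rev, ← map_inv, ← map_inv, inv_inv, show σ (σ⁻¹ j) = j by simp] at this }
  have TK : T ≤ K := h.le fun t m e j d => mem_Mp.2 ⟨hP _ _ _, A t m e j d⟩
  refine ep_inf (R := (w.δ i).range) (by rintro _ ⟨d, rfl⟩; exact w.δ_mem) (eq_bot_iff.2 ?_)
    (w.W_le (fun j d => ?_) (fun z => by rw [b z, map_one]; exact one_mem _) (w.π_le h fun t m e => ?_))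
  · rintro _ ⟨⟨d, rfl⟩, k⟩; rw [a d k, map_one]; exact one_mem _
  · obtain ⟨t, m, rfl⟩ := tr j
    have := mul_mem (mem_sup_right (S := Mp 2 (w.WG T ⊓ φ.ker)) (show w.δ i d ∈ (w.δ i).range from ⟨_, rfl⟩))
      (mem_sup_left (TK m i d⁻¹))
    rwa [← mul_assoc, ← map_mul, mul_inv_cancel, map_one, one_mul, inv_inv] at this
  obtain ⟨u, u4, u1⟩ := c t m e
  refine (mul_mem_cancel_right (mem_sup_right (show w.δ i (u * u) ∈ (w.δ i).range from ⟨_, rfl⟩))).1
    (mem_sup_left (mem_Mp.2 ⟨⟨mul_mem (w.π_mem m) w.δ_mem, u1⟩, ?_⟩))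
  convert A t m e i u using 1
  have ti : (w.π t)⁻¹ = w.π t := inv_eq_of_mul_eq_one_right (by rw [← map_mul, ← pow_two, e, map_one])
  have u2 : u⁻¹ * u⁻¹ = u * u := by
    rw [← mul_inv, inv_eq_iff_mul_eq_one, ← u4]; simp only [pow_succ, pow_zero, one_mul, mul_assoc]
  rw [(cm _ _ _ _).mul_pow, pow_two, pow_two, pow_two, ← map_mul, ← map_mul, u2, ← mul_assoc, ← w.π_δ, ti]
  have := w.π_δ (i := i) (d := u * u) t
  rw [ti] at this
  rw [this]; exact (cm _ _ _ _).eq
end grp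

variable {F : Type*} [Field F] {K : Kind F} {I U Z : Type*} [AddCommGroup U] [Module F U] [AddCommGroup Z] [Module F Z]

variable (F I U Z) in
/-- imprimitive linear groups -/
def wrL [Nontrivial U] : Wr I (U ≃ₗ[F] U) (Z ≃ₗ[F] Z) (((I → U) × Z) ≃ₗ[F] ((I → U) × Z)) where
  Δ := MonoidHom.mk' (fun x => (LinearEquiv.piCongrRight x.1).prodCongr x.2) fun _ _ => rfl
  π := MonoidHom.mk' (fun σ => (LinearEquiv.funCongrLeft F U σ⁻¹).prodCongr (.refl F Z)) fun _ _ => rfl
  inj x y e := Prod.ext (funext fun i => LinearEquiv.ext fun u =>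
    congrArg (fun t => t.1 i) (DFunLike.congr_fun e (fun _ => u, 0)))
    (LinearEquiv.ext fun u => congrArg Prod.snd (DFunLike.congr_fun e (0, u)))
  cnj σ _ _ := LinearEquiv.ext fun x => Prod.ext (funext fun i => rfl) rfl
  ind σ x e := by
    classical
    obtain ⟨u, n⟩ := exists_ne (0 : U)
    refine Equiv.ext fun i => by_contra fun z => n ?_
    have : Pi.single (M := fun _ => U) i u (σ⁻¹ (σ i)) = x.1 (σ i) (Pi.single (M := fun _ => U) i u (σ i)) :=
      congrArg (fun t => t.1 (σ i)) (DFunLike.congr_fun e (Pi.single i u, 0))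
    rwa [show σ⁻¹ (σ i) = i by simp, Pi.single_eq_same, Pi.single_eq_of_ne (show σ i ≠ i from z), map_zero] at this

variable [Nontrivial U]
theorem wrL_Δ (d : I → U ≃ₗ[F] U) (z : Z ≃ₗ[F] Z) (x) : (wrL F I U Z).Δ (d, z) x = (fun i => d i (x.1 i), z x.2) := rfl
theorem wrL_π (σ : Perm I) (x) : (wrL F I U Z).π σ x = (fun i => x.1 (σ⁻¹ i), x.2) := rfl

theorem det_Δ [Fintype I] [FiniteDimensional F U] [FiniteDimensional F Z] (d : I → U ≃ₗ[F] U) (z : Z ≃ₗ[F] Z) :
    LinearEquiv.det ((wrL F I U Z).Δ (d, z)) = (∏ i, LinearEquiv.det (d i)) * LinearEquiv.det z := by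
  ext
  rw [LinearEquiv.coe_det, show ((wrL F I U Z).Δ (d, z)).toLinearMap =
    (LinearMap.pi fun i => (d i).toLinearMap.comp (LinearMap.proj i)).prodMap z.toLinearMap from rfl,
    LinearMap.det_prodMap,
    LinearMap.det_pi]
  simp

theorem det_δ [Fintype I] [DecidableEq I] [FiniteDimensional F U] [FiniteDimensional F Z] (i : I) (d : U ≃ₗ[F] U) :
    LinearEquiv.det ((wrL F I U Z).δ i d) = LinearEquiv.det d := by
  rw [Wr.δ_apply, det_Δ, prod_eq_single i (fun j _ n => by simp [n]) (by simp)]; simp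

theorem det_ζ [Fintype I] [FiniteDimensional F U] [FiniteDimensional F Z] (z : Z ≃ₗ[F] Z) :
    LinearEquiv.det ((wrL F I U Z).ζ z) = LinearEquiv.det z := (det_Δ 1 z).trans (by simp)

variable (F) in
/-- swap of coordinates -/
def swp : (Fin 2 → F) ≃ₗ[F] (Fin 2 → F) := LinearEquiv.funCongrLeft F F (swap 0 1)

theorem swp_apply (x : Fin 2 → F) : swp F x = ![x 1, x 0] := by ext i; fin_cases i <;> rfl
theorem swp_sq : swp F * swp F = 1 := by ext x i; fin_cases i <;> rfl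
theorem det_swp : LinearEquiv.det (swp F) = -1 := by
  ext; rw [LinearEquiv.coe_det, ← LinearMap.det_toMatrix', Matrix.det_fin_two]
  simp [swp_apply]

variable (F Z) in
/-- permute the first coordinates only -/
def prmA {t : Perm I} (h : t ^ 2 = 1) : ((I → Fin 2 → F) × Z) ≃ₗ[F] ((I → Fin 2 → F) × Z) :=
  .ofInvolutive ⟨⟨fun x => (fun i => ![x.1 (t i) 0, x.1 i 1], x.2), fun x y => by ext i k <;> [fin_cases k <;> rfl; rfl]⟩,
    fun c x => by ext i k <;> [fin_cases k <;> rfl; rfl]⟩ fun x => by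
      ext i k <;> [fin_cases k <;> [exact congrArg (x.1 · 0) (DFunLike.congr_fun ((pow_two t).symm.trans h) i); rfl]; rfl]

theorem prmA_apply {t : Perm I} (h : t ^ 2 = 1) (x) : prmA F Z h x = (fun i => ![x.1 (t i) 0, x.1 i 1], x.2) := rfl

theorem prmA_sq {t : Perm I} (h : t ^ 2 = 1) : prmA F Z h * prmA F Z h = 1 := LinearEquiv.ext fun x => by
  ext i k <;> [fin_cases k <;> [exact congrArg (x.1 · 0) (DFunLike.congr_fun ((pow_two t).symm.trans h) i); rfl]; rfl]

theorem π_eq {t : Perm I} (h : t ^ 2 = 1) : (wrL F I (Fin 2 → F) Z).π t * (wrL F I _ Z).Δ (fun _ => swp F, 1) =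
    prmA F Z h * ((wrL F I _ Z).Δ (fun _ => swp F, 1) * prmA F Z h) := LinearEquiv.ext fun x => by
  have : t⁻¹ = t := inv_eq_of_mul_eq_one_right ((pow_two t).symm.trans h)
  ext i k <;> [fin_cases k <;> simp [wrL_π, wrL_Δ, prmA_apply, swp_apply, this]; rfl]

theorem eq_one_of_π {G B : Type*} [Group G] [CommGroup B] (φ : G →* B) {x a c : G} (h : a * a = 1)
    (e : x * c = a * (c * a)) : φ x = 1 := by
  have := congrArg φ e
  rw [map_mul, map_mul, map_mul, mul_comm (φ c), ← mul_assoc, ← map_mul φ a, h, map_one] at this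
  exact mul_right_cancel this

theorem range_toLin' {ι : Type*} [Fintype ι] [DecidableEq ι] :
    (Matrix.SpecialLinearGroup.toLin' : Matrix.SpecialLinearGroup ι F →* _).range = LinearEquiv.det.ker := by
  ext g
  refine ⟨?_, fun h => ⟨⟨LinearMap.toMatrix' (g : (ι → F) →ₗ[F] _), ?_⟩, LinearEquiv.ext fun x => ?_⟩⟩
  · rintro ⟨A, rfl⟩
    exact Units.ext ((LinearEquiv.coe_det _).trans ((LinearMap.det_toLin' A.1).trans A.2))
  · rw [LinearMap.det_toMatrix', ← LinearEquiv.coe_det, MonoidHom.mem_ker.1 h]; rfl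
  · exact (Matrix.SpecialLinearGroup.toLin'_apply _ _).trans (DFunLike.congr_fun (Matrix.toLin'_toMatrix' _) x)

theorem det_inj {ι : Type*} [Fintype ι] [Subsingleton ι] {g : (ι → F) ≃ₗ[F] (ι → F)} (h : LinearEquiv.det g = 1) :
    g = 1 := by
  classical
  obtain ⟨A, rfl⟩ := range_toLin'.ge h
  rw [Subsingleton.elim A 1, map_one]

variable [Fintype F]

theorem ep_sl2 (o : Odd (Fintype.card F)) (S : Sylow 2 SL(2, F)) : EP 2 S.1 := by
  classical
  obtain ⟨A, n, w, y, a, -, -, -, -, m, -, d, -⟩ := G2.sylow_two o S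
  obtain ⟨k, l, ⟨e⟩⟩ := H4.quaternion_of_two_group (G2.two_ne o) S.2 fun z => by
    rcases H4.sl2_mem_center_iff.1 (G2.cen_sylow_two o S ▸ mem_cen.2 fun b h => z b h a m.2) with e | e
    exacts [(G2.ne_pm_of_four d).1 e, (G2.ne_pm_of_four d).2.1 e]
  obtain ⟨k, rfl⟩ := Nat.exists_eq_add_of_le' l
  obtain ⟨a, h, -⟩ := H1B.mx_of_quat e
  intro x m
  rw [h.der]
  by_cases c : x ∈ zpowers a
  · obtain ⟨k, rfl⟩ := c
    exact ⟨k, by simp only [← zpow_natCast, ← zpow_mul, mul_comm]⟩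
  · exact pow_two x ▸ h.sq_memB m c

theorem val_lin (o : Odd (Fintype.card F)) (n : ℕ) : v₂ (Nat.card ((Fin n → F) ≃ₗ[F] (Fin n → F))) =
    v₂ (∏ i ∈ range n, (Fintype.card F ^ (i + 1) - 1)) := by
  rw [← Nat.card_congr H4.glEquiv.toEquiv, Matrix.card_GL_field, val_gl o Fintype.one_lt_card]

instance finLin {V : Type*} [AddCommGroup V] [Module F V] [Finite V] : Finite (V ≃ₗ[F] V) :=
  .of_injective _ DFunLike.coe_injective

omit [Fintype F] in
theorem unit_pm {u : Fˣ} (h : u ^ 2 = 1) : u = 1 ∨ u = -1 :=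
  (sq_eq_one_iff.1 (congrArg Units.val h : (u : F) ^ 2 = 1)).imp Units.ext Units.ext

theorem pm_of_two (h : 4 ∣ Fintype.card F + 1) {u : Fˣ} {k : ℕ} (e : u ^ 2 ^ k = 1) : u = 1 ∨ u = -1 := by
  classical
  obtain ⟨j, -, a⟩ := (Nat.dvd_prime_pow Nat.prime_two).1 (orderOf_dvd_of_pow_eq_one e)
  have b := orderOf_dvd_card (x := u)
  rw [Fintype.card_units, a] at b
  have c : j ≤ 1 := by
    by_contra! z
    have : 4 ∣ Fintype.card F - 1 := (pow_dvd_pow 2 (show 2 ≤ j from z)).trans b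
    have := Fintype.card_pos (α := F)
    omega
  have : u ^ 2 = 1 := orderOf_dvd_iff_pow_eq_one.1 (a ▸ (pow_dvd_pow 2 c).trans (pow_one 2).dvd)
  exact (unit_pm this)

theorem neg_one_ne (o : Odd (Fintype.card F)) : (-1 : Fˣ) ≠ 1 := fun z =>
  G2.two_ne o (by have : (-1 : F) = 1 := congrArg Units.val z; linear_combination -this)

theorem ep_sl_three (o : Odd (Fintype.card F)) (h : 4 ∣ Fintype.card F + 1) {m r n : ℕ} (hm : 1 ≤ m) (l : r ≤ 1)
    (e : n = 2 * m + r) (P : Sylow 2 SL(n, F)) (x : P.1) : x ^ 2 ∈ commutator P.1 := by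
  classical
  subst e
  obtain ⟨m, rfl⟩ := Nat.exists_eq_add_of_le' hm
  have q1 := Fintype.one_lt_card (α := F)
  obtain ⟨T, a, b⟩ := exists_gp 2 (m + 1)
  obtain ⟨S, hS⟩ := (isPGroup_zpowers (p := 2) (k := 1) ((pow_two _).trans (swp_sq (F := F)))).exists_le_sylow
  obtain ⟨Q⟩ : Nonempty (Sylow 2 ((Fin r → F) ≃ₗ[F] (Fin r → F))) := inferInstance
  let e : ((Fin (m + 1) → Fin 2 → F) × (Fin r → F)) ≃ₗ[F] (Fin (2 * (m + 1) + r) → F) :=
    LinearEquiv.ofFinrankEq _ _ (by simp [Module.finrank_pi_fintype, mul_comm])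
  let w := ((wrL F (Fin (m + 1)) (Fin 2 → F) (Fin r → F)).map (H4.linConj e).toMonoidHom (H4.linConj e).injective).comp
    S.1.subtype Q.1.subtype Subtype.val_injective Subtype.val_injective
  have d1 : ∀ i d, LinearEquiv.det (w.δ i d) = LinearEquiv.det d.1 := fun i d => by
    refine (H4.det_linConj e _).trans ((det_Δ _ _).trans ?_)
    rw [prod_eq_single i (fun j _ n => by simp [n]) (by simp)]; simp
  have d2 : ∀ z, LinearEquiv.det (w.ζ z) = LinearEquiv.det z.1 := fun z =>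
    (H4.det_linConj e _).trans ((det_Δ _ _).trans (by simp))
  obtain ⟨k1, k2⟩ := w.val_W (card_sylow S) (card_sylow Q) a
  haveI : Subsingleton (Fin r) := Fin.subsingleton_iff_le_one.2 l
  have pm : ∀ {V : Type _} [AddCommGroup V] [Module F V] {S : Sylow 2 (V ≃ₗ[F] V)} (d : S.1),
      LinearEquiv.det d.1 = 1 ∨ LinearEquiv.det d.1 = -1 := fun {V _ _ S} d => by
    obtain ⟨k, e⟩ := S.2 d
    exact pm_of_two h (k := k) (by rw [← map_pow, ← Subgroup.coe_pow, e, OneMemClass.coe_one, map_one])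
  refine EP.sylow k1 (le_of_eq ?_) (w.ep_one b (fun t _ z => (H4.det_linConj e _).trans
    (eq_one_of_π _ (prmA_sq z) (π_eq z))) 0 (r := ⟨_, hS (mem_zpowers _)⟩) (Subtype.ext swp_sq)
    (by rw [d1, det_swp]; exact neg_one_ne o) (D₁ := LinearEquiv.det.ker.subgroupOf S.1)
    (ep_inf_of_sylow S Matrix.SpecialLinearGroup.toLin'_injective range_toLin' (ep_sl2 o)).sub
    (fun d m => (d1 0 d).trans m) (eq_top_iff.2 fun d _ => ?_) fun z => ?_)
    Matrix.SpecialLinearGroup.toLin'_injective range_toLin' P x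
  · have := val_gl' o q1 1 (Nat.zero_le 1)
    have := val_gl' o q1 0 l
    rw [k2, val_lin o, val_lin o, val_lin o, val_gl' o q1 _ l]
    simp_all
  · rcases pm d with z | z
    · exact mem_sup_left z
    · refine (mul_mem_cancel_right (mem_sup_right (mem_zpowers _))).1 (mem_sup_left ?_)
      show LinearEquiv.det (d.1 * swp F) = 1
      rw [map_mul, z, det_swp]; simp
  · rw [d1, d2, det_swp]
    refine ⟨Subtype.ext (det_inj ?_), (pm z).imp_left fun e => Subtype.ext (det_inj e)⟩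
    rw [Subgroup.coe_mul, map_mul]
    rcases pm z with e | e <;> simp [e]

theorem ep_sl_one (h : 4 ∣ Fintype.card F - 1) {j n : ℕ} (e : n = 2 * 2 ^ j) (P : Sylow 2 SL(n, F)) (x : P.1) :
    x ^ 2 ∈ commutator P.1 := by
  classical
  have q1 := Fintype.one_lt_card (α := F)
  have o : Odd (Fintype.card F) := Nat.odd_iff.2 (by omega)
  obtain ⟨T, a, b⟩ := exists_gp 2 n
  obtain ⟨ι, hι⟩ := (FiniteField.isSquare_neg_one_iff (F := F)).2 (by omega)
  obtain ⟨u, rfl⟩ : IsUnit ι := isUnit_iff_ne_zero.2 fun z => by simp [z] at hι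
  have u2 : u * u = -1 := Units.ext hι.symm
  have u4 : u ^ 4 = 1 := by rw [show 4 = 2 * 2 from rfl, pow_mul, pow_two u, u2]; simp
  obtain ⟨S, hS⟩ := (isPGroup_zpowers (p := 2) (k := 2) u4).exists_le_sylow
  let e' : ((Fin n → F) × (Fin 0 → F)) ≃ₗ[F] (Fin n → F) := LinearEquiv.ofFinrankEq _ _ (by simp)
  let w : Wr _ S.1 Unit _ := ((wrL F (Fin n) F (Fin 0 → F)).map (H4.linConj e').toMonoidHom (H4.linConj e').injective).comp
    ((DistribMulAction.toModuleAut F F).comp S.1.subtype) 1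
    (fun c d z => Subtype.ext (Units.ext (by simpa [Units.smul_def] using DFunLike.congr_fun z 1))) fun _ _ _ => rfl
  have d1 : ∀ i d, LinearEquiv.det (w.δ i d) = d.1 := fun i d => by
    refine (congrArg _ (Wr.comp_δ ..)).trans ((H4.det_linConj e' _).trans ((det_δ _ _).trans ?_))
    ext; simp [LinearEquiv.coe_det, Units.smul_def]
  obtain ⟨k1, k2⟩ := w.val_W (b := 0) (card_sylow S) (by simp) a
  obtain ⟨T, rfl⟩ := sylow_of_val (.of_card a) (by
    rw [a, padicValNat.prime_pow, Nat.card_eq_fintype_card, Fintype.card_perm, Fintype.card_fin])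
  have tr := H8.isPretransitive_sylow (Ω := Fin n) (f := j + 1) (by simp [e, pow_succ']) T
  let i : Fin n := ⟨0, by rw [e]; positivity⟩
  refine EP.sylow k1 (le_of_eq ?_) (w.ep_mono b i (fun k => ?_) (fun d z => Subtype.ext ((d1 i d).symm.trans z))
    (fun _ => rfl) fun t _ z => ?_) Matrix.SpecialLinearGroup.toLin'_injective range_toLin' P x
  · rw [k2, val_lin o, val_fact n, Nat.card_eq_fintype_card (α := Fˣ), Fintype.card_units, Nat.card_eq_fintype_card,
      Fintype.card_fin, e, Nat.mul_div_cancel_left _ two_pos]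
    refine (val_gl' o q1 _ (Nat.zero_le 1)).trans ?_
    rw [val_sq q1, val_two (x := Fintype.card F + 1) (by omega)]; ring
  · obtain ⟨t, e⟩ := tr.1 i k
    exact ⟨t, t.2, e⟩
  · have : LinearEquiv.det (w.π t) ^ 2 = 1 := by rw [← map_pow, ← map_pow, z, map_one, map_one]
    rcases unit_pm this with z | z
    · exact ⟨1, one_pow _, by simp [z]⟩
    · exact ⟨⟨u, hS (mem_zpowers _)⟩, Subtype.ext u4, by rw [map_mul, z, d1]; simp [u2]⟩

end
end H3
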