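import Cfsg.Agent.H3.SylB
import Cfsg.Agent.H4.Misc
import Cfsg.Agent.H4.Orth

/-! # Sylow 2-subgroups of symplectic and orthogonal groups in odd characteristic -/

open Cfsg H7
open scoped commutatorElement MatrixGroups
set_option maxSynthPendingDepth 3

namespace H3
open Subgroup Equiv Module Finset
open H4 (Form Kind quadKind altKind dick spin chi diagForm)

noncomputable section
local notation "v₂" => padicValNat 2
variable {F : Type*} [Field F] {K : Kind F} {I U Z V : Type*} [AddCommGroup U] [Module F U] [AddCommGroup Z] [Module F Z]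
  [AddCommGroup V] [Module F V] [Fintype I]

variable (I) in
/-- orthogonal sum of copies of `a` and of `b` -/
def sumF (a : Form K U) (b : Form K Z) : Form K ((I → U) × Z) where
  B := LinearMap.mk₂'ₛₗ K.σ (RingHom.id F) (fun x y => ∑ i, a.B (x.1 i) (y.1 i) + b.B x.2 y.2)
    (fun x y z => by simp [sum_add_distrib]; ring) (fun c x y => by simp [a.B_smul_left, b.B_smul_left, mul_sum, mul_add])
    (fun x y z => by simp [sum_add_distrib]; ring) (fun c x y => by simp [mul_sum, mul_add])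
  Q x := ∑ i, a.Q (x.1 i) + b.Q x.2
  symm x y := by simp [a.symm (x.1 _), b.symm x.2, mul_sum, mul_add]
  Q_add x y := by simp [a.Q_add, b.Q_add, sum_add_distrib]; ring
  Q_smul c x := by simp [a.Q_smul, b.Q_smul, mul_sum, mul_add]
  B_self x t h := by
    choose s hs using a.tv
    obtain ⟨r, hr⟩ := b.tv x.2
    have := b.B_self 0 (t - (∑ i, s (x.1 i) + r)) (by simp [h, hs, hr, b.Q_zero])
    simp only [LinearMap.mk₂'ₛₗ_apply, a.B_self _ _ (hs _), b.B_self _ _ hr, sum_add_distrib, ← mul_sum]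
    simp only [map_zero, map_sub, map_add, map_sum] at this
    linear_combination this
  tv x := by
    choose s hs using a.tv
    obtain ⟨r, hr⟩ := b.tv x.2
    exact ⟨∑ i, s (x.1 i) + r, by simp [hs, hr]⟩

variable {a : Form K U} {b : Form K Z}
theorem sumF_B (x y) : (sumF I a b).B x y = ∑ i, a.B (x.1 i) (y.1 i) + b.B x.2 y.2 := rfl
theorem sumF_Q (x) : (sumF I a b).Q x = ∑ i, a.Q (x.1 i) + b.Q x.2 := rfl

theorem sumF_ND (h : a.ND) (k : b.ND) : (sumF I a b).ND := fun x z => by
  classical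
  refine Prod.ext (funext fun i => h _ fun u => ?_) (k _ fun u => by simpa [sumF_B] using z (0, u))
  have := z (Pi.single i u, 0)
  rw [sumF_B, sum_eq_single i (fun j _ n => by simp [n]) (by simp)] at this
  simpa using this

variable (I a b) in
/-- imprimitive isometry groups -/
def wrI [Nontrivial U] : Wr I a.Isom b.Isom (sumF I a b).Isom :=
  ((wrL F I U Z).comp a.Isom.subtype b.Isom.subtype Subtype.val_injective Subtype.val_injective).cod _
    (fun x => ⟨fun u v => congrArg₂ (· + ·) (sum_congr rfl fun i _ => (x.1 i).2.1 _ _) (x.2.2.1 _ _),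
      fun u => congrArg₂ (· + ·) (sum_congr rfl fun i _ => (x.1 i).2.2 _) (x.2.2.2 _)⟩)
    fun σ => ⟨fun u v => congrArg (· + _) (Equiv.sum_comp σ⁻¹ fun i => a.B (u.1 i) (v.1 i)),
      fun u => congrArg (· + _) (Equiv.sum_comp σ⁻¹ fun i => a.Q (u.1 i))⟩

variable (F) in
/-- the symplectic plane -/
def a2 : Form (altKind F) (Fin 2 → F) :=
  H4.altForm (LinearMap.mk₂ F (fun x y => x 0 * y 1 - x 1 * y 0) (by intros; simp; ring) (by intros; simp; ring)
    (by intros; simp; ring) (by intros; simp; ring)) fun x => by simp [mul_comm]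

theorem a2_B (x y) : (a2 F).B x y = x 0 * y 1 - x 1 * y 0 := rfl

theorem a2_ND : (a2 F).ND := fun x h => by
  have a := h ![1, 0]
  have b := h ![0, 1]
  rw [a2_B] at a b
  ext i; fin_cases i
  exacts [by simpa using b, by simpa using a]

variable (F) in
/-- `SL₂ = Sp₂` -/
def slI : SL(2, F) →* (a2 F).Isom := Matrix.SpecialLinearGroup.toLin'.codRestrict _ fun A => by
  refine (H4.alt_mem_Isom _).2 fun x y => ?_
  have := A.2
  rw [Matrix.det_fin_two] at this
  simp [a2_B, Matrix.SpecialLinearGroup.toLin'_apply, Matrix.mulVec, dotProduct]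
  linear_combination (x 0 * y 1 - x 1 * y 0) * this

theorem prod_sub_ne {q : ℕ} (h : 1 < q) (m : ℕ) : ∏ i ∈ range m, (q ^ (2 * (i + 1)) - 1) ≠ 0 :=
  prod_ne_zero_iff.2 fun i _ => pow_sub_ne h (2 * i + 1)

variable [Fintype F]

theorem ep_sp (o : Odd (Fintype.card F)) (n : ℕ) (P : Sylow 2 (Matrix.symplecticGroup (Fin n) F)) (x : P.1) :
    x ^ 2 ∈ commutator P.1 := by
  classical
  have q1 := Fintype.one_lt_card (α := F)
  obtain ⟨T, a, b⟩ := exists_gp 2 n
  obtain ⟨S⟩ : Nonempty (Sylow 2 SL(2, F)) := inferInstance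
  have nd := sumF_ND (I := Fin n) a2_ND (H4.spForm_ND 0 F)
  have d : finrank F ((Fin n → Fin 2 → F) × (Fin 0 ⊕ Fin 0 → F)) = 2 * n := by simp [Module.finrank_pi_fintype, mul_comm]
  obtain ⟨e, he⟩ := H4.alt_exists_isIso _ _ _ _ _ (H4.spForm_ND n F) nd (by simp [two_mul]) d
  let w : Wr _ S.1 Unit _ := (wrI (Fin n) (a2 F) (H4.spForm 0 F)).comp ((slI F).comp S.1.subtype) 1
    (fun c d z => Subtype.ext (Matrix.SpecialLinearGroup.toLin'_injective (congrArg Subtype.val z))) fun _ _ _ => rfl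
  obtain ⟨k1, k2⟩ := w.val_W (b := 0) (card_sylow S) (by simp) a
  refine EP.sylow (N := ⊤) k1 (le_of_eq ?_) (by
    rw [inf_top_eq]; exact w.ep b (ep_sl2 o S).top fun _ _ => one_mem _)
    (j := ((H4.spEquiv n F).trans he.isomEquiv).toMonoidHom) (MulEquiv.injective _)
    (MonoidHom.range_eq_top.2 (MulEquiv.surjective _)) P x
  rw [k2, H4.alt_card_Isom n _ _ nd d, H4.card_sl2, Nat.card_eq_fintype_card (α := F),
    padicValNat.mul (by positivity) (prod_sub_ne q1 n), val_odd o.pow, val_prod o q1,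
    padicValNat.mul (mul_ne_zero (by omega) (by omega)) (by omega), padicValNat.mul (by omega) (by omega), val_odd o,
    val_sq q1]
  simp [add_comm]

local notation "q" => Fintype.card F

theorem val_mid (o : Odd q) (k m : ℕ) {x : ℕ} (h : x ≠ 0) : v₂ (2 * q ^ k * x * ∏ i ∈ range m, (q ^ (2 * (i + 1)) - 1)) =
    1 + v₂ x + (m * v₂ (q ^ 2 - 1) + v₂ m.factorial) := by
  have q1 := Fintype.one_lt_card (α := F)
  rw [padicValNat.mul (by positivity) (prod_sub_ne q1 m), val_prod o q1,
    padicValNat.mul (by positivity) h, padicValNat.mul two_ne_zero (by positivity), val_odd o.pow, padicValNat_self]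

variable [FiniteDimensional F V] {f : Form (quadKind F) V}

theorem val_O_odd (o : Odd q) (h : f.ND) {m : ℕ} (d : finrank F V = 2 * m + 1) :
    v₂ (Nat.card f.Isom) = 1 + (m * v₂ (q ^ 2 - 1) + v₂ m.factorial) := by
  rw [H4.odd_card_Isom m _ _ h d, Nat.card_eq_fintype_card, ← mul_one (2 * _), val_mid o _ _ one_ne_zero]; simp

theorem val_O_even (o : Odd q) (h : f.ND) {m : ℕ} (d : finrank F V = 2 * (m + 1)) : v₂ (Nat.card f.Isom) =
    if f.disc = 1 then (m + 1) * v₂ (q ^ 2 - 1) + v₂ (m + 1).factorial else 2 + (m * v₂ (q ^ 2 - 1) + v₂ m.factorial) := by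
  have q1 := Fintype.one_lt_card (α := F)
  have h2 := G2.two_ne o
  have Q1 := Nat.one_lt_pow (by omega : m + 1 ≠ 0) q1
  have a := val_sq Q1
  rw [← pow_mul, mul_comm, val_pow_even o q1] at a
  have b := H4.hasTS_iff_disc h2 h d
  have c := H4.chi_neg_one_pow_eq_one_iff h2 (m + 1)
  rw [Nat.card_eq_fintype_card] at c
  have e := Nat.odd_iff.1 (o.pow (n := m + 1))
  have s1 := @val_two (q ^ (m + 1) + 1)
  have s2 := @val_two (q ^ (m + 1) - 1)
  rw [Nat.factorial_succ, padicValNat.mul (by omega : m + 1 ≠ 0) m.factorial_ne_zero]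
  by_cases t : f.HasTS (m + 1)
  · rw [H4.plus_card_Isom m _ _ h d t, Nat.card_eq_fintype_card, val_mid o _ _ (by omega), b.1 t]
    split_ifs with z
    · have := s1 (by have := c.1 z; omega)
      linarith
    · have := s2 (by have := mt c.2 z; omega)
      linarith
  · rw [H4.minus_card_Isom m _ _ h d t, Nat.card_eq_fintype_card, val_mid o _ _ (by omega)]
    split_ifs with z
    · have := s2 (by have := mt c.2 fun y => t (b.2 (z.trans y.symm)); omega)
      linarith
    · have := s1 (by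
        have := c.1 (by_contra fun y => t (b.2 ((Int.units_eq_one_or _).resolve_left z |>.trans
          ((Int.units_eq_one_or _).resolve_left y).symm)))
        omega)
      linarith

omit [Fintype F] in
theorem disc_sumF (h2 : (2 : F) ≠ 0) [FiniteDimensional F Z] (b : Form (quadKind F) Z) :
    (sumF I (diagForm h2 fun _ : Fin 2 => 1) b).disc = b.disc := by
  classical
  rw [H4.disc_eq _ ((Pi.basis fun _ => Pi.basisFun F (Fin 2)).prod (finBasis F Z)), Form.disc]
  congr 1
  rw [← one_mul (Matrix.det (b.gram _)), ← Matrix.det_one (n := Σ _ : I, Fin 2), ← Matrix.det_fromBlocks_zero₂₁ (B := 0)]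
  congr 1
  ext (⟨i, k⟩ | i) (⟨j, l⟩ | j) <;> simp [Form.gram_app, sumF_B, H4.diagForm_B]
  rw [sum_eq_single i (fun x _ n => by simp [n]) (by simp)]
  by_cases e : i = j
  · subst e; fin_cases k <;> fin_cases l <;> simp
  · simp [e, Matrix.one_apply]

omit [Fintype F] in
theorem sq_of_dick (h2 : (2 : F) ≠ 0) {d : (diagForm h2 fun _ : Fin 2 => 1).Isom} (h : dick d = -1) : d * d = 1 := by
  have nd := H4.diagForm_ND h2 (w := fun _ : Fin 2 => 1) fun _ => one_ne_zero
  have a := H4.idet_eq_dick nd (H4.hgen_odd nd h2) d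
  rw [h, Form.coe_idet, ← LinearMap.det_toMatrix', Matrix.det_fin_two] at a
  have e : ∀ x, d.1 x = x 0 • d.1 (Pi.single 0 1) + x 1 • d.1 (Pi.single 1 1) := fun x => by
    rw [← map_smul, ← map_smul, ← map_add]; congr 1; ext i; fin_cases i <;> simp
  have b := d.2.1 (Pi.single 0 1) (Pi.single 0 1)
  have c := d.2.1 (Pi.single 0 1) (Pi.single 1 1)
  have g := d.2.1 (Pi.single 1 1) (Pi.single 1 1)
  simp [H4.diagForm_B] at a b c g
  refine Subtype.ext (LinearEquiv.ext fun x => ?_)
  show d.1 (d.1 x) = x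
  rw [e, e x]
  generalize d.1 (Pi.single 0 1) = u at *
  generalize d.1 (Pi.single 1 1) = v at *
  have k1 : v 1 = -u 0 := by linear_combination u 0 * a - v 1 * b + u 1 * c
  have k2 : v 0 = u 1 := by linear_combination -u 1 * a - v 0 * b + u 0 * c
  ext i; fin_cases i <;> simp [k1, k2]
  · linear_combination x 0 * b
  · linear_combination x 1 * b

theorem ep_sum (o : Odd q) [FiniteDimensional F Z] {b : Form (quadKind F) Z} (nb : b.ND) {m : ℕ} (hm : 2 ≤ m)
    (hb : ∀ z : b.Isom, z ∈ commutator b.Isom → (∃ k, z ^ 2 ^ k = 1) → z = 1)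
    (v : v₂ (Nat.card (sumF (Fin m) (diagForm (G2.two_ne o) fun _ : Fin 2 => 1) b).Isom) ≤
      m * v₂ (q ^ 2 - 1) + v₂ (Nat.card b.Isom) + v₂ m.factorial)
    {G : Type*} [Group G] (e : G ≃* (sumF (Fin m) (diagForm (G2.two_ne o) fun _ : Fin 2 => 1) b).Isom)
    (P : Sylow 2 (commutator G)) (x : P.1) : x ^ 2 ∈ commutator P.1 := by
  classical
  have h2 := G2.two_ne o
  set a := diagForm h2 fun _ : Fin 2 => 1
  have na : a.ND := H4.diagForm_ND h2 fun _ => one_ne_zero
  have nd := sumF_ND (I := Fin m) na nb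
  have : Finite Z := Module.finite_of_finite F
  obtain ⟨T, t1, t2⟩ := exists_gp 2 m
  obtain ⟨S⟩ : Nonempty (Sylow 2 a.Isom) := inferInstance
  obtain ⟨Q⟩ : Nonempty (Sylow 2 b.Isom) := inferInstance
  let w := (wrI (Fin m) a b).comp S.1.subtype Q.1.subtype Subtype.val_injective Subtype.val_injective
  let φ := (H4.dickHom nd (H4.hgen_odd nd h2)).prod (H4.spinHom nd (H4.hgen_odd nd h2))
  let ψ := (H4.dickHom na (H4.hgen_odd na h2)).prod (H4.spinHom na (H4.hgen_odd na h2))
  have d1 : ∀ i d, φ (w.δ i d) = (dick d.1, spin d.1) := fun i d => by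
    have := H4.dick_spin_embed nd ((LinearMap.inl F _ Z).comp (LinearMap.single F (fun _ => Fin 2 → F) i))
      (LinearMap.inl_injective.comp (Pi.single_injective (M := fun _ => Fin 2 → F) i)) (g := w.δ i d) (g' := d.1) (fun x y => by
        rw [sumF_B, sum_eq_single i (fun j _ n => by simp [n]) (by simp)]; simp) (fun x => by
        refine Prod.ext (funext fun j => ?_) rfl
        show (Pi.mulSingle (M := fun _ => S.1) i d j).1.1 (Pi.single (M := fun _ => Fin 2 → F) i x j) =
          Pi.single (M := fun _ => Fin 2 → F) i _ j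
        by_cases z : j = i <;> simp [z]) fun y => ⟨y.1 i, by
        refine Prod.ext (funext fun j => ?_) rfl
        show (Pi.mulSingle (M := fun _ => S.1) i d j).1.1 (y.1 j - Pi.single (M := fun _ => Fin 2 → F) i _ j) =
          y.1 j - Pi.single (M := fun _ => Fin 2 → F) i _ j
        by_cases z : j = i <;> simp [z]⟩
    exact Prod.ext this.1 this.2
  have d2 : ∀ z, φ (w.ζ z) = (dick z.1, spin z.1) := fun z => by
    have := H4.dick_spin_embed nd (LinearMap.inr F _ Z) LinearMap.inr_injective (g := w.ζ z) (g' := z.1)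
      (fun x y => by simp [sumF_B]) (fun x => rfl) fun y => ⟨y.2, Prod.ext rfl (by
        show z.1.1 (y.2 - y.2) = y.2 - y.2
        simp)⟩
    exact Prod.ext this.1 this.2
  obtain ⟨k1, k2⟩ := w.val_W (card_sylow S) (card_sylow Q) t1
  have sj : Function.Surjective ψ := fun y => by
    obtain ⟨g, g1, g2⟩ := H4.dick_spin_surjective na h2 (by simp) y.1 y.2
    exact ⟨g, Prod.ext g1 g2⟩
  have st : ∀ y, ∃ d : S.1, (dick d.1, spin d.1) = y := fun y => by
    obtain ⟨d, d1, d2⟩ := ((S.mapSurjective sj).3 (Q := ⊤) ((IsPGroup.of_card (n := 2) (by simp)).to_subgroup ⊤) le_top).le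
      (mem_top y)
    exact ⟨⟨d, d1⟩, d2⟩
  obtain ⟨r, hr⟩ := st (-1, 1)
  obtain ⟨s, hs⟩ := st (-1, -1)
  have sq : ∀ {d : S.1}, dick d.1 = -1 → d * d = 1 := fun h => Subtype.ext (sq_of_dick h2 h)
  have sw : swp F ∈ a.Isom := (H4.quad_mem_Isom _).2 fun x => by simp [a, H4.diagForm_Q, swp_apply, add_comm]
  refine EP.sylow (N := φ.ker) k1 (v.trans (le_of_eq ?_)) (w.ep_two t2 (fun t _ z => eq_one_of_π φ
    (a := ⟨prmA F Z z, (H4.quad_mem_Isom _).2 fun x => ?_⟩) (c := (wrI (Fin m) a b).Δ (fun _ => ⟨_, sw⟩, 1))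
    (Subtype.ext (prmA_sq z)) (Subtype.ext (π_eq z))) (i := ⟨0, by omega⟩) (j := ⟨1, by omega⟩) (by simp) (r := r) (s := s)
    (sq (congrArg Prod.fst hr)) (sq (congrArg Prod.fst hs)) (by rw [d1, hr]; decide) (by rw [d1, hs]; decide)
    (by rw [d1, d1, hr, hs]; decide) (fun d _ => ?_) fun z => ?_)
    (j := e.toMonoidHom.comp (commutator G).subtype) (e.injective.comp Subtype.val_injective) ?_ P x
  · rw [k2, val_O_even o na (m := 0) (by simp), H4.diagForm_disc]; simp [H4.chi_one]
  · simp only [sumF_Q, prmA_apply, a, H4.diagForm_Q, Fin.sum_univ_two, add_div, sum_add_distrib, Matrix.cons_val_zero,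
      Matrix.cons_val_one]
    rw [Equiv.sum_comp t fun i => 1 * x.1 i 0 * x.1 i 0 / 2]
  · have k : ∀ d : S.1, dick d.1 = -1 → d ∈ closure {d | d * d = 1 ∧ (φ (w.δ ⟨0, by omega⟩ d) = φ (w.δ ⟨0, by omega⟩ r) ∨
        φ (w.δ ⟨0, by omega⟩ d) = φ (w.δ ⟨0, by omega⟩ s))} := fun d h => subset_closure ⟨sq h, by
      rw [d1, d1, d1, hr, hs, h]; rcases Int.units_eq_one_or (spin d.1) with z | z <;> simp [z]⟩
    rcases Int.units_eq_one_or (dick d.1) with z | z
    · exact (mul_mem_cancel_right (k r (congrArg Prod.fst hr))).1 (k _ (by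
        rw [Subgroup.coe_mul, H4.dick_mul na (H4.hgen_odd na h2), z, one_mul]; exact congrArg Prod.fst hr))
    · exact k d z
  · have g := H4.hgen_odd nb h2
    have u : ∀ y : Q.1, dick y.1 = 1 → spin y.1 = 1 → y = 1 := fun y y1 y2 => Subtype.ext
      (hb _ ((H4.mem_commutator_iff nb g).2 ⟨y1, y2⟩) ((Q.2 y).imp fun k e => congrArg Subtype.val e))
    refine ⟨u _ (by rw [Subgroup.coe_mul, H4.dick_mul nb g, Int.units_mul_self])
      (by rw [Subgroup.coe_mul, H4.spin_mul nb g, Int.units_mul_self]), ?_⟩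
    rw [d2, d1, d1, hr, hs]
    rcases Int.units_eq_one_or (dick z.1) with y | y <;> rcases Int.units_eq_one_or (spin z.1) with y' | y'
    exacts [.inl (u z y y'), by simp [y, y'], by simp [y, y'], by simp [y, y']]
  · rw [MonoidHom.range_comp, range_subtype, map_commutator_eq, MonoidHom.range_eq_top.2 e.surjective]
    ext g
    rw [← _root_.commutator_def, H4.mem_commutator_iff nd (H4.hgen_odd nd h2), MonoidHom.mem_ker, Prod.ext_iff]; rfl

theorem ep_omega (o : Odd q) (h : f.ND) (d : 5 ≤ finrank F V ∨ finrank F V = 4 ∧ f.disc = 1)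
    {G : Type*} [Group G] (e : G ≃* f.Isom) (P : Sylow 2 (commutator G)) (x : P.1) : x ^ 2 ∈ commutator P.1 := by
  classical
  have h2 := G2.two_ne o
  have na := H4.diagForm_ND h2 (w := fun _ : Fin 2 => 1) fun _ => one_ne_zero
  have key : ∀ (m r : ℕ) (c : Fin r → F), (∀ i, c i ≠ 0) → finrank F V = 2 * m + r → f.disc = chi (∏ i, c i) → 2 ≤ m →
      (∀ z : (diagForm h2 c).Isom, z ∈ commutator _ → (∃ k, z ^ 2 ^ k = 1) → z = 1) →
      v₂ (Nat.card f.Isom) ≤ m * v₂ (q ^ 2 - 1) + v₂ (Nat.card (diagForm h2 c).Isom) + v₂ m.factorial →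
      x ^ 2 ∈ commutator P.1 := fun m r c c0 n s l z v => by
    have nb := H4.diagForm_ND h2 c0
    obtain ⟨i, hi⟩ := H4.odd_exists_isIso h2 _ _ _ _ _ h (sumF_ND (I := Fin m) na nb) n
      (by simp [Module.finrank_pi_fintype, mul_comm]) (by rw [disc_sumF, H4.diagForm_disc, s])
    exact ep_sum o nb l z (Nat.card_congr hi.isomEquiv.toEquiv ▸ v) (e.trans hi.isomEquiv) P x
  have one : ∀ {r : ℕ} (c : Fin r → F), (∀ i, c i ≠ 0) → r ≤ 1 → ∀ z : (diagForm h2 c).Isom, z ∈ commutator _ →
      (∃ k, z ^ 2 ^ k = 1) → z = 1 := fun c c0 l z m _ => by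
    haveI := Fin.subsingleton_iff_le_one.2 l
    exact Subtype.ext (det_inj (Abelianization.commutator_subset_ker (diagForm h2 c).idet m))
  obtain ⟨δ, hδ⟩ : ∃ δ : F, ¬IsSquare δ := FiniteField.exists_nonsquare fun z => h2 (by
    simpa using (ringChar.spec F 2).2 z.dvd)
  have δ0 : δ ≠ 0 := fun z => hδ (z ▸ IsSquare.zero)
  obtain ⟨m, n | n⟩ := Nat.even_or_odd' (finrank F V)
  · by_cases s : f.disc = 1
    · obtain ⟨m, rfl⟩ : ∃ k, m = k + 1 := ⟨m - 1, by omega⟩
      refine key (m + 1) 0 (fun _ => 1) (by simp) n (by simp [s, H4.chi_one]) (by omega) (one _ (by simp) (by simp)) ?_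
      rw [val_O_even o h n, if_pos s]; omega
    · obtain ⟨m, rfl⟩ : ∃ k, m = k + 1 := ⟨m - 1, by omega⟩
      have c0 : ∀ i, (![1, δ] : Fin 2 → F) i ≠ 0 := fun i => by fin_cases i <;> simp [δ0]
      have c1 : chi (∏ i, (![1, δ] : Fin 2 → F) i) = -1 := by simpa using H4.chi_eq_neg_one.2 hδ
      have nb := H4.diagForm_ND h2 c0
      have v := val_O_even o nb (m := 0) (by simp)
      rw [H4.diagForm_disc, c1, if_neg (by decide)] at v
      refine key m 2 _ c0 n (c1 ▸ (Int.units_eq_one_or _).resolve_left s) (by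
        rcases d with d | d; omega; exact (s d.2).elim) (fun z y ⟨k, t⟩ => ?_) ?_
      · rw [← (commutator _).card_mul_index, H4.index_commutator_odd nb h2 (by simp),
          padicValNat.mul (card_pos' _).ne' (by simp), show 4 = 2 ^ 2 from rfl, padicValNat.prime_pow] at v
        refine orderOf_eq_one_iff.1 (Nat.eq_one_of_dvd_coprimes (Nat.Coprime.pow_left k ((Nat.Prime.coprime_iff_not_dvd
          Nat.prime_two).2 fun u => ?_)) (orderOf_dvd_of_pow_eq_one t) (orderOf_dvd_natCard _ y))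
        have := one_le_padicValNat_of_dvd (card_pos' _).ne' u
        rw [Nat.factorial_zero, padicValNat_one_right, zero_mul] at v
        exact Nat.one_le_iff_ne_zero.1 this (add_right_cancel (v.trans (zero_add 2).symm))
      · rw [val_O_even o h n, if_neg s, v]; simp; omega
  · obtain ⟨c, c0, c1⟩ : ∃ c : F, c ≠ 0 ∧ f.disc = chi c := by
      rcases Int.units_eq_one_or f.disc with z | z
      exacts [⟨1, one_ne_zero, z.trans H4.chi_one.symm⟩, ⟨δ, δ0, z.trans (H4.chi_eq_neg_one.2 hδ).symm⟩]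
    refine key m 1 (fun _ => c) (fun _ => c0) n (by simpa using c1) (by omega) (one _ (fun _ => c0) le_rfl) ?_
    rw [val_O_odd o h n, val_O_odd o (H4.diagForm_ND h2 fun _ => c0) (m := 0) (by simp)]; simp; omega

end
end H3
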